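import Mathlib
import Cfsg.Agent.H524.LinReg_m3
import Cfsg.Agent.H182.CentOrth
import Cfsg.Agent.Lib.Zsigmondy
import Cfsg.Agent.Prune
set_option linter.all false
prune_inst 0x7f00000000000000000000000000000000000000000000000000000000000000000000000000000000000000000000000000000000000000000000000000000000000000000000000000000000000000003fffffffffffffffffffffffffffbeffbdffffffff
open scoped Cfsg.Agent.FastGrp

/-!
# Elements of `Ω(Q)` with prescribed fixed space, for `RegB` (helper877, for S4129)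

* `exists_omega`: the square of `g ⊥ 1`, for an isometry `g` of a form in dimension `2n < 2m`;
* `exists_single`, `exists_double`: elements of prime order `t ∣ |F|² - 1` with a fixed space of codimension 2, 4;
* `exists_odd`: elements of odd prime order with a fixed space of dimension at least `2 (m - n)`;
* `mid`, `small`, `comm`: the linear criterion for `PΩ(Q)`.
-/

set_option autoImplicit false
set_option linter.unusedSectionVars false

namespace Cfsg.Agent.H877.RegOm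

open Module QuadraticMap
open Cfsg.Agent.LieClassical.OrthCore Cfsg.Agent.LieClassical.OrthForms
open Cfsg.Agent.H182.Sign Cfsg.Agent.H182.Orth Cfsg.Agent.H182.Cent
open Cfsg.Agent.H524.LinReg Cfsg.Agent.H524.DirRed

section

variable {F : Type*} [Field F] [Finite F] {ι : Type} [Fintype ι] [DecidableEq ι]
  {Q : QuadraticForm F (ι → F)} {m : ℕ} {ε₀ : ℤ}

theorem card_eq (hQ : Sg Q m ε₀) : Fintype.card ι = 2 * m := by
  rw [← Module.finrank_fintype_fun_eq_card F, hQ.dim]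

/-- The square of `g ⊥ 1`. -/
theorem exists_omega (hQ : Sg Q m ε₀) (hm : 3 ≤ m) {V : Type*} [AddCommGroup V] [Module F V] [Finite V]
    {P : QuadraticForm F V} {n : ℕ} {ε : ℤ} (hP : Sg P n ε) (hn : n < m) {g : Module.End F V}
    (hg : ∀ v, P (g v) = P v) (ho : 0 < orderOf g) :
    ∃ y : Cfsg.Omega F ⇑Q, orderOf y = orderOf (g ^ 2) ∧
      finrank F (fx (rho (⇑Q)) y) = finrank F (LinearMap.ker (g ^ 2 - 1)) + 2 * (m - n) := by
  have hfd : FiniteDimensional F V := Module.Finite.of_finite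
  obtain ⟨-, d, P', -, hP', -, -⟩ := elt_one (F := F) (n := m - n) (by omega) (ε := ε * ε₀) (by
    rcases hP.eps with rfl | rfl <;> rcases hQ.eps with rfl | rfl <;> simp)
  have hs := hP.prod hP'
  rw [Nat.add_sub_cancel' hn.le, show ε * (ε * ε₀) = ε₀ by rcases hP.eps with rfl | rfl <;> simp] at hs
  obtain ⟨e, he⟩ := hs.exists_equiv hQ
  obtain ⟨h, hho, hpow⟩ := exists_isometry Q e he (g.prodMap 1) (N := orderOf g) (fun v => by
    rw [prodForm_apply, prodForm_apply, LinearMap.prodMap_apply, hg]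
    rfl) ho (by rw [orderOf_prodMap, orderOf_one, Nat.lcm_one_right])
  have hnd : (polarBilin Q).Nondegenerate := nondegenerate_iff_nondeg.2 hQ.nondeg
  have hc := card_eq hQ
  let y : Cfsg.Omega F ⇑Q := ⟨h ^ 2, sq_mem_Omega Q hnd (by omega) h⟩
  have hy : ∀ v, rho (⇑Q) y v = e ((g ^ 2) (e.symm v).1, (e.symm v).2) := by
    intro v
    rw [rho_apply]
    change (((h ^ 2 : Cfsg.isometryGroup F ⇑Q) : Matrix.GeneralLinearGroup ι F) : Matrix ι ι F).mulVec v = _
    rw [hpow, LinearMap.toMatrix'_mulVec, prodMap_pow, one_pow]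
    rfl
  refine ⟨y, ?_, ?_⟩
  · rw [← Subgroup.orderOf_coe]
    change orderOf (h ^ 2) = _
    rw [orderOf_pow' h two_ne_zero, orderOf_pow' g two_ne_zero, hho]
  · let L : (LinearMap.ker (g ^ 2 - 1)) × (Fin d → F) →ₗ[F] (ι → F) :=
      (e : V × (Fin d → F) →ₗ[F] (ι → F)).comp ((LinearMap.ker (g ^ 2 - 1)).subtype.prodMap LinearMap.id)
    have hLinj : Function.Injective L := by
      intro a b hab
      have h1 : ((a.1 : V), a.2) = ((b.1 : V), b.2) := e.injective hab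
      obtain ⟨h2, h3⟩ := Prod.mk.inj h1
      exact Prod.ext (Subtype.ext h2) h3
    have hLr : LinearMap.range L = fx (rho (⇑Q)) y := by
      ext v
      rw [mem_fx, hy, LinearMap.mem_range]
      constructor
      · rintro ⟨a, rfl⟩
        have h1 : e.symm (L a) = ((a.1 : V), a.2) := e.symm_apply_apply _
        have h2 := a.1.2
        rw [LinearMap.mem_ker, LinearMap.sub_apply, Module.End.one_apply, sub_eq_zero] at h2
        rw [h1]
        change e ((g ^ 2) (a.1 : V), a.2) = e ((a.1 : V), a.2)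
        rw [h2]
      · intro hv
        have h1 : ((g ^ 2) (e.symm v).1, (e.symm v).2) = e.symm v := by
          rw [← e.symm_apply_apply ((g ^ 2) (e.symm v).1, (e.symm v).2), hv]
        refine ⟨(⟨(e.symm v).1, ?_⟩, (e.symm v).2), ?_⟩
        · rw [LinearMap.mem_ker, LinearMap.sub_apply, Module.End.one_apply, sub_eq_zero]
          exact congrArg Prod.fst h1
        · change e ((e.symm v).1, (e.symm v).2) = v
          rw [Prod.mk.eta, e.apply_symm_apply]
    rw [← hLr, LinearMap.finrank_range_of_inj hLinj, finrank_prod, hP'.dim]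

theorem det_rho (y : Cfsg.Omega F ⇑Q) : LinearMap.det (rho (⇑Q) y) = 1 := by
  have h := Cfsg.Agent.LieClassical.OrthCenter.det_of_mem_omega (Q := Q) (y : Cfsg.isometryGroup F ⇑Q) y.2
  change LinearMap.det (Matrix.toLin' (((y : Cfsg.isometryGroup F ⇑Q) : Matrix.GeneralLinearGroup ι F) : Matrix ι ι F)) = 1
  rw [LinearMap.det_toLin']
  exact h

theorem exists_two {t : ℕ} (ht : t.Prime) (hd : t ∣ Nat.card F ^ 2 - 1) :
    ∃ (ε : ℤ) (M : ℕ), Elt F 1 ε M ∧ M / M.gcd 2 = t := by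
  have hq := Finite.one_lt_card (α := F)
  have h1 : Nat.card F ^ 2 - 1 = (Nat.card F + 1) * (Nat.card F - 1) := by
    have := Nat.sq_sub_sq (Nat.card F) 1
    rwa [one_pow] at this
  rw [h1] at hd
  rcases ht.eq_two_or_odd' with rfl | hodd
  · -- `t = 2`
    have h2 : Odd (Nat.card F) := by
      by_contra hev
      rw [Nat.not_odd_iff_even] at hev
      obtain ⟨k, hk⟩ := hev
      have h3 : Odd ((Nat.card F + 1) * (Nat.card F - 1)) := by
        rw [Nat.odd_mul]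
        exact ⟨⟨k, by omega⟩, ⟨k - 1, by omega⟩⟩
      exact (Nat.not_even_iff_odd.2 h3) (even_iff_two_dvd.2 hd)
    obtain ⟨k, hk⟩ := h2
    rcases Nat.even_or_odd' k with ⟨j, hj | hj⟩
    · exact ⟨1, 4, by simpa using elt_tor_plus (F := F) (k := 1) (N := 4) le_rfl (by rw [pow_one]; exact ⟨j, by omega⟩), by norm_num⟩
    · exact ⟨-1, 4, by simpa using elt_tor_minus (F := F) (k := 1) (N := 4) le_rfl (by rw [pow_one]; exact ⟨j + 1, by omega⟩), by norm_num⟩
  · have hg : t / t.gcd 2 = t := by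
      have : t.gcd 2 = 1 := (Nat.coprime_comm.1 (Nat.coprime_two_left.2 hodd))
      rw [this, Nat.div_one]
    rcases ht.dvd_mul.1 hd with h | h
    · exact ⟨-1, t, elt_tor_minus le_rfl (by rwa [pow_one]), hg⟩
    · exact ⟨1, t, elt_tor_plus le_rfl (by rwa [pow_one]), hg⟩

theorem ne_zero_of_dvd {t i : ℕ} (ht : t.Prime) (hi : i ≠ 0) (hd : t ∣ Nat.card F ^ i - 1) : (t : F) ≠ 0 := by
  intro h0
  obtain ⟨c, hc⟩ := CharP.exists F
  have hcp : c.Prime := CharP.char_is_prime F c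
  have h1 : c ∣ t := (CharP.cast_eq_zero_iff F c t).1 h0
  have h2 : c = t := (Nat.prime_dvd_prime_iff_eq hcp ht).1 h1
  subst h2
  have h3 : c ∣ Nat.card F := by
    have := Fintype.ofFinite F
    rw [Nat.card_eq_fintype_card]
    obtain ⟨n, -, hn⟩ := FiniteField.card F c
    rw [hn]
    exact dvd_pow_self c n.ne_zero
  have hq := Finite.one_lt_card (α := F)
  have h4 : c ∣ Nat.card F ^ i := dvd_pow h3 hi
  have h5 : 1 ≤ Nat.card F ^ i := Nat.one_le_pow _ _ (by omega)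
  have h6 : c ∣ 1 := by
    have := Nat.dvd_sub h4 hd
    rwa [Nat.sub_sub_self h5] at this
  exact hcp.one_lt.ne' (Nat.dvd_one.1 h6)

/-- An isometry of a plane, the square of which has prime order and no fixed vectors. -/
theorem exists_plane {t : ℕ} (ht : t.Prime) (hd : t ∣ Nat.card F ^ 2 - 1) :
    ∃ (ε : ℤ) (d : ℕ) (P : QuadraticForm F (Fin d → F)) (g : Module.End F (Fin d → F)),
      Sg P 1 ε ∧ (∀ v, P (g v) = P v) ∧ 0 < orderOf g ∧ orderOf (g ^ 2) = t ∧ LinearMap.ker (g ^ 2 - 1) = ⊥ := by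
  obtain ⟨ε, M, ⟨hM, d, P, g, hP, hg, ho⟩, hMt⟩ := exists_two (F := F) ht hd
  have ho2 : orderOf (g ^ 2) = t := by rw [orderOf_pow' g two_ne_zero, ho, hMt]
  refine ⟨ε, d, P, g, hP, hg, by omega, ho2, ?_⟩
  obtain ⟨y, hy1, hy2⟩ := exists_omega (sg_plusForm (F := F) 4) (by norm_num) hP (by norm_num) hg (by omega)
  have h1 := fx_two (rho (⇑(plusForm 4 F))) (rho_injective _) (y := y) (det_rho y) (k := t)
    (ne_zero_of_dvd ht two_ne_zero hd) (by rw [← ho2, ← hy1, pow_orderOf_eq_one]) (by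
      rintro rfl
      rw [orderOf_one, ho2] at hy1
      exact ht.one_lt.ne hy1)
  rw [hy2, (sg_plusForm (F := F) 4).dim] at h1
  rw [← Submodule.finrank_eq_zero (R := F)]
  omega

theorem exists_single (hQ : Sg Q m ε₀) (hm : 3 ≤ m) {t : ℕ} (ht : t.Prime) (hd : t ∣ Nat.card F ^ 2 - 1) :
    ∃ y : Cfsg.Omega F ⇑Q, orderOf y = t ∧ finrank F (fx (rho (⇑Q)) y) = 2 * (m - 1) := by
  obtain ⟨ε, d, P, g, hP, hg, ho, ho2, hk⟩ := exists_plane (F := F) ht hd
  obtain ⟨y, hy1, hy2⟩ := exists_omega hQ hm hP (by omega) hg ho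
  refine ⟨y, by rw [hy1, ho2], ?_⟩
  rw [hy2, hk, finrank_bot, zero_add]

theorem exists_double (hQ : Sg Q m ε₀) (hm : 3 ≤ m) {t : ℕ} (ht : t.Prime) (hd : t ∣ Nat.card F ^ 2 - 1) :
    ∃ y : Cfsg.Omega F ⇑Q, orderOf y = t ∧ finrank F (fx (rho (⇑Q)) y) = 2 * (m - 2) := by
  obtain ⟨ε, d, P, g, hP, hg, ho, ho2, hk⟩ := exists_plane (F := F) ht hd
  obtain ⟨y, hy1, hy2⟩ := exists_omega hQ hm (hP.prod hP) (by omega) (g := g.prodMap g) (fun v => by
    rw [prodForm_apply, prodForm_apply, LinearMap.prodMap_apply, hg, hg]) (by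
    rw [orderOf_prodMap, Nat.lcm_self]; exact ho)
  have hk' : LinearMap.ker (g.prodMap g ^ 2 - 1) = ⊥ := by
    rw [LinearMap.ker_eq_bot'] at hk ⊢
    intro v hv
    rw [prodMap_pow, LinearMap.sub_apply, Module.End.one_apply, sub_eq_zero] at hv
    have h1 : (g ^ 2) v.1 = v.1 := congrArg Prod.fst hv
    have h2 : (g ^ 2) v.2 = v.2 := congrArg Prod.snd hv
    refine Prod.ext (hk _ ?_) (hk _ ?_)
    · rw [LinearMap.sub_apply, h1, Module.End.one_apply, sub_self]
    · rw [LinearMap.sub_apply, h2, Module.End.one_apply, sub_self]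
  refine ⟨y, ?_, ?_⟩
  · rw [hy1, prodMap_pow, orderOf_prodMap, ho2, Nat.lcm_self]
  · rw [hy2, hk', finrank_bot, zero_add]

theorem exists_odd (hQ : Sg Q m ε₀) (hm : 3 ≤ m) {n q : ℕ} {ε : ℤ} (hq : q.Prime) (hq2 : q ≠ 2)
    (h : Elt F n ε q) (hn : n < m) :
    ∃ y : Cfsg.Omega F ⇑Q, orderOf y = q ∧ 2 * (m - n) ≤ finrank F (fx (rho (⇑Q)) y) := by
  obtain ⟨h0, d, P, g, hP, hg, ho⟩ := h
  obtain ⟨y, hy1, hy2⟩ := exists_omega hQ hm hP hn hg (by omega)
  refine ⟨y, ?_, by omega⟩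
  rw [hy1, orderOf_pow' g two_ne_zero, ho]
  have : q.gcd 2 = 1 := (Nat.coprime_comm.1 (Nat.coprime_two_left.2 (hq.odd_of_ne_two hq2)))
  rw [this, Nat.div_one]

/-! ### The criterion -/

theorem sing (hQ : Sg Q m ε₀) (hm : 3 ≤ m) : ∃ u : ι → F, u ≠ 0 ∧ Q u = 0 := by
  obtain ⟨w, hw0, hw, -⟩ := Cfsg.Agent.LieClassical.OrthFinite.exists_sing_perp (Q := Q) (n := 0) ![] (by
    rw [hQ.dim]; omega)
  exact ⟨w, hw0, hw⟩

/-- the projection -/
abbrev pr (Q : (ι → F) → F) : Cfsg.Omega F Q →* Cfsg.POmega F Q := QuotientGroup.mk' _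

theorem pr_surj (Q : (ι → F) → F) : Function.Surjective (pr Q) := QuotientGroup.mk'_surjective _

theorem pr_ker (Q : (ι → F) → F) : ∀ z, pr Q z = 1 → ∀ x, z * x = x * z := by
  intro z hz x
  have h1 : z ∈ Subgroup.center (Cfsg.Omega F Q) := (QuotientGroup.eq_one_iff z).1 hz
  exact ((Subgroup.mem_center_iff.1 h1) x).symm

theorem not_dvd_ker (hQ : Sg Q m ε₀) (hm : 3 ≤ m) {r : ℕ} (hr : r.Prime) (hr2 : r ≠ 2) :
    ¬ r ∣ Nat.card (pr (⇑Q)).ker := by
  intro h
  have : Fact r.Prime := ⟨hr⟩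
  obtain ⟨z, hz⟩ := exists_prime_orderOf_dvd_card' r h
  have hnd : (polarBilin Q).Nondegenerate := nondegenerate_iff_nondeg.2 hQ.nondeg
  have h1 : (z : Cfsg.Omega F ⇑Q) ∈ Subgroup.center (Cfsg.Omega F ⇑Q) := (QuotientGroup.eq_one_iff _).1 z.2
  rw [Cfsg.Agent.LieClassical.OrthCenter.mem_center_omega_iff hnd (by rw [card_eq hQ]; omega) (sing hQ hm)] at h1
  have h2 : (z : Cfsg.Omega F ⇑Q) ^ 2 = 1 := by
    apply Subtype.ext
    apply Subtype.ext
    apply Units.ext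
    have e1 : (((((z : Cfsg.Omega F ⇑Q) ^ 2 : Cfsg.Omega F ⇑Q) : Cfsg.isometryGroup F ⇑Q) :
        Matrix.GeneralLinearGroup ι F) : Matrix ι ι F) =
        ((((z : Cfsg.Omega F ⇑Q) : Cfsg.isometryGroup F ⇑Q) : Matrix.GeneralLinearGroup ι F) : Matrix ι ι F) ^ 2 := rfl
    rw [e1]
    rcases h1 with h1 | h1
    · rw [h1, one_pow]; rfl
    · rw [h1, neg_one_sq]; rfl
  have h3 : orderOf z ∣ 2 := by
    apply orderOf_dvd_of_pow_eq_one
    exact Subtype.ext h2
  rw [hz] at h3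
  exact hr2 ((Nat.prime_dvd_prime_iff_eq hr Nat.prime_two).1 h3)

theorem ne_two {r e a : ℕ} (he : orderOf ((a : ℕ) : ZMod r) = e) (he3 : 3 ≤ e) : r ≠ 2 := by
  rintro rfl
  have h : ∀ x : ZMod 2, x = 0 ∨ x = 1 := by decide
  rcases h ((a : ℕ) : ZMod 2) with h | h
  · rw [h] at he
    have : orderOf (0 : ZMod 2) = 0 := by
      rw [orderOf_eq_zero_iff']
      intro n hn
      rw [zero_pow hn.ne']
      exact zero_ne_one
    omega
  · rw [h, orderOf_one] at he
    omega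

theorem ne_char {r e l : ℕ} (hr : r.Prime) (hlF : (l : F) = 0)
    (he : orderOf ((Nat.card F : ℕ) : ZMod r) = e) (he0 : e ≠ 0) : r ≠ l := by
  rintro rfl
  have hq := Finite.one_lt_card (α := F)
  refine ne_zero_of_dvd hr he0 ?_ hlF
  rw [Cfsg.Agent.Lib.Zsigmondy.dvd_pow_sub_one_iff (by omega), he]

theorem mid (hQ : Sg Q m ε₀) (hm : 4 ≤ m) {l : ℕ} (hl : l.Prime) (hlF : (l : F) = 0) {r e : ℕ} (hr : r.Prime)
    (he : orderOf ((Nat.card F : ℕ) : ZMod r) = e) (he3 : 3 ≤ e) (hrS : r ∣ Nat.card (Cfsg.POmega F ⇑Q)) {q : ℕ}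
    (hq : q.Prime) {y : Cfsg.Omega F ⇑Q} (hy : orderOf y = q)
    (h1 : 2 * m < finrank F (fx (rho ⇑Q) y) + e) (h2 : finrank F (fx (rho ⇑Q) y) < e) :
    RegB (Cfsg.POmega F ⇑Q) l q :=
  regB_of_mid (pr_surj _) (pr_ker _) ((by exact rho_injective _)) hl hq hr (ne_char hr hlF he (by omega))
    (hrS.trans (Subgroup.card_dvd_of_surjective _ (pr_surj _))) (not_dvd_ker hQ (by omega) hr (ne_two he he3)) he
    (by omega) (k := 1) (by rw [pow_one, hy]) (by rw [hQ.dim]; exact h1) h2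

theorem comm (hQ : Sg Q m ε₀) (hm : 4 ≤ m) {l : ℕ} (hl : l.Prime) (hlF : (l : F) = 0) {r e : ℕ} (hr : r.Prime)
    (he : orderOf ((Nat.card F : ℕ) : ZMod r) = e) (he3 : 3 ≤ e) (hrS : r ∣ Nat.card (Cfsg.POmega F ⇑Q)) {q : ℕ}
    (hq : q.Prime) (hq2 : q ≠ 2) (hqS : q ∣ Nat.card (Cfsg.POmega F ⇑Q)) {f : ℕ}
    (hf : orderOf ((Nat.card F : ℕ) : ZMod q) = f) (hef : 2 * m < e + f) {s : Cfsg.Omega F ⇑Q}
    (hs : ¬ l ∣ orderOf s)
    (H : ∀ y : Cfsg.Omega F ⇑Q, orderOf y = q → Commute s y → 2 * m < finrank F (fx (rho ⇑Q) y) + e) :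
    RegB (Cfsg.POmega F ⇑Q) l q :=
  regB_of_comm (pr_surj _) (pr_ker _) ((by exact rho_injective _)) hl hq hr (ne_char hr hlF he (by omega))
    (hrS.trans (Subgroup.card_dvd_of_surjective _ (pr_surj _))) (not_dvd_ker hQ (by omega) hr (ne_two he he3)) he
    (by omega) hqS (not_dvd_ker hQ (by omega) hq hq2) hf (by rw [hQ.dim]; exact hef) hs
    (by rw [hQ.dim]; exact H)

theorem small (hQ : Sg Q m ε₀) (hm : 4 ≤ m) {l : ℕ} (hl : l.Prime) (hlF : (l : F) = 0) {r e : ℕ} (hr : r.Prime)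
    (he : orderOf ((Nat.card F : ℕ) : ZMod r) = e) (he3 : 3 ≤ e) (hrS : r ∣ Nat.card (Cfsg.POmega F ⇑Q)) {q : ℕ}
    (hq : q.Prime) (hq2 : q ≠ 2) (hqS : q ∣ Nat.card (Cfsg.POmega F ⇑Q)) {f : ℕ}
    (hf : orderOf ((Nat.card F : ℕ) : ZMod q) = f) {s : Cfsg.Omega F ⇑Q}
    (hs : ¬ l ∣ orderOf s) (h1 : 2 * m < finrank F (fx (rho ⇑Q) s) + f) (h2 : finrank F (fx (rho ⇑Q) s) < e) :
    RegB (Cfsg.POmega F ⇑Q) l q :=
  regB_of_small (pr_surj _) (pr_ker _) ((by exact rho_injective _)) hl hq hr (ne_char hr hlF he (by omega))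
    (hrS.trans (Subgroup.card_dvd_of_surjective _ (pr_surj _))) (not_dvd_ker hQ (by omega) hr (ne_two he he3)) he
    (by omega) hqS (not_dvd_ker hQ (by omega) hq hq2) hf hs (by rw [hQ.dim]; exact h1) h2

/-! ### Numbers -/

/-- the dimension of the smallest nondegenerate even-dimensional form with an isometry of order `q` -/
theorem exists_n {q f : ℕ} (hq : q.Prime) (hq2 : q ≠ 2) (hf : orderOf ((Nat.card F : ℕ) : ZMod q) = f) (hf0 : f ≠ 0) :
    ∃ (n : ℕ) (ε : ℤ), 1 ≤ n ∧ (ε = 1 ∨ ε = -1) ∧ Elt F n ε q ∧ ((f = n ∧ Odd n) ∨ f = 2 * n) ∧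
      ∀ i, q ∣ Nat.card F ^ (2 * i) - 1 → n ∣ i := by
  have hF := Finite.one_lt_card (α := F)
  have hkey : ∀ j, q ∣ Nat.card F ^ j - 1 ↔ f ∣ j := fun j => by
    rw [Cfsg.Agent.Lib.Zsigmondy.dvd_pow_sub_one_iff (by omega), hf]
  rcases Nat.even_or_odd f with hev | hodd
  · obtain ⟨n, hn⟩ := hev
    refine ⟨n, -1, by omega, Or.inr rfl, ?_, Or.inr (by omega), ?_⟩
    · have h1 : q ∣ Nat.card F ^ f - 1 := (hkey f).2 dvd_rfl
      have h2 : Nat.card F ^ f - 1 = (Nat.card F ^ n + 1) * (Nat.card F ^ n - 1) := by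
        have := Nat.sq_sub_sq (Nat.card F ^ n) 1
        rw [one_pow] at this
        rw [← this, hn, ← two_mul, mul_comm 2 n, pow_mul]
      rw [h2] at h1
      rcases hq.dvd_mul.1 h1 with h | h
      · exact elt_tor_minus (by omega) h
      · exfalso
        have := Nat.le_of_dvd (by omega) ((hkey n).1 h)
        omega
    · intro i hi
      have h1 := (hkey _).1 hi
      rw [hn, ← two_mul] at h1
      exact Nat.dvd_of_mul_dvd_mul_left (by norm_num) h1
  · refine ⟨f, 1, by omega, Or.inl rfl, ?_, Or.inl ⟨rfl, hodd⟩, ?_⟩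
    · exact elt_tor_plus (by omega) ((hkey f).2 dvd_rfl)
    · intro i hi
      have h1 := (hkey _).1 hi
      exact (Nat.Coprime.dvd_mul_left (Nat.coprime_comm.1 (Nat.coprime_two_left.2 hodd))).1 h1

end

end Cfsg.Agent.H877.RegOm

private theorem dce_10e6c97aeeb9 : _root_.True := by
  try have : _root_.True := by simp only [_root_.Cfsg.Agent.H182.Orth.Elt.congr_simp]
  exact _root_.True.intro
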