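import Mathlib
import Cfsg.Agent.H963.PQR.GTwo
import Cfsg.Agent.H129.CycCard
import Cfsg.Agent.H129.RealE7_m3
import Cfsg.Agent.S1062
import Cfsg.Agent.S1064
import Cfsg.Agent.S1065
import Cfsg.Agent.S2103
import Cfsg.Agent.S2104
import Cfsg.Agent.S2106
import Cfsg.Agent.S2107
import Cfsg.Agent.S1063
import Cfsg.Agent.S1066
import Cfsg.Agent.S2105
import Cfsg.Agent.S2108
import Cfsg.Agent.S2109
import Cfsg.Agent.H522.FpfEmbSL_mg_m3
import Cfsg.Agent.H606.PQR.Pieces_m3
import Cfsg.Agent.H877.RegOmTool
import Cfsg.Agent.H953.Index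
import Cfsg.Agent.ClassicalGeometry.PSL2Basic
import Cfsg.Agent.S0243
import Cfsg.Agent.S0248
import Cfsg.Agent.S0249
import Cfsg.Agent.S0278
import Cfsg.Agent.S0280
import Cfsg.Agent.S0283
import Cfsg.Agent.S0292
import Cfsg.Agent.S0293
import Cfsg.Agent.S0294
import Cfsg.Agent.H396.ParX
import Cfsg.Agent.KFacts.RgdFilt
import Cfsg.Agent.KFacts.RgdLieCharP
import Cfsg.Agent.KFacts.RgdSyl
import Cfsg.Agent.H396.Der
import Cfsg.Agent.H138.SqChev2
import Cfsg.Agent.KFacts.RgdFiltChev
import Cfsg.Agent.KFacts.RgdFiltTwAll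
import Cfsg.Agent.H155.TG.ChevTab
import Cfsg.Agent.H135.TorusTab
import Cfsg.Agent.S0242
import Cfsg.Agent.H934.PQR.TorTwE6
import Cfsg.Agent.S1054
import Cfsg.Agent.S1070
import Cfsg.Agent.H945.Chev_m3
import Cfsg.Agent.ChevalleyStructure.HMatDiagAll
import Cfsg.Agent.Lib.NodupNat
import Cfsg.Agent.Fischer.Fi24Real
import Cfsg.Agent.Lib.PermNetFast
import Cfsg.Agent.H868.HeFi24
import Cfsg.Agent.KFacts.FiTF.FixZ_m3
import Cfsg.Agent.S1698
import Cfsg.Agent.S2055
import Cfsg.Agent.ClassicalGeometry.PSUAutBasic
import Cfsg.Agent.Phan.Ext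
import Mathlib.RingTheory.RootsOfUnity.EnoughRootsOfUnity
import Mathlib.RingTheory.RootsOfUnity.AlgebraicallyClosed
import Cfsg.Agent.H948.UMain
import Cfsg.Agent.H341.ThreeElts2
import Cfsg.Agent.H749.BlockOrth_m3
import Cfsg.Agent.H686.CgPsp
import Cfsg.Agent.LieClassical.HermPerfect
import Cfsg.Agent.H153.PrimeGraphThree
import Cfsg.Agent.S2086
import Cfsg.Agent.S2111
import Cfsg.Agent.S2112
import Cfsg.Agent.S2113
import Cfsg.Agent.S1159
import Cfsg.Agent.S1163
import Cfsg.Agent.TwoFusion.SLTwoFacts
import Cfsg.Agent.ClassicalGeometry.PSL2Solvable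
import Cfsg.Agent.H57.TTRee
import Cfsg.Agent.SignalizersComponents.BalEndSz
import Cfsg.Agent.H982.TWModel
import Cfsg.Agent.Lib.Zsigmondy
import Cfsg.Agent.H900.PQR.Poly
import Cfsg.Agent.H371.AlgLemma_m3
import Cfsg.Agent.H277.ClsPsl
import Cfsg.Agent.H968.TwoCycC
import Cfsg.Agent.S2087
import Cfsg.Agent.S2088
import Cfsg.Agent.H424.U33Classes
import Cfsg.Agent.LieClassical.FieldTransfer
import Cfsg.Agent.LieClassical.HermBasic
import Cfsg.Agent.S2089
import Cfsg.Agent.H322.Cent.Uni
import Cfsg.Agent.S0892
import Cfsg.Agent.S0102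
import Cfsg.Agent.H378.TwAdj
import Cfsg.Agent.H378.RegTw
import Cfsg.Agent.H493.PGD4T
import Cfsg.Agent.H378.TwRows
import Cfsg.Agent.H868.KTwD4
import Cfsg.Agent.S0276
import Cfsg.Agent.S2110
import Cfsg.Agent.Ly.Setup
import Cfsg.Agent.TypeM.FactsLy
import Cfsg.Agent.S2050
import Cfsg.Agent.Lib.PackCol
import Cfsg.Agent.S2101
import Cfsg.Prelude.Def_Classification2
import Cfsg.Agent.H376.SpEmb
import Cfsg.Agent.SignalizersComponents.SLQuasisimple
import Cfsg.Agent.S0245
import Cfsg.Agent.S0246
import Cfsg.Agent.GH.TOne.TwoCfg_m3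
import Cfsg.Agent.SporadicA.MathieuRecog
import Cfsg.Agent.MTwelveType.SylowModel
import Cfsg.Agent.FooteOdd.SporMEleven
import Cfsg.Agent.S0364
import Cfsg.Agent.S2034
import Cfsg.Agent.S2035
import Cfsg.Agent.S2036
import Cfsg.Agent.S2037
import Cfsg.Agent.S2038
import Cfsg.Agent.KFacts.MulSpor.NoDbl
import Cfsg.Agent.J4.Pres
import Cfsg.Agent.S0365
import Cfsg.Agent.S2042
import Cfsg.Agent.H517.PQR.Fi22
import Cfsg.Agent.KFacts.FiTTh.BasFi
import Cfsg.Agent.S0377
import Cfsg.Agent.S1688
import Cfsg.Agent.S1696
import Cfsg.Agent.S1697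
import Cfsg.Agent.S2054
import Cfsg.Agent.H588.PQR.Ratio
import Cfsg.Agent.Characters.Values
import Cfsg.Agent.FastGrp
import Cfsg.Agent.Prune
set_option linter.all false

section
prune_inst 0x7fb8a8f98ba821dedfff7e3ff698cffc11800fffa6dff94bffe861bf2bdf230009c16b8509e010fc0e56621410b87803f97eaefe6229d87ffffd17b41ffbee0fa5e7b500111080240e200ff603f0770e6f3ffeffffffffffffffffffffffffbeffbdefffffff

-- part: H934/PQR/RowsE6
section
prune_inst 0x4757067457de2120000040092110020a57d0005900060000169e409420109e362c902a9400ea03008084e220010050028151018d4624000000e8404000005052180aad40ef18c001dc6009f80108c010000100000000000000000000000000004210000000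
set_option linter.all false
open scoped Cfsg.Agent.FastGrp

-- part: H934/PQR/General
section
/-!
# S3988: the dichotomy for the groups of Lie type (helper934)

* `Par r S` : every odd prime dividing the order of the normalizer of a nontrivial `r`-subgroup is non-minimal;
* `Reg r b S` : an element of order `b` with centralizer of order prime to `r`;
* `rowOdd_of_par` : `Par r S`, `Reg r b S` for two odd primes `b`, multiplier a `2`-group ⟹ `RowOdd S`;
* `dich` : the dichotomy used for the other multipliers.
-/

set_option autoImplicit false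

namespace Cfsg.Agent.H934.PQR

open Cfsg Subgroup Cfsg.Agent.H562.PQR
open Cfsg.Agent.H80.Fpf (MultDvd)

universe v

/-- every odd prime dividing the order of the normalizer of a nontrivial `r`-subgroup is non-minimal -/
def Par (r : ℕ) (S : Type v) [Group S] : Prop :=
  ∀ p : ℕ, p.Prime → p ≠ 2 → ∀ V : Subgroup S, V ≠ ⊥ → IsPGroup r V →
    p ∣ Nat.card ↥(Subgroup.normalizer (V : Set S)) → NotMin p S

/-- an element of order `b` whose centralizer has order prime to `r` -/
def Reg (r b : ℕ) (S : Type v) [Group S] : Prop :=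
  ∃ y : S, orderOf y = b ∧ ¬ r ∣ Nat.card ↥(centralizer ({y} : Set S))

section

variable {S : Type v} [Group S]

theorem notMin_of_par [Finite S] {r p : ℕ} (hr : r.Prime) (hpar : Par r S) (hp : p.Prime) (hp2 : p ≠ 2) {x : S}
    (hx : orderOf x = p) (h : r ∣ Nat.card ↥(centralizer ({x} : Set S))) : NotMin p S := by
  have : Fact r.Prime := ⟨hr⟩
  obtain ⟨⟨u, hu⟩, hur⟩ := exists_prime_orderOf_dvd_card' (G := ↥(centralizer ({x} : Set S))) r h
  rw [Subgroup.orderOf_mk] at hur
  have hux : u * x = x * u := mem_centralizer_singleton_iff.1 hu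
  refine hpar p hp hp2 (zpowers u) ?_ ?_ ?_
  · intro h1
    rw [zpowers_eq_bot] at h1
    rw [h1, orderOf_one] at hur
    exact hr.one_lt.ne hur
  · exact IsPGroup.of_card (n := 1) (by rw [Nat.card_zpowers, hur, pow_one])
  · have h1 : x ∈ Subgroup.normalizer ((zpowers u : Subgroup S) : Set S) := by
      have h2 : x ∈ centralizer ((zpowers u : Subgroup S) : Set S) := by
        rw [mem_centralizer_iff]
        rintro g ⟨k, rfl⟩
        have h3 : Commute x u := hux.symm
        exact (h3.zpow_right k).symm
      exact centralizer_le_normalizer _ h2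
    rw [← hx, ← Subgroup.orderOf_mk x h1]
    exact _root_.orderOf_dvd_natCard _

/-- **The dichotomy.** -/
theorem dich [Finite S] {r p : ℕ} (hr : r.Prime) (hpar : Par r S) (hp : p.Prime) (hp2 : p ≠ 2)
    (hd : p ∣ Nat.card S) : NotMin p S ∨ (p ≠ r ∧ ∃ x : S, orderOf x = p ∧ ¬ r ∣ Nat.card ↥(centralizer ({x} : Set S)) ∧
      ∀ x : S, orderOf x = p → ¬ r ∣ Nat.card ↥(centralizer ({x} : Set S))) := by
  have : Fact p.Prime := ⟨hp⟩
  by_cases h : ∃ x : S, orderOf x = p ∧ r ∣ Nat.card ↥(centralizer ({x} : Set S))
  · obtain ⟨x, hx, h1⟩ := h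
    exact Or.inl (notMin_of_par hr hpar hp hp2 hx h1)
  · right
    push Not at h
    obtain ⟨x, hx⟩ := exists_prime_orderOf_dvd_card' p hd
    refine ⟨?_, x, hx, h x hx, h⟩
    rintro rfl
    apply h x hx
    have h1 : x ∈ centralizer ({x} : Set S) := mem_centralizer_singleton_iff.2 rfl
    have h2 := _root_.orderOf_dvd_natCard (⟨x, h1⟩ : ↥(centralizer ({x} : Set S)))
    rwa [Subgroup.orderOf_mk, hx] at h2

/-- a triple `(p, b, 2)` -/
theorem trip_of_reg [Finite S] {r p b : ℕ} (hr : r.Prime) (hS : IsLieTypeChar r S) (hp : p.Prime) (hb : b.Prime)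
    (hp2 : p ≠ 2) (hb2 : b ≠ 2) (hpb : p ≠ b) (h2 : 2 ∣ Nat.card S) (hx : Reg r p S) (hy : Reg r b S) {m : ℕ}
    (hm : MultDvd S m) (hm' : ∀ s : ℕ, s.Prime → s ∣ m → s = 2 ∨ s = p ∨ s = b) : Trip p S := by
  obtain ⟨x, hx, hxc⟩ := hx
  obtain ⟨y, hy, hyc⟩ := hy
  have hx1 := PE.of_orderOf hp hx
  have hy1 := PE.of_orderOf hb hy
  obtain ⟨x', y', z', h3, h4, h5, h6⟩ : ∃ x y z : S, PE p x ∧ PE b y ∧ PE 2 z ∧ x * y * z = 1 := by
    by_cases hr2 : r = 2
    · subst hr2
      exact tri_char hr hS hp hb hpb hx1 hy1 hxc hyc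
    · exact tri_reg hr hS Nat.prime_two (fun h => hr2 h.symm) h2 hx1 hy1 hxc hyc
  refine ⟨p, b, 2, Or.inl rfl, Or.inr (Or.inr rfl), TripABC.of_mult hm (fun s hs hsm => ?_) hp hb Nat.prime_two hpb hp2
    hb2 h3 h4 h5 h6⟩
  rcases hm' s hs hsm with h | h | h
  · exact Or.inl h
  · exact Or.inr (Or.inl h)
  · exact Or.inr (Or.inr (Or.inl h))

/-- **The row**, multiplier a `2`-group. -/
theorem rowOdd_of_par [Finite S] {r : ℕ} (hr : r.Prime) (hS : IsLieTypeChar r S) (hpar : Par r S)
    (h2 : 2 ∣ Nat.card S) {m : ℕ} (hm : MultDvd S m) (hm' : ∀ s : ℕ, s.Prime → s ∣ m → s = 2) {b₁ b₂ : ℕ}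
    (hb₁ : b₁.Prime) (hb₂ : b₂.Prime) (hb₁2 : b₁ ≠ 2) (hb₂2 : b₂ ≠ 2) (hne : b₁ ≠ b₂) (h₁ : Reg r b₁ S)
    (h₂ : Reg r b₂ S) : RowOdd S := by
  intro p hp hp2 hd
  rcases dich hr hpar hp hp2 hd with h | ⟨-, x, hx, hxc, -⟩
  · exact Or.inl h
  right
  by_cases hpb : p = b₁
  · subst hpb
    exact trip_of_reg hr hS hp hb₂ hp2 hb₂2 hne h2 ⟨x, hx, hxc⟩ h₂ hm fun s hs hsm => Or.inl (hm' s hs hsm)
  · exact trip_of_reg hr hS hp hb₁ hp2 hb₁2 hpb h2 ⟨x, hx, hxc⟩ h₁ hm fun s hs hsm => Or.inl (hm' s hs hsm)

end

end Cfsg.Agent.H934.PQR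
end

-- part: H934/PQR/Rows
section
/-!
# S3988: the rows `F₄(q)`, `E₇(q)`, `E₈(q)` (helper934), from the parabolic lemma `Par`
-/

set_option autoImplicit false

namespace Cfsg.Agent.H934.PQR

open Cfsg Cfsg.Lie Subgroup Cfsg.Agent.H562.PQR Cfsg.Agent.H129.CycCard
open Cfsg.Agent.H80.Fpf (MultDvd)

universe v

theorem reg_of_cycCard {S : Type v} [Group S] [Finite S] {r b m d : ℕ} (hb : b.Prime) (h : CycCard S b m d)
    (hm : ¬ r ∣ m) : Reg r b S := by
  have : Fact b.Prime := ⟨hb⟩
  obtain ⟨T, -, h2, -, h4, h5⟩ := h
  obtain ⟨⟨y, hy⟩, hyb⟩ := exists_prime_orderOf_dvd_card' (G := ↥T) b h4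
  rw [Subgroup.orderOf_mk] at hyb
  exact ⟨y, hyb, fun h6 => hm ((h6.trans (Subgroup.card_dvd_of_le (h5 y hy hyb))).trans h2)⟩

theorem dvd_q {F : Type} [Field F] [Fintype F] {r q : ℕ} [CharP F r] (hq : Fintype.card F = q) : r ∣ q := by
  rw [← CharP.cast_eq_zero_iff F r, ← hq]
  exact FiniteField.cast_card_eq_zero F

/-- a value `≡ ±1` modulo `q` is prime to `r ∣ q` -/
theorem not_dvd_of {r q m : ℕ} (hr : r.Prime) (hrq : r ∣ q) {a c : ℤ} (hc : c = 1 ∨ c = -1) (h : (m : ℤ) = c + q * a) :
    ¬ r ∣ m := by
  intro hm
  have h1 : (r : ℤ) ∣ (m : ℤ) := Int.natCast_dvd_natCast.2 hm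
  have h2 : (r : ℤ) ∣ (q : ℤ) := Int.natCast_dvd_natCast.2 hrq
  have h3 : (r : ℤ) ∣ c := by
    have h4 : c = m - q * a := by rw [h]; ring
    rw [h4]
    exact dvd_sub h1 (h2.mul_right a)
  have h3' : (r : ℤ) ∣ ((1 : ℕ) : ℤ) := by
    rcases hc with rfl | rfl
    · simpa using h3
    · have := (dvd_neg (a := (r : ℤ)) (b := -1)).2 h3
      simpa only [_root_.Nat.cast_one, _root_.Int.reduceNeg, _root_.neg_neg] using this
  have h5 := Int.natCast_dvd_natCast.1 h3'
  exact hr.one_lt.ne' (Nat.dvd_one.1 h5)

/-- an odd prime divisor of an odd integer `> 1` -/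
theorem exists_odd_prime {m : ℕ} (h1 : m ≠ 1) (h2 : ¬ 2 ∣ m) : ∃ b : ℕ, b.Prime ∧ b ∣ m ∧ b ≠ 2 := by
  obtain ⟨b, hb, hbm⟩ := Nat.exists_prime_and_dvd h1
  refine ⟨b, hb, hbm, ?_⟩
  rintro rfl
  exact h2 hbm

/-- an odd prime divisor of an integer `> 2` not divisible by `4` -/
theorem exists_odd_prime' {m : ℕ} (h1 : 2 < m) (h2 : ¬ 4 ∣ m) : ∃ b : ℕ, b.Prime ∧ b ∣ m ∧ b ≠ 2 := by
  rcases Nat.eq_two_pow_or_exists_odd_prime_and_dvd m with ⟨k, hk⟩ | ⟨b, hb, hbm, hbo⟩
  · exfalso
    rcases Nat.lt_or_ge k 2 with h3 | h3
    · have h4 : (2 : ℕ) ^ k ≤ 2 ^ 1 := Nat.pow_le_pow_right (by norm_num) (by omega)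
      omega
    · apply h2
      rw [hk]
      exact pow_dvd_pow 2 h3
  · refine ⟨b, hb, hbm, ?_⟩
    rintro rfl
    exact absurd hbo (by decide)

theorem ne_of_bez {b₁ b₂ : ℕ} (hb : b₁.Prime) {x y u v : ℤ} (h1 : (b₁ : ℤ) ∣ x) (h2 : (b₂ : ℤ) ∣ y)
    (h : u * x + v * y = 1) : b₁ ≠ b₂ := by
  rintro rfl
  have h3 : (b₁ : ℤ) ∣ 1 := by
    rw [← h]
    exact dvd_add (h1.mul_left u) (h2.mul_left v)
  have h5 := Int.natCast_dvd_natCast.1 (by simpa using h3 : (b₁ : ℤ) ∣ ((1 : ℕ) : ℤ))
  exact hb.one_lt.ne' (Nat.dvd_one.1 h5)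

theorem exists_nat {z : ℤ} (h : 2 ≤ z) : ∃ m : ℕ, (m : ℤ) = z ∧ m ≠ 1 := by
  refine ⟨z.toNat, Int.toNat_of_nonneg (by omega), ?_⟩
  intro h1
  have := Int.toNat_of_nonneg (by omega : 0 ≤ z)
  rw [h1] at this
  norm_num at this
  omega

theorem two_dvd_sq (q : ℕ) (hq : 2 ≤ q) : 2 ∣ q * (q ^ 2 - 1) := by
  rcases Nat.even_or_odd q with h | h
  · exact (h.two_dvd).mul_right _
  · refine Dvd.dvd.mul_left ?_ _
    have h1 : Odd (q ^ 2) := h.pow
    obtain ⟨k, hk⟩ := h1
    rw [hk]
    exact ⟨k, by omega⟩

/-- the exceptional Chevalley groups are of Lie type -/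
theorem lieType_F4 {F : Type} [Field F] [Fintype F] (p : ℕ) [hpc : CharP F p] : IsLieTypeChar p ↥(chevF4.group F) := by
  refine Or.inr (Or.inr (Or.inr (Or.inr (Or.inr (Or.inr (Or.inl ⟨F, inferInstance, inferInstance, hpc, ?_⟩))))))
  exact Or.inr (Or.inl ⟨MulEquiv.refl _⟩)

theorem lieType_E6 {F : Type} [Field F] [Fintype F] (p : ℕ) [hpc : CharP F p] : IsLieTypeChar p ↥(chevE6.group F) := by
  refine Or.inr (Or.inr (Or.inr (Or.inr (Or.inr (Or.inr (Or.inl ⟨F, inferInstance, inferInstance, hpc, ?_⟩))))))
  exact Or.inr (Or.inr (Or.inl ⟨MulEquiv.refl _⟩))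

theorem lieType_E7 {F : Type} [Field F] [Fintype F] (p : ℕ) [hpc : CharP F p] : IsLieTypeChar p ↥(chevE7.group F) := by
  refine Or.inr (Or.inr (Or.inr (Or.inr (Or.inr (Or.inr (Or.inl ⟨F, inferInstance, inferInstance, hpc, ?_⟩))))))
  exact Or.inr (Or.inr (Or.inr (Or.inl ⟨MulEquiv.refl _⟩)))

theorem lieType_E8 {F : Type} [Field F] [Fintype F] (p : ℕ) [hpc : CharP F p] : IsLieTypeChar p ↥(chevE8.group F) := by
  refine Or.inr (Or.inr (Or.inr (Or.inr (Or.inr (Or.inr (Or.inl ⟨F, inferInstance, inferInstance, hpc, ?_⟩))))))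
  exact Or.inr (Or.inr (Or.inr (Or.inr ⟨MulEquiv.refl _⟩)))

/-! ### `E₈` -/

theorem e8 {F : Type} [Field F] [Fintype F] {r : ℕ} [CharP F r] (hpar : Par r ↥(chevE8.group F)) :
    RowOdd ↥(chevE8.group F) := by
  have hr : r.Prime := CharP.char_is_prime F r
  obtain ⟨q, hq⟩ : ∃ q, Fintype.card F = q := ⟨_, rfl⟩
  have hq2 : 2 ≤ q := by rw [← hq]; exact Fintype.one_lt_card
  have hrq : r ∣ q := dvd_q hq
  have hqz : (2 : ℤ) ≤ q := by exact_mod_cast hq2
  have k4 : (q : ℤ) ≤ (q : ℤ) ^ 2 := by nlinarith only []
  obtain ⟨m₁, hm₁, h₁⟩ := exists_nat (z := 1 + (q : ℤ) - (q : ℤ) ^ 3 - (q : ℤ) ^ 4 - (q : ℤ) ^ 5 + (q : ℤ) ^ 7 +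
      (q : ℤ) ^ 8) (by
    have h1 : (0 : ℤ) ≤ (q : ℤ) ^ 3 * ((q : ℤ) ^ 5 - 1 - (q : ℤ) - (q : ℤ) ^ 2) := by
      apply mul_nonneg (by positivity)
      have : (q : ℤ) ^ 5 = (q : ℤ) ^ 2 * (q : ℤ) ^ 3 := by ring
      nlinarith only [hq2, pow_le_pow_left₀ (by norm_num : (0 : ℤ) ≤ 2) hqz 3]
    have h2 : (0 : ℤ) ≤ (q : ℤ) ^ 7 := by positivity
    linarith only [hq2, h1, h2])
  obtain ⟨m₂, hm₂, h₂⟩ := exists_nat (z := 1 - (q : ℤ) ^ 4 + (q : ℤ) ^ 8) (by
    have h1 : (16 : ℤ) ≤ (q : ℤ) ^ 4 := by
      have := pow_le_pow_left₀ (by norm_num : (0 : ℤ) ≤ 2) hqz 4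
      norm_num at this
      exact this
    nlinarith only [h1])
  obtain ⟨b₁, hb₁, hb₁m, hb₁2⟩ := exists_odd_prime h₁ (by
    intro h
    have h1 := zmod_of (r := 2) (z := (m₁ : ℤ)) (Int.natCast_dvd_natCast.2 h)
    rw [hm₁] at h1
    push_cast at h1
    generalize (q : ZMod 2) = x at h1; revert h1; revert x; decide)
  obtain ⟨b₂, hb₂, hb₂m, hb₂2⟩ := exists_odd_prime h₂ (by
    intro h
    have h1 := zmod_of (r := 2) (z := (m₂ : ℤ)) (Int.natCast_dvd_natCast.2 h)
    rw [hm₂] at h1
    push_cast at h1
    generalize (q : ZMod 2) = x at h1; revert h1; revert x; decide)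
  have d₁ : (b₁ : ℤ) ∣ 1 + (q : ℤ) - (q : ℤ) ^ 3 - (q : ℤ) ^ 4 - (q : ℤ) ^ 5 + (q : ℤ) ^ 7 + (q : ℤ) ^ 8 := by
    rw [← hm₁]; exact Int.natCast_dvd_natCast.2 hb₁m
  have d₂ : (b₂ : ℤ) ∣ 1 - (q : ℤ) ^ 4 + (q : ℤ) ^ 8 := by rw [← hm₂]; exact Int.natCast_dvd_natCast.2 hb₂m
  have hm := Cfsg.Agent.H80.Fpf.multDvd_of_cyclic one_ne_zero (Cfsg.Agent.S2107.result (F := F))
  refine rowOdd_of_par hr (lieType_E8 r) hpar ?_ hm (fun s hs h => absurd (Nat.dvd_one.1 h) hs.one_lt.ne') hb₁ hb₂ hb₁2 hb₂2
    (ne_of_bez hb₁ (u := - (q : ℤ) + (q : ℤ) ^ 5 + (q : ℤ) ^ 7)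
      (v := 1 + (q : ℤ) + (q : ℤ) ^ 2 - (q : ℤ) ^ 5 - (q : ℤ) ^ 6 - (q : ℤ) ^ 7) d₁ d₂ (by ring))
    (reg_of_cycCard hb₁ (card_E8_30 hq hm₁ hb₁ d₁)
      (not_dvd_of hr hrq (Or.inl rfl) (a := 1 - (q : ℤ) ^ 2 - (q : ℤ) ^ 3 - (q : ℤ) ^ 4 + (q : ℤ) ^ 6 + (q : ℤ) ^ 7) (by rw [hm₁]; ring)))
    (reg_of_cycCard hb₂ (card_E8_24 hq hm₂ hb₂ d₂)
      (not_dvd_of hr hrq (Or.inl rfl) (a := - (q : ℤ) ^ 3 + (q : ℤ) ^ 7) (by rw [hm₂]; ring)))
  rw [Cfsg.Agent.S1065.result hq]
  refine (two_dvd_sq q hq2).trans ⟨q ^ 119 * ((q ^ 8 - 1) * (q ^ 12 - 1) * (q ^ 14 - 1) * (q ^ 18 - 1) * (q ^ 20 - 1) *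
    (q ^ 24 - 1) * (q ^ 30 - 1)), ?_⟩
  ring

/-! ### `F₄` -/

theorem f4 {F : Type} [Field F] [Fintype F] {r : ℕ} [CharP F r] (hpar : Par r ↥(chevF4.group F)) :
    RowOdd ↥(chevF4.group F) := by
  have hr : r.Prime := CharP.char_is_prime F r
  obtain ⟨q, hq⟩ : ∃ q, Fintype.card F = q := ⟨_, rfl⟩
  have hq2 : 2 ≤ q := by rw [← hq]; exact Fintype.one_lt_card
  have hrq : r ∣ q := dvd_q hq
  have hqz : (2 : ℤ) ≤ q := by exact_mod_cast hq2
  obtain ⟨m₁, hm₁, h₁⟩ := exists_nat (z := 1 - (q : ℤ) ^ 2 + (q : ℤ) ^ 4) (by
    have h1 : (4 : ℤ) ≤ (q : ℤ) ^ 2 := by nlinarith only [hq2]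
    nlinarith only [h1])
  have hm₂ : ((q ^ 4 + 1 : ℕ) : ℤ) = 1 + (q : ℤ) ^ 4 := by push_cast; ring
  obtain ⟨b₁, hb₁, hb₁m, hb₁2⟩ := exists_odd_prime h₁ (by
    intro h
    have h1 := zmod_of (r := 2) (z := (m₁ : ℤ)) (Int.natCast_dvd_natCast.2 h)
    rw [hm₁] at h1
    push_cast at h1
    generalize (q : ZMod 2) = x at h1; revert h1; revert x; decide)
  obtain ⟨b₂, hb₂, hb₂m, hb₂2⟩ := exists_odd_prime' (m := q ^ 4 + 1)
    (by have := Nat.pow_le_pow_left hq2 4; omega) (by
    intro h
    have h1 := (ZMod.natCast_eq_zero_iff _ _).2 h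
    push_cast at h1
    generalize (q : ZMod 4) = x at h1; revert h1; revert x; decide)
  have d₁ : (b₁ : ℤ) ∣ 1 - (q : ℤ) ^ 2 + (q : ℤ) ^ 4 := by rw [← hm₁]; exact Int.natCast_dvd_natCast.2 hb₁m
  have d₂ : (b₂ : ℤ) ∣ 1 + (q : ℤ) ^ 4 := by rw [← hm₂]; exact Int.natCast_dvd_natCast.2 hb₂m
  obtain ⟨m, hm, hm'⟩ : ∃ m : ℕ, MultDvd ↥(chevF4.group F) m ∧ ∀ s : ℕ, s.Prime → s ∣ m → s = 2 := by
    by_cases h2 : Fintype.card F = 2
    · exact ⟨2, Cfsg.Agent.H80.Fpf.multDvd_of_cyclic two_ne_zero (Cfsg.Agent.S2104.result h2),
        fun s hs h => (Nat.prime_dvd_prime_iff_eq hs Nat.prime_two).1 h⟩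
    · exact ⟨1, Cfsg.Agent.H80.Fpf.multDvd_of_cyclic one_ne_zero (Cfsg.Agent.S2103.result (by omega)),
        fun s hs h => absurd (Nat.dvd_one.1 h) hs.one_lt.ne'⟩
  refine rowOdd_of_par hr (lieType_F4 r) hpar ?_ hm hm' hb₁ hb₂ hb₁2 hb₂2
    (ne_of_bez hb₁ (u := (q : ℤ) ^ 2) (v := 1 - (q : ℤ) ^ 2) d₁ d₂ (by ring))
    (reg_of_cycCard hb₁ (card_F4_12 hq hm₁ hb₁ d₁)
      (not_dvd_of hr hrq (Or.inl rfl) (a := - (q : ℤ) + (q : ℤ) ^ 3) (by rw [hm₁]; ring)))
    (reg_of_cycCard hb₂ (card_F4_8 hq hm₂ hb₂ d₂ hb₂2)
      (not_dvd_of hr hrq (Or.inl rfl) (a := (q : ℤ) ^ 3) (by rw [hm₂]; ring)))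
  rw [Cfsg.Agent.S1062.result hq]
  refine (two_dvd_sq q hq2).trans ⟨q ^ 23 * ((q ^ 6 - 1) * (q ^ 8 - 1) * (q ^ 12 - 1)), ?_⟩
  ring

/-! ### `E₇` -/

theorem even_E7 {F : Type} [Field F] [Fintype F] : 2 ∣ Nat.card ↥(chevE7.group F) := by
  obtain ⟨q, hq⟩ : ∃ q, Fintype.card F = q := ⟨_, rfl⟩
  have hq2 : 2 ≤ q := by rw [← hq]; exact Fintype.one_lt_card
  have h1 := Cfsg.Agent.S1064.result hq
  have h4 : 4 ∣ Nat.gcd 2 (q - 1) * Nat.card ↥(chevE7.group F) := by
    rw [h1]
    have e : q ^ 63 * (q ^ 2 - 1) * (q ^ 6 - 1) * (q ^ 8 - 1) * (q ^ 10 - 1) * (q ^ 12 - 1) * (q ^ 14 - 1) *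
        (q ^ 18 - 1) = (q * (q ^ 2 - 1)) * (q * (q ^ 6 - 1)) * (q ^ 61 * ((q ^ 8 - 1) * (q ^ 10 - 1) * (q ^ 12 - 1) *
        (q ^ 14 - 1) * (q ^ 18 - 1))) := by ring
    rw [e]
    refine Dvd.dvd.mul_right ?_ _
    have h5 : 2 ∣ q * (q ^ 6 - 1) := by
      rcases Nat.even_or_odd q with h | h
      · exact (h.two_dvd).mul_right _
      · refine Dvd.dvd.mul_left ?_ _
        obtain ⟨k, hk⟩ : Odd (q ^ 6) := h.pow
        rw [hk]
        exact ⟨k, by omega⟩
    exact mul_dvd_mul (two_dvd_sq q hq2) h5
  rcases (Nat.dvd_prime Nat.prime_two).1 (Nat.gcd_dvd_left 2 (q - 1)) with h | h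
  · rw [h, one_mul] at h4
    exact (by norm_num : 2 ∣ 4).trans h4
  · rw [h] at h4
    exact Nat.dvd_of_mul_dvd_mul_left (by norm_num : 0 < 2) (by simpa only [_root_.Nat.reduceMul] using h4)

theorem e7 {F : Type} [Field F] [Fintype F] {r : ℕ} [CharP F r] (hpar : Par r ↥(chevE7.group F)) :
    RowOdd ↥(chevE7.group F) := by
  have hr : r.Prime := CharP.char_is_prime F r
  obtain ⟨q, hq⟩ : ∃ q, Fintype.card F = q := ⟨_, rfl⟩
  have hq2 : 2 ≤ q := by rw [← hq]; exact Fintype.one_lt_card
  have hrq : r ∣ q := dvd_q hq
  have hqz : (2 : ℤ) ≤ q := by exact_mod_cast hq2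
  obtain ⟨b₁, hb₁, -, d₁, hb₁2, hb₁3, -⟩ := Cfsg.Agent.H129.RealT.exists_prime9 hq2
  obtain ⟨b₂, hb₂, -, d₂, hb₂2, hb₂3, -⟩ := Cfsg.Agent.H129.RealT.exists_prime18 hq2
  obtain ⟨m₁, hm₁, -⟩ := exists_nat (z := (1 + (q : ℤ) ^ 3 + (q : ℤ) ^ 6) * ((q : ℤ) - 1)) (by
    have h1 : (0 : ℤ) ≤ (q : ℤ) ^ 3 := by positivity
    have h2 : (q : ℤ) ^ 3 = (q : ℤ) * (q : ℤ) ^ 2 := by ring
    have h3 : (1 : ℤ) ≤ (q : ℤ) ^ 3 := one_le_pow₀ (by omega)
    have h4 : (1 : ℤ) ≤ (q : ℤ) ^ 6 := one_le_pow₀ (by omega)
    nlinarith only [hq2, h1, h4])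
  obtain ⟨m₂, hm₂, -⟩ := exists_nat (z := (1 - (q : ℤ) ^ 3 + (q : ℤ) ^ 6) * ((q : ℤ) + 1)) (by
    have h3 : (1 : ℤ) ≤ (q : ℤ) ^ 3 := one_le_pow₀ (by omega)
    have h4 : (q : ℤ) ^ 6 = (q : ℤ) ^ 3 * (q : ℤ) ^ 3 := by ring
    nlinarith only [hm₁, h3, _root_.mul_self_nonneg (↑q ^ 3 : ℤ), _root_.Nat.cast_nonneg (α := ℤ) (m₁)])
  have hm := Cfsg.Agent.H80.Fpf.multDvd_of_cyclic (Nat.gcd_pos_of_pos_left _ (by norm_num)).ne'
    (Cfsg.Agent.S2106.result hq)
  refine rowOdd_of_par hr (lieType_E7 r) hpar even_E7 hm (fun s hs h =>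
      (Nat.prime_dvd_prime_iff_eq hs Nat.prime_two).1 (h.trans (Nat.gcd_dvd_left _ _))) hb₁ hb₂ hb₁2 hb₂2 ?_
    (reg_of_cycCard hb₁ (card_E7_9 hq hm₁ hb₁ d₁ hb₁3)
      (not_dvd_of hr hrq (Or.inr rfl) (a := 1 - (q : ℤ) ^ 2 + (q : ℤ) ^ 3 - (q : ℤ) ^ 5 + (q : ℤ) ^ 6) (by rw [hm₁]; ring)))
    (reg_of_cycCard hb₂ (card_E7_18 hq hm₂ hb₂ d₂ hb₂3)
      (not_dvd_of hr hrq (Or.inl rfl) (a := 1 - (q : ℤ) ^ 2 - (q : ℤ) ^ 3 + (q : ℤ) ^ 5 + (q : ℤ) ^ 6) (by rw [hm₂]; ring)))
  rintro rfl
  have h3 : (b₁ : ℤ) ∣ ((2 : ℕ) : ℤ) := by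
    have h4 : ((2 : ℕ) : ℤ) = (1 - (q : ℤ) ^ 3) * (1 + (q : ℤ) ^ 3 + (q : ℤ) ^ 6) +
        (1 + (q : ℤ) ^ 3) * (1 - (q : ℤ) ^ 3 + (q : ℤ) ^ 6) := by push_cast; ring
    rw [h4]
    exact dvd_add (d₁.mul_left _) (d₂.mul_left _)
  exact hb₁2 ((Nat.prime_dvd_prime_iff_eq hb₁ Nat.prime_two).1 (Int.natCast_dvd_natCast.1 h3))

/-! ### the rows, from `Par` for the explicit groups -/

theorem row_E8_of (hpar : ∀ (F : Type) [Field F] [Fintype F] (r : ℕ) [CharP F r], Par r ↥(chevE8.group F))
    {S : Type v} [Group S] (h : IsoE8 S) : RowOdd S := by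
  obtain ⟨F, _, _, ⟨e⟩⟩ := h
  obtain ⟨r, _⟩ := CharP.exists F
  exact (e8 (hpar F r)).congr e.symm

theorem row_E7_of (hpar : ∀ (F : Type) [Field F] [Fintype F] (r : ℕ) [CharP F r], Par r ↥(chevE7.group F))
    {S : Type v} [Group S] (h : IsoE7 S) : RowOdd S := by
  obtain ⟨F, _, _, ⟨e⟩⟩ := h
  obtain ⟨r, _⟩ := CharP.exists F
  exact (e7 (hpar F r)).congr e.symm

theorem row_F4_of (hpar : ∀ (F : Type) [Field F] [Fintype F] (r : ℕ) [CharP F r], Par r ↥(chevF4.group F))
    {S : Type v} [Group S] (h : IsoF4 S) : RowOdd S := by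
  obtain ⟨F, _, _, ⟨e⟩⟩ := h
  obtain ⟨r, _⟩ := CharP.exists F
  exact (f4 (hpar F r)).congr e.symm

end Cfsg.Agent.H934.PQR
end

-- part: H934/PQR/RowsE6
section
/-!
# S3988: the rows `E₆(q)`, `²E₆(q)` (helper934), from the parabolic lemma `Par` and, if `3` divides the order of the
multiplier, triples for the primes `p ≠ 3` with all elements of order `p` regular.
-/

set_option autoImplicit false

namespace Cfsg.Agent.H934.PQR

open Cfsg Cfsg.Lie Subgroup Cfsg.Agent.H562.PQR Cfsg.Agent.H129.CycCard
open Cfsg.Agent.H80.Fpf (MultDvd)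

universe v

/-- **The row**, the odd primes dividing the order of the multiplier being `3` only. -/
theorem rowOdd_of_par3 {S : Type v} [Group S] [Finite S] {r : ℕ} (hr : r.Prime) (hS : IsLieTypeChar r S)
    (hpar : Par r S) (h2 : 2 ∣ Nat.card S) {m : ℕ} (hm : MultDvd S m)
    (hm' : ∀ s : ℕ, s.Prime → s ∣ m → s = 2 ∨ s = 3) {b₁ b₂ : ℕ}
    (hb₁ : b₁.Prime) (hb₂ : b₂.Prime) (hb₁2 : b₁ ≠ 2) (hb₂2 : b₂ ≠ 2) (hne : b₁ ≠ b₂) (h₁ : Reg r b₁ S)
    (h₂ : Reg r b₂ S) (hX : 3 ∣ m → ∀ p : ℕ, p.Prime → p ≠ 2 → p ≠ 3 → p ≠ r → Reg r p S → Trip p S) : RowOdd S := by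
  intro p hp hp2 hd
  rcases dich hr hpar hp hp2 hd with h | ⟨hpr, x, hx, hxc, -⟩
  · exact Or.inl h
  right
  by_cases h3 : 3 ∣ m ∧ p ≠ 3
  · exact hX h3.1 p hp hp2 h3.2 hpr ⟨x, hx, hxc⟩
  have key : ∀ s : ℕ, s.Prime → s ∣ m → s = 2 ∨ s = p := by
    intro s hs hsm
    rcases hm' s hs hsm with h | h
    · exact Or.inl h
    · subst h
      right
      by_contra h4
      exact h3 ⟨hsm, fun h5 => h4 h5.symm⟩
  by_cases hpb : p = b₁
  · subst hpb
    exact trip_of_reg hr hS hp hb₂ hp2 hb₂2 hne h2 ⟨x, hx, hxc⟩ h₂ hm fun s hs hsm => by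
      rcases key s hs hsm with h | h
      · exact Or.inl h
      · exact Or.inr (Or.inl h)
  · exact trip_of_reg hr hS hp hb₁ hp2 hb₁2 hpb h2 ⟨x, hx, hxc⟩ h₁ hm fun s hs hsm => by
      rcases key s hs hsm with h | h
      · exact Or.inl h
      · exact Or.inr (Or.inl h)

/-! ### `E₆` -/

theorem even_E6 {F : Type} [Field F] [Fintype F] : 2 ∣ Nat.card ↥(chevE6.group F) := by
  obtain ⟨q, hq⟩ : ∃ q, Fintype.card F = q := ⟨_, rfl⟩
  have hq2 : 2 ≤ q := by rw [← hq]; exact Fintype.one_lt_card
  have h1 := Cfsg.Agent.S1063.result hq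
  have h4 : 2 ∣ Nat.gcd 3 (q - 1) * Nat.card ↥(chevE6.group F) := by
    rw [h1]
    refine (two_dvd_sq q hq2).trans ⟨q ^ 35 * ((q ^ 5 - 1) * (q ^ 6 - 1) * (q ^ 8 - 1) * (q ^ 9 - 1) * (q ^ 12 - 1)), ?_⟩
    ring
  refine (Nat.Prime.dvd_mul Nat.prime_two).1 h4 |>.resolve_left fun h => ?_
  have h5 := h.trans (Nat.gcd_dvd_left 3 (q - 1))
  norm_num at h5

/-- the two regular primes of `E₆(q)` -/
theorem reg_E6 {F : Type} [Field F] [Fintype F] {r : ℕ} [CharP F r] : ∃ b₁ b₂ : ℕ, b₁.Prime ∧ b₂.Prime ∧ b₁ ≠ 2 ∧
    b₂ ≠ 2 ∧ b₁ ≠ b₂ ∧ Reg r b₁ ↥(chevE6.group F) ∧ Reg r b₂ ↥(chevE6.group F) := by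
  have hr : r.Prime := CharP.char_is_prime F r
  obtain ⟨q, hq⟩ : ∃ q, Fintype.card F = q := ⟨_, rfl⟩
  have hq2 : 2 ≤ q := by rw [← hq]; exact Fintype.one_lt_card
  have hrq : r ∣ q := dvd_q hq
  have hqz : (2 : ℤ) ≤ q := by exact_mod_cast hq2
  obtain ⟨b₁, hb₁, -, d₁, hb₁2, hb₁3, -⟩ := Cfsg.Agent.H129.RealT.exists_prime9 hq2
  obtain ⟨n₂, hn₂, h₂⟩ := exists_nat (z := 1 - (q : ℤ) ^ 2 + (q : ℤ) ^ 4) (by
    have h1 : (4 : ℤ) ≤ (q : ℤ) ^ 2 := by nlinarith only [hq2]
    nlinarith only [h1])
  obtain ⟨b₂, hb₂, hb₂m, hb₂2⟩ := exists_odd_prime h₂ (by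
    intro h
    have h1 := zmod_of (r := 2) (z := (n₂ : ℤ)) (Int.natCast_dvd_natCast.2 h)
    rw [hn₂] at h1
    push_cast at h1
    generalize (q : ZMod 2) = x at h1; revert h1; revert x; decide)
  have d₂ : (b₂ : ℤ) ∣ 1 - (q : ℤ) ^ 2 + (q : ℤ) ^ 4 := by rw [← hn₂]; exact Int.natCast_dvd_natCast.2 hb₂m
  obtain ⟨m₁, hm₁, -⟩ := exists_nat (z := 1 + (q : ℤ) ^ 3 + (q : ℤ) ^ 6) (by
    have h3 : (1 : ℤ) ≤ (q : ℤ) ^ 3 := one_le_pow₀ (by omega)
    have h4 : (1 : ℤ) ≤ (q : ℤ) ^ 6 := one_le_pow₀ (by omega)
    omega)
  obtain ⟨m₂, hm₂, -⟩ := exists_nat (z := (1 - (q : ℤ) ^ 2 + (q : ℤ) ^ 4) * (1 + (q : ℤ) + (q : ℤ) ^ 2)) (by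
    have h1 : (4 : ℤ) ≤ (q : ℤ) ^ 2 := by nlinarith only [hq2]
    have h3 : (2 : ℤ) ≤ 1 - (q : ℤ) ^ 2 + (q : ℤ) ^ 4 := by nlinarith only [h1]
    nlinarith only [h3])
  exact ⟨b₁, b₂, hb₁, hb₂, hb₁2, hb₂2,
    ne_of_bez hb₁ (u := - (q : ℤ) ^ 3) (v := 1 + (q : ℤ) ^ 2 + (q : ℤ) ^ 3 + (q : ℤ) ^ 5) d₁ d₂ (by ring),
    reg_of_cycCard hb₁ (card_E6_9 hq hm₁ hb₁ d₁ hb₁3)
      (not_dvd_of hr hrq (Or.inl rfl) (a := (q : ℤ) ^ 2 + (q : ℤ) ^ 5) (by rw [hm₁]; ring)),
    reg_of_cycCard hb₂ (card_E6_12 hq hm₂ hb₂ d₂)
      (not_dvd_of hr hrq (Or.inl rfl) (a := 1 - (q : ℤ) ^ 2 + (q : ℤ) ^ 4 + (q : ℤ) ^ 5) (by rw [hm₂]; ring))⟩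

theorem e6 {F : Type} [Field F] [Fintype F] {r : ℕ} [CharP F r] (hpar : Par r ↥(chevE6.group F))
    (hX : 3 ∣ Fintype.card F - 1 → ∀ p : ℕ, p.Prime → p ≠ 2 → p ≠ 3 → p ≠ r → Reg r p ↥(chevE6.group F) →
      Trip p ↥(chevE6.group F)) : RowOdd ↥(chevE6.group F) := by
  have hr : r.Prime := CharP.char_is_prime F r
  obtain ⟨b₁, b₂, hb₁, hb₂, hb₁2, hb₂2, hne, h₁, h₂⟩ := reg_E6 (F := F) (r := r)
  have hm := Cfsg.Agent.H80.Fpf.multDvd_of_cyclic (Nat.gcd_pos_of_pos_left _ (by norm_num)).ne'
    (Cfsg.Agent.S2105.result (F := F) rfl)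
  exact rowOdd_of_par3 hr (lieType_E6 r) hpar even_E6 hm (fun s hs h =>
      Or.inr ((Nat.prime_dvd_prime_iff_eq hs Nat.prime_three).1 (h.trans (Nat.gcd_dvd_left _ _)))) hb₁ hb₂ hb₁2 hb₂2 hne
    h₁ h₂ fun h3 => hX (h3.trans (Nat.gcd_dvd_right _ _))

/-! ### `²E₆` -/

theorem lieType_TE6 {K : Type} [Field K] [Fintype K] {p q : ℕ} [CharP K p] (hq : IsPrimePow q)
    (hK : Fintype.card K = q ^ 2) : IsLieTypeChar p ↥(twistedE6 K q) :=
  Or.inr (Or.inr (Or.inr (Or.inr (Or.inr (Or.inr (Or.inr (Or.inl ⟨K, inferInstance, inferInstance, inferInstance, q, hq,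
    Or.inl ⟨hK, ⟨MulEquiv.refl _⟩⟩⟩)))))))

theorem even_TE6 {K : Type} [Field K] [Fintype K] {q : ℕ} (hq : IsPrimePow q) (hK : Fintype.card K = q ^ 2) :
    2 ∣ Nat.card ↥(twistedE6 K q) := by
  have h1 := Cfsg.Agent.S1066.result hq hK
  have h4 : 2 ∣ Nat.gcd 3 (q + 1) * Nat.card ↥(twistedE6 K q) := by
    rw [h1]
    refine (two_dvd_sq q hq.two_le).trans
      ⟨q ^ 35 * ((q ^ 5 + 1) * (q ^ 6 - 1) * (q ^ 8 - 1) * (q ^ 9 + 1) * (q ^ 12 - 1)), ?_⟩
    ring
  refine (Nat.Prime.dvd_mul Nat.prime_two).1 h4 |>.resolve_left fun h => ?_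
  have h5 := h.trans (Nat.gcd_dvd_left 3 (q + 1))
  norm_num at h5

/-- the two regular primes of `²E₆(q)` -/
theorem reg_TE6 {K : Type} [Field K] [Fintype K] {r q : ℕ} [CharP K r] (hq : IsPrimePow q)
    (hK : Fintype.card K = q ^ 2) : ∃ b₁ b₂ : ℕ, b₁.Prime ∧ b₂.Prime ∧ b₁ ≠ 2 ∧
    b₂ ≠ 2 ∧ b₁ ≠ b₂ ∧ Reg r b₁ ↥(twistedE6 K q) ∧ Reg r b₂ ↥(twistedE6 K q) := by
  have hr : r.Prime := CharP.char_is_prime K r
  have hq2 : 2 ≤ q := hq.two_le
  have hrq : r ∣ q := hr.dvd_of_dvd_pow (dvd_q hK)
  have hqz : (2 : ℤ) ≤ q := by exact_mod_cast hq2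
  obtain ⟨b₁, hb₁, -, d₁, hb₁2, hb₁3, -⟩ := Cfsg.Agent.H129.RealT.exists_prime18 hq2
  obtain ⟨n₂, hn₂, h₂⟩ := exists_nat (z := 1 - (q : ℤ) ^ 2 + (q : ℤ) ^ 4) (by
    have h1 : (4 : ℤ) ≤ (q : ℤ) ^ 2 := by nlinarith only [hq2]
    nlinarith only [h1])
  obtain ⟨b₂, hb₂, hb₂m, hb₂2⟩ := exists_odd_prime h₂ (by
    intro h
    have h1 := zmod_of (r := 2) (z := (n₂ : ℤ)) (Int.natCast_dvd_natCast.2 h)
    rw [hn₂] at h1
    push_cast at h1
    generalize (q : ZMod 2) = x at h1; revert h1; revert x; decide)
  have d₂ : (b₂ : ℤ) ∣ 1 - (q : ℤ) ^ 2 + (q : ℤ) ^ 4 := by rw [← hn₂]; exact Int.natCast_dvd_natCast.2 hb₂m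
  obtain ⟨m₁, hm₁, -⟩ := exists_nat (z := 1 - (q : ℤ) ^ 3 + (q : ℤ) ^ 6) (by
    have h3 : (8 : ℤ) ≤ (q : ℤ) ^ 3 := by
      have := pow_le_pow_left₀ (by norm_num : (0 : ℤ) ≤ 2) hqz 3
      norm_num at this
      exact this
    have h4 : (q : ℤ) ^ 6 = (q : ℤ) ^ 3 * (q : ℤ) ^ 3 := by ring
    nlinarith only [h3])
  obtain ⟨m₂, hm₂, -⟩ := exists_nat (z := (1 - (q : ℤ) ^ 2 + (q : ℤ) ^ 4) * (1 - (q : ℤ) + (q : ℤ) ^ 2)) (by
    have h1 : (4 : ℤ) ≤ (q : ℤ) ^ 2 := by nlinarith only [hq2]
    have h3 : (2 : ℤ) ≤ 1 - (q : ℤ) ^ 2 + (q : ℤ) ^ 4 := by nlinarith only [h1]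
    have h5 : (1 : ℤ) ≤ 1 - (q : ℤ) + (q : ℤ) ^ 2 := by nlinarith only []
    nlinarith only [h3])
  exact ⟨b₁, b₂, hb₁, hb₂, hb₁2, hb₂2,
    ne_of_bez hb₁ (u := (q : ℤ) ^ 3) (v := 1 + (q : ℤ) ^ 2 - (q : ℤ) ^ 3 - (q : ℤ) ^ 5) d₁ d₂ (by ring),
    reg_of_cycCard hb₁ (card_tE6_18 hq hK hm₁ hb₁ d₁ hb₁3)
      (not_dvd_of hr hrq (Or.inl rfl) (a := - (q : ℤ) ^ 2 + (q : ℤ) ^ 5) (by rw [hm₁]; ring)),
    reg_of_cycCard hb₂ (card_tE6_12 hq hK hm₂ hb₂ d₂)
      (not_dvd_of hr hrq (Or.inl rfl) (a := -1 + (q : ℤ) ^ 2 - (q : ℤ) ^ 4 + (q : ℤ) ^ 5) (by rw [hm₂]; ring))⟩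

theorem te6 {K : Type} [Field K] [Fintype K] {r q : ℕ} [CharP K r] (hq : IsPrimePow q)
    (hK : Fintype.card K = q ^ 2) (hpar : Par r ↥(twistedE6 K q))
    (hX : 3 ∣ q + 1 → ∀ p : ℕ, p.Prime → p ≠ 2 → p ≠ 3 → p ≠ r → Reg r p ↥(twistedE6 K q) →
      Trip p ↥(twistedE6 K q)) : RowOdd ↥(twistedE6 K q) := by
  have hr : r.Prime := CharP.char_is_prime K r
  obtain ⟨b₁, b₂, hb₁, hb₂, hb₁2, hb₂2, hne, h₁, h₂⟩ := reg_TE6 (r := r) hq hK
  by_cases h2 : q = 2
  · subst h2
    have h0 := Cfsg.Agent.S2109.result (K := K) (by rw [hK]; norm_num)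
    have hm := Cfsg.Agent.H80.Fpf.multDvd_of h0
    have hc : Nat.card (Multiplicative (ZMod 3 × ZMod 2 × ZMod 2)) = 12 := by
      rw [Nat.card_congr Multiplicative.toAdd, Nat.card_prod, Nat.card_prod, Nat.card_zmod, Nat.card_zmod]
    rw [hc] at hm
    refine rowOdd_of_par3 hr (lieType_TE6 hq hK) hpar (even_TE6 hq hK) hm (fun s hs h => ?_) hb₁ hb₂ hb₁2 hb₂2 hne
      h₁ h₂ fun _ => hX (by norm_num)
    have h3 : s ∣ 2 * 2 * 3 := by norm_num; exact h
    rcases (Nat.Prime.dvd_mul hs).1 h3 with h4 | h4
    · rcases (Nat.Prime.dvd_mul hs).1 h4 with h5 | h5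
      · exact Or.inl ((Nat.prime_dvd_prime_iff_eq hs Nat.prime_two).1 h5)
      · exact Or.inl ((Nat.prime_dvd_prime_iff_eq hs Nat.prime_two).1 h5)
    · exact Or.inr ((Nat.prime_dvd_prime_iff_eq hs Nat.prime_three).1 h4)
  · have hm := Cfsg.Agent.H80.Fpf.multDvd_of_cyclic (Nat.gcd_pos_of_pos_left _ (by norm_num)).ne'
      (Cfsg.Agent.S2108.result hq hK h2)
    exact rowOdd_of_par3 hr (lieType_TE6 hq hK) hpar (even_TE6 hq hK) hm (fun s hs h =>
        Or.inr ((Nat.prime_dvd_prime_iff_eq hs Nat.prime_three).1 (h.trans (Nat.gcd_dvd_left _ _)))) hb₁ hb₂ hb₁2 hb₂2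
      hne h₁ h₂ fun h3 => hX (h3.trans (Nat.gcd_dvd_right _ _))

/-! ### the rows -/

theorem row_E6_of (hpar : ∀ (F : Type) [Field F] [Fintype F] (r : ℕ) [CharP F r], Par r ↥(chevE6.group F))
    (hX : ∀ (F : Type) [Field F] [Fintype F] (r : ℕ) [CharP F r], 3 ∣ Fintype.card F - 1 → ∀ p : ℕ, p.Prime → p ≠ 2 →
      p ≠ 3 → p ≠ r → Reg r p ↥(chevE6.group F) → Trip p ↥(chevE6.group F))
    {S : Type v} [Group S] (h : IsoChevE6 S) : RowOdd S := by
  obtain ⟨F, _, _, ⟨e⟩⟩ := h
  obtain ⟨r, _⟩ := CharP.exists F
  exact (e6 (hpar F r) (hX F r)).congr e.symm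

theorem row_2E6_of (hpar : ∀ (K : Type) [Field K] [Fintype K] (r q : ℕ) [CharP K r], IsPrimePow q →
      Fintype.card K = q ^ 2 → Par r ↥(twistedE6 K q))
    (hX : ∀ (K : Type) [Field K] [Fintype K] (r q : ℕ) [CharP K r], IsPrimePow q → Fintype.card K = q ^ 2 →
      3 ∣ q + 1 → ∀ p : ℕ, p.Prime → p ≠ 2 → p ≠ 3 → p ≠ r → Reg r p ↥(twistedE6 K q) → Trip p ↥(twistedE6 K q))
    {S : Type v} [Group S] (h : Iso2E6 S) : RowOdd S := by
  obtain ⟨K, _, _, q, hq, hK, ⟨e⟩⟩ := h
  obtain ⟨r, _⟩ := CharP.exists K
  exact (te6 hq hK (hpar K r q hq hK) (hX K r q hq hK)).congr e.symm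

end Cfsg.Agent.H934.PQR
end
end

-- part: H877/PQROrth_mg
section
prune_inst 0x4554043410940020000040080110002814d00040000000000012408000000c00041028800040020080802200000040008100000800000000000840000000101000000420840c10015c40018000088010000100000000000000000000000000000010000000
set_option linter.all false
open scoped Cfsg.Agent.FastGrp

-- part: H877/PQROrthTool
section
/-!
# S3988, orthogonal groups: tools (helper877)

* `Sub Q n ε` : `Q` is the orthogonal sum of a form of dimension `2n` and sign `ε` and some form;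
* `Sub.notMin` : `H` perfect acting by isometries with central kernel on a form of dimension `2n` and sign `ε`,
  `H/Z(H)` simple of order divisible by `p`: `NotMin p (PΩ(Q))`;
* `slnRep` : the action of `SL_n` on `W ⊕ W*`.
-/

set_option autoImplicit false
set_option linter.unusedSectionVars false
set_option linter.style.haveILetI false

namespace Cfsg.Agent.H877.PQROrth

open QuadraticMap Cfsg
open Cfsg.Agent.LieClassical.OrthCore Cfsg.Agent.LieClassical.OrthForms Cfsg.Agent.H182.Sign Cfsg.Agent.H522.FpfEmb
open Cfsg.Agent.H562.PQR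

/-- `Q` is the orthogonal sum of a form of dimension `2n` and sign `ε` and some form -/
def Sub {ι : Type} [Fintype ι] [DecidableEq ι] {F : Type} [Field F] [Finite F] (Q : QuadraticForm F (ι → F))
    (n : ℕ) (ε : ℤ) : Prop :=
  ∃ (V W : Type) (_ : AddCommGroup V) (_ : Module F V) (_ : Finite V) (_ : AddCommGroup W) (_ : Module F W)
    (_ : Finite W) (P : QuadraticForm F V) (R : QuadraticForm F W) (e : (V × W) ≃ₗ[F] (ι → F)),
    Sg P n ε ∧ ∀ v, Q (e v) = prodForm P R v

section

variable {ι : Type} [Fintype ι] [DecidableEq ι] {F : Type} [Field F] [Finite F] {Q : QuadraticForm F (ι → F)}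
  {n m : ℕ} {ε ε₀ : ℤ}

theorem Sub.of_sg (h : Sg Q n ε) : Sub Q n ε := by
  refine ⟨ι → F, PUnit, inferInstance, inferInstance, inferInstance, inferInstance, inferInstance, inferInstance,
    Q, 0, LinearEquiv.prodUnique, h, fun v => ?_⟩
  rw [prodForm_apply, QuadraticMap.zero_apply, add_zero]
  rfl

theorem Sub.trans (h : Sub Q m ε₀) (hn : 1 ≤ n) (hnm : n < m) (hε : ε = 1 ∨ ε = -1) : Sub Q n ε := by
  obtain ⟨V, W, _, _, _, _, _, _, P, R, e, hP, he⟩ := h
  obtain ⟨ι₁, _, P₁, hP₁⟩ := exists_sg F hn hε
  obtain ⟨ι₂, _, P₂, hP₂⟩ := exists_sg F (n := m - n) (by omega) (ε := ε * ε₀) (by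
    rcases hε with rfl | rfl <;> rcases hP.eps with rfl | rfl <;> simp)
  have hs := hP₁.prod hP₂
  rw [Nat.add_sub_cancel' hnm.le, show ε * (ε * ε₀) = ε₀ by rcases hε with rfl | rfl <;> simp] at hs
  obtain ⟨f, hf⟩ := hs.exists_equiv hP
  refine ⟨ι₁ → F, (ι₂ → F) × W, inferInstance, inferInstance, inferInstance, inferInstance, inferInstance,
    inferInstance, P₁, prodForm P₂ R,
    ((LinearEquiv.prodAssoc F (ι₁ → F) (ι₂ → F) W).symm.trans (f.prodCongr (LinearEquiv.refl F W))).trans e, hP₁, ?_⟩
  rintro ⟨x, y, z⟩
  rw [LinearEquiv.trans_apply, he, prodForm_apply, prodForm_apply, prodForm_apply]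
  change P (f (x, y)) + R z = _
  rw [hf, prodForm_apply, add_assoc]

end

section action

variable {ι : Type} [Fintype ι] [DecidableEq ι] {F : Type} [Field F] [Finite F]
variable {V : Type*} [AddCommGroup V] [Module F V] {W : Type*} [AddCommGroup W] [Module F W]
variable {H : Type*} [Group H]

theorem exists_noncomm (hperf : commutator H = ⊤) (hsim : IsSimpleGroup (H ⧸ Subgroup.center H)) :
    ∃ x y : H ⧸ Subgroup.center H, x * y ≠ y * x := by
  by_contra hab
  push Not at hab
  have h1 : ∀ h : H, h ∈ Subgroup.center H := by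
    have h2 : commutator H ≤ Subgroup.center H := by
      rw [commutator_def, Subgroup.commutator_le]
      intro x _ y _
      rw [← QuotientGroup.eq_one_iff]
      have h3 := hab (QuotientGroup.mk x) (QuotientGroup.mk y)
      rw [commutatorElement_def]
      simp only [QuotientGroup.mk_mul, QuotientGroup.mk_inv]
      rw [h3]
      group
    intro h
    exact h2 (by rw [hperf]; trivial)
  obtain ⟨a, ha⟩ := exists_ne (1 : H ⧸ Subgroup.center H)
  obtain ⟨x, rfl⟩ := QuotientGroup.mk_surjective a
  exact ha ((QuotientGroup.eq_one_iff x).2 (h1 x))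

/-- **Actions by isometries with central kernel.** -/
theorem notMin_of_action [Finite H] {Q : QuadraticForm F (ι → F)} {P : QuadraticForm F V} (e : V ≃ₗ[F] (ι → F))
    (he : ∀ v, Q (e v) = P v) (ρ : H →* Module.End F V) (hρ : ∀ h v, P (ρ h v) = P v)
    (hker : ∀ h, ρ h = 1 → h ∈ Subgroup.center H) (hperf : commutator H = ⊤) {p : ℕ} (hp : p.Prime)
    (hsim : IsSimpleGroup (H ⧸ Subgroup.center H)) (hd : p ∣ Nat.card (H ⧸ Subgroup.center H))
    (hns : ¬ Nat.card (Cfsg.POmega F ⇑Q) ∣ Nat.card H) : NotMin p (Cfsg.POmega F ⇑Q) := by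
  let φ : H →* Cfsg.isometryGroup F ⇑Q := isoHom e he ρ hρ
  have hφ : ∀ h, φ h ∈ Cfsg.Omega F ⇑Q := by
    intro h
    have h1 : h ∈ commutator H := by rw [hperf]; trivial
    have h2 : φ h ∈ (commutator H).map φ := ⟨h, h1, rfl⟩
    have h3 : (commutator H).map φ ≤ commutator (Cfsg.isometryGroup F (⇑Q)) := by
      rw [commutator_def, commutator_def, Subgroup.map_commutator]
      exact Subgroup.commutator_mono le_top le_top
    exact h3 h2
  let ψ : H →* Cfsg.Omega F ⇑Q := φ.codRestrict _ hφ
  let f : H →* Cfsg.POmega F ⇑Q := (QuotientGroup.mk' (Subgroup.center (Cfsg.Omega F ⇑Q))).comp ψ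
  have hψ : ∀ h, ψ h = 1 → h ∈ Subgroup.center H := by
    intro h h1
    apply hker
    apply isoHom_ker e he ρ hρ
    exact congrArg Subtype.val h1
  have hna := exists_noncomm hperf hsim
  refine NotMin.of_hom hna hp hd f (QuotientGroup.mk' (Subgroup.center H)) (QuotientGroup.mk'_surjective _)
    ?_ (fun h => hns (Subgroup.card_dvd_of_surjective f h))
  intro h hh
  rw [QuotientGroup.ker_mk']
  rw [MonoidHom.mem_ker] at hh
  have h1 : ψ h ∈ Subgroup.center (Cfsg.Omega F ⇑Q) := by
    rw [← QuotientGroup.eq_one_iff]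
    exact hh
  apply Cfsg.Agent.LieClassical.Grun.mem_center_of_forall_commutator_mem hperf
  intro g
  apply hψ
  rw [map_mul, map_mul, map_mul, map_inv, map_inv]
  have h2 := Subgroup.mem_center_iff.1 h1 (ψ g)
  rw [← h2, mul_assoc, mul_assoc, mul_inv_cancel_left, mul_inv_cancel]

theorem notMin_of_action_prod [Finite V] [Finite W] [Finite H] {Q : QuadraticForm F (ι → F)} {P : QuadraticForm F V}
    {R : QuadraticForm F W} (e : (V × W) ≃ₗ[F] (ι → F)) (he : ∀ v, Q (e v) = prodForm P R v)
    (ρ : H →* Module.End F V) (hρ : ∀ h v, P (ρ h v) = P v) (hker : ∀ h, ρ h = 1 → h ∈ Subgroup.center H)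
    (hperf : commutator H = ⊤) {p : ℕ} (hp : p.Prime) (hsim : IsSimpleGroup (H ⧸ Subgroup.center H))
    (hd : p ∣ Nat.card (H ⧸ Subgroup.center H)) (hns : ¬ Nat.card (Cfsg.POmega F ⇑Q) ∣ Nat.card H) :
    NotMin p (Cfsg.POmega F ⇑Q) := by
  refine notMin_of_action e he (extEnd.comp ρ) ?_ ?_ hperf hp hsim hd hns
  · intro h v
    rw [prodForm_apply, prodForm_apply]
    change P (ρ h v.1) + R v.2 = _
    rw [hρ]
  · intro h h1
    apply hker
    ext v
    have h2 := LinearMap.congr_fun h1 (v, 0)
    exact congrArg Prod.fst h2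

theorem Sub.notMin [Finite V] [Finite H] {Q : QuadraticForm F (ι → F)} {n : ℕ} {ε : ℤ} (hC : Sub Q n ε)
    {P : QuadraticForm F V} (hP : Sg P n ε) (ρ : H →* Module.End F V) (hρ : ∀ h v, P (ρ h v) = P v)
    (hker : ∀ h, ρ h = 1 → h ∈ Subgroup.center H) (hperf : commutator H = ⊤) {p : ℕ} (hp : p.Prime)
    (hsim : IsSimpleGroup (H ⧸ Subgroup.center H)) (hd : p ∣ Nat.card (H ⧸ Subgroup.center H))
    (hns : ¬ Nat.card (Cfsg.POmega F ⇑Q) ∣ Nat.card H) : NotMin p (Cfsg.POmega F ⇑Q) := by
  obtain ⟨V', W, _, _, _, _, _, _, P', R, e, hP', he⟩ := hC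
  obtain ⟨f, hf⟩ := hP.exists_equiv hP'
  refine notMin_of_action_prod (P := P) (R := R) ((f.prodCongr (LinearEquiv.refl F W)).trans e) ?_ ρ hρ hker hperf hp
    hsim hd hns
  intro v
  rw [LinearEquiv.trans_apply, he, prodForm_apply, prodForm_apply]
  change P' (f v.1) + R v.2 = _
  rw [hf]

end action

section SLn

variable {F : Type} [Field F] [Finite F]

/-- The action of `SL_n` on `W ⊕ W*`. -/
noncomputable def slnRep (F : Type) [Field F] (n : ℕ) :
    Matrix.SpecialLinearGroup (Fin n) F →* Module.End F ((Fin n → F) × (Fin n → F)) where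
  toFun g := (Matrix.toLin' (g : Matrix (Fin n) (Fin n) F)).prodMap
    (Matrix.toLin' ((g⁻¹ : Matrix.SpecialLinearGroup (Fin n) F) : Matrix (Fin n) (Fin n) F).transpose)
  map_one' := by
    rw [inv_one, Matrix.SpecialLinearGroup.coe_one, Matrix.transpose_one, Matrix.toLin'_one]
    rfl
  map_mul' g h := by
    rw [mul_inv_rev, Matrix.SpecialLinearGroup.coe_mul, Matrix.SpecialLinearGroup.coe_mul, Matrix.transpose_mul,
      Matrix.toLin'_mul, Matrix.toLin'_mul]
    rfl

/-- the natural pairing -/
noncomputable def pairForm (F : Type) [Field F] (n : ℕ) : QuadraticForm F ((Fin n → F) × (Fin n → F)) :=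
  (plusForm n F).comp (LinearEquiv.sumArrowLequivProdArrow (Fin n) (Fin n) F F).symm.toLinearMap

theorem pairForm_apply (n : ℕ) (v : (Fin n → F) × (Fin n → F)) : pairForm F n v = v.1 ⬝ᵥ v.2 := by
  change plusForm n F ((LinearEquiv.sumArrowLequivProdArrow (Fin n) (Fin n) F F).symm v) = _
  rw [coe_plusForm]
  rfl

theorem sg_pairForm (n : ℕ) : Sg (pairForm F n) n 1 :=
  (sg_plusForm (F := F) n).congr (LinearEquiv.sumArrowLequivProdArrow (Fin n) (Fin n) F F) fun v => by
    change plusForm n F ((LinearEquiv.sumArrowLequivProdArrow (Fin n) (Fin n) F F).symm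
      ((LinearEquiv.sumArrowLequivProdArrow (Fin n) (Fin n) F F) v)) = _
    rw [LinearEquiv.symm_apply_apply]

theorem slnRep_iso (n : ℕ) (g : Matrix.SpecialLinearGroup (Fin n) F) (v : (Fin n → F) × (Fin n → F)) :
    pairForm F n (slnRep F n g v) = pairForm F n v := by
  rw [pairForm_apply, pairForm_apply]
  change (g : Matrix (Fin n) (Fin n) F).mulVec v.1 ⬝ᵥ
    (((g⁻¹ : Matrix.SpecialLinearGroup (Fin n) F) : Matrix (Fin n) (Fin n) F).transpose).mulVec v.2 = _
  rw [Matrix.dotProduct_mulVec, Matrix.vecMul_transpose, Matrix.mulVec_mulVec, ← Matrix.SpecialLinearGroup.coe_mul,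
    inv_mul_cancel, Matrix.SpecialLinearGroup.coe_one, Matrix.one_mulVec]

theorem slnRep_ker (n : ℕ) (g : Matrix.SpecialLinearGroup (Fin n) F) (h : slnRep F n g = 1) : g = 1 := by
  apply Subtype.ext
  have h1 : Matrix.toLin' (g : Matrix (Fin n) (Fin n) F) = Matrix.toLin' 1 := by
    apply LinearMap.ext
    intro v
    have h3 := congrArg Prod.fst (LinearMap.congr_fun h (v, 0))
    rw [Matrix.toLin'_one]
    exact h3
  exact Matrix.toLin'.injective h1

end SLn

/-- comparison of the characteristic parts -/
theorem not_dvd {q b c N : ℕ} (hq : 1 < q) (hc : Nat.Coprime q c) (h : q ^ (b + 1) ∣ N) : ¬ N ∣ q ^ b * c := by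
  intro h1
  have h2 := h.trans h1
  rw [pow_succ] at h2
  have h3 := Nat.dvd_of_mul_dvd_mul_left (Nat.pow_pos (by omega)) h2
  have h4 := Nat.Coprime.eq_one_of_dvd hc h3
  omega

end Cfsg.Agent.H877.PQROrth
end

-- part: H877/PQROrth
section
/-!
# S3988: the rows of the orthogonal groups (helper877, task 2730)
-/

set_option autoImplicit false
set_option linter.unusedSectionVars false
set_option linter.style.haveILetI false

namespace Cfsg.Agent.H877.PQROrth

open QuadraticMap Cfsg
open Cfsg.Agent.LieClassical.OrthCore Cfsg.Agent.LieClassical.OrthForms Cfsg.Agent.H182.Sign Cfsg.Agent.H522.FpfEmb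
open Cfsg.Agent.H562.PQR

section

variable {ι : Type} [Fintype ι] [DecidableEq ι] {F : Type} [Field F] [Finite F] {Q : QuadraticForm F (ι → F)}
  {n m : ℕ} {ε ε₀ : ℤ} {p : ℕ}

theorem coprime_pow_sub {q i : ℕ} (hq : 1 < q) (hi : 1 ≤ i) : Nat.Coprime q (q ^ i - 1) := by
  have h1 : 1 ≤ q ^ i := Nat.one_le_pow _ _ (by omega)
  have h2 : Nat.Coprime (q ^ i) (q ^ i - 1) := by
    rw [Nat.coprime_comm]
    have := Nat.coprime_self_add_right (m := q ^ i - 1) (n := 1)
    rw [Nat.sub_add_cancel h1] at this
    exact this.2 (Nat.coprime_one_right _)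
  exact Nat.Coprime.coprime_dvd_left (dvd_pow_self q (by omega)) h2

theorem coprime_pow_add {q i : ℕ} (hi : 1 ≤ i) : Nat.Coprime q (q ^ i + 1) := by
  have h2 : Nat.Coprime (q ^ i) (q ^ i + 1) := by
    rw [Nat.coprime_self_add_right]
    exact Nat.coprime_one_right _
  exact Nat.Coprime.coprime_dvd_left (dvd_pow_self q (by omega)) h2

/-- **`SL_2(q^n)`, `n` even.** -/
theorem psl (hn : Even n) (hn2 : 2 ≤ n) (hC : Sub Q n (-1)) (hQ : Nat.card F ^ (n + 1) ∣ Nat.card (Cfsg.POmega F ⇑Q))
    (hp : p.Prime) (hp2 : p ≠ 2) (hd : p ∣ Nat.card F ^ n * (Nat.card F ^ (2 * n) - 1)) :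
    NotMin p (Cfsg.POmega F ⇑Q) := by
  have hF := Finite.one_lt_card (α := F)
  obtain ⟨r, hr⟩ := CharP.exists F
  haveI : Fact (Nat.Prime r) := ⟨CharP.char_is_prime F r⟩
  obtain ⟨k, hk⟩ := hn
  haveI : NeZero k := ⟨by omega⟩
  let E := FiniteField.Extension F r k
  haveI : CharP E r := charP_of_injective_algebraMap (algebraMap F E).injective r
  let K := FiniteField.Extension E r 2
  letI := Fintype.ofFinite K
  letI : Algebra F K := ((algebraMap E K).comp (algebraMap F E)).toAlgebra
  haveI : IsScalarTower F E K := IsScalarTower.of_algebraMap_eq fun x => rfl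
  have h2 : Module.finrank E K = 2 := FiniteField.finrank_extension E r 2
  have hcard : Fintype.card K = Nat.card F ^ n := by
    rw [← Nat.card_eq_fintype_card]
    have h3 : Nat.card K = Nat.card E ^ 2 := FiniteField.natCard_extension E r 2
    have h4 : Nat.card E = Nat.card F ^ k := FiniteField.natCard_extension F r k
    rw [h3, h4, ← pow_mul, hk]
    congr 1
    ring
  have hP := (sg_detForm (E := E) (K := K) h2).res (F := F)
  rw [FiniteField.finrank_extension, show k * 2 = n from by omega] at hP
  have hq : 3 < Fintype.card K := by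
    rw [hcard]
    calc 3 < 2 ^ 2 := by norm_num
      _ ≤ Nat.card F ^ 2 := Nat.pow_le_pow_left (by omega) 2
      _ ≤ Nat.card F ^ n := Nat.pow_le_pow_right (by omega) hn2
  let ρ : Matrix.SpecialLinearGroup (Fin 2) K →* Module.End F (Herm E K) :=
    { toFun := fun g => (slRep h2 g).restrictScalars F
      map_one' := by rw [map_one]; rfl
      map_mul' := fun g h => by rw [map_mul]; rfl }
  have hpow : Nat.card F ^ (2 * n) = (Nat.card F ^ n) ^ 2 := by rw [← pow_mul, mul_comm]
  refine hC.notMin hP ρ ?_ ?_ (Cfsg.Agent.TwoFusion.SLTwoFacts.commutator_eq_top hq) hp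
    (Cfsg.Agent.TwoFusion.SLTwoFacts.isSimpleGroup_psl hq) ?_ ?_
  · intro g v
    rw [traceForm_apply, traceForm_apply]
    (with_reducible congr 1)
    exact slRep_iso h2 g v
  · intro g hg
    apply slRep_ker h2 g
    apply LinearMap.ext
    intro X
    exact LinearMap.congr_fun hg X
  · have h5 := Cfsg.Agent.ClassicalGeometry.PSL2Basic.card_PSL2_gcd K
    rw [hcard, ← hpow] at h5
    rw [← h5] at hd
    rcases hp.dvd_mul.1 hd with h | h
    · exact h
    · exfalso
      exact hp2 ((Nat.prime_dvd_prime_iff_eq hp Nat.prime_two).1 (h.trans (Nat.gcd_dvd_left _ _)))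
  · rw [Cfsg.Agent.ClassicalGeometry.PSL2Basic.card_SL2, hcard, ← hpow]
    exact not_dvd hF (coprime_pow_sub hF (by omega)) hQ

/-- **`SU_n(q)`, `n` odd.** -/
theorem psu (hn : Odd n) (hn3 : 3 ≤ n) (h32 : ¬ (n = 3 ∧ Nat.card F = 2)) (hC : Sub Q n (-1))
    (hQ : Nat.card F ^ (n * (n - 1) / 2 + 1) ∣ Nat.card (Cfsg.POmega F ⇑Q))
    (hp : p.Prime) (hd : p ∣ Nat.card F ^ n + 1) (hd' : ¬ p ∣ Nat.card F + 1) :
    NotMin p (Cfsg.POmega F ⇑Q) := by
  have hF := Finite.one_lt_card (α := F)
  obtain ⟨r, hr⟩ := CharP.exists F
  haveI : Fact (Nat.Prime r) := ⟨CharP.char_is_prime F r⟩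
  let K := FiniteField.Extension F r 2
  letI := Fintype.ofFinite K
  have h2 : Module.finrank F K = 2 := FiniteField.finrank_extension F r 2
  have hcard : Fintype.card K = Nat.card F ^ 2 := by
    rw [← Nat.card_eq_fintype_card]
    exact FiniteField.natCard_extension F r 2
  have hP := sg_pi (sg_normForm h2) n
  rw [hn.neg_one_pow, mul_one] at hP
  refine hC.notMin hP (suRep F K n) (suRep_iso h2 n) (fun g hg => by
    rw [suRep_ker n g hg]
    exact one_mem _) (Cfsg.Agent.LieClassical.HermPerfect.commutator_SU_eq_top hcard hn3 h32) hp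
    (Cfsg.Agent.S0283.result hcard n hn3 h32) ?_ ?_
  · have h5 := Cfsg.Agent.S0280.result hcard n (by omega)
    have h6 : p ∣ Nat.gcd n (Nat.card F + 1) * ((Nat.card F + 1) * Nat.card (Cfsg.PSU n K (Nat.card F))) := by
      rw [h5]
      refine Dvd.dvd.mul_left ?_ _
      refine Dvd.dvd.trans ?_ (Finset.dvd_prod_of_mem _ (Finset.mem_range.2 (show n - 1 < n by omega)))
      rw [if_pos (by obtain ⟨k, hk⟩ := hn; exact ⟨k, by omega⟩), Nat.sub_add_cancel (by omega)]
      exact hd
    rcases hp.dvd_mul.1 h6 with h | h
    · exact absurd (h.trans (Nat.gcd_dvd_right _ _)) hd'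
    · rcases hp.dvd_mul.1 h with h | h
      · exact absurd h hd'
      · exact h
  · have h5 := Cfsg.Agent.S0278.result hcard n (by omega)
    intro h6
    have h7 : Nat.card (Cfsg.POmega F ⇑Q) ∣ Nat.card F ^ (n * (n - 1) / 2) *
        ∏ i ∈ Finset.range n, (if Even i then Nat.card F ^ (i + 1) + 1 else Nat.card F ^ (i + 1) - 1) := by
      rw [← h5]
      exact h6.mul_left _
    refine not_dvd hF ?_ hQ h7
    apply Nat.Coprime.prod_right
    intro i _
    split_ifs
    · exact coprime_pow_add (by omega)
    · exact coprime_pow_sub hF (by omega)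

/-- **`SL_n(q)`.** -/
theorem psln (hn3 : 3 ≤ n) (hC : Sub Q n 1)
    (hQ : Nat.card F ^ (n * (n - 1) / 2 + 1) ∣ Nat.card (Cfsg.POmega F ⇑Q))
    (hp : p.Prime) (hd : p ∣ Nat.card F ^ n - 1) (hd' : ¬ p ∣ Nat.card F - 1) :
    NotMin p (Cfsg.POmega F ⇑Q) := by
  have hF := Finite.one_lt_card (α := F)
  letI := Fintype.ofFinite F
  refine hC.notMin (sg_pairForm n) (slnRep F n) (slnRep_iso n) (fun g hg => by
    rw [slnRep_ker n g hg]
    exact one_mem _) (Cfsg.Agent.S0248.result n hn3) hp (Cfsg.Agent.S0249.result n hn3) ?_ ?_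
  · have h5 := Cfsg.Agent.S0243.result (F := F) (q := Nat.card F) (by rw [Nat.card_eq_fintype_card]) n (by omega)
    have h6 : p ∣ Nat.gcd n (Nat.card F - 1) *
        ((Nat.card F - 1) * Nat.card (Matrix.ProjectiveSpecialLinearGroup (Fin n) F)) := by
      rw [h5]
      refine Dvd.dvd.trans ?_ (Finset.dvd_prod_of_mem _ (Finset.mem_univ (⟨0, by omega⟩ : Fin n)))
      rw [pow_zero]
      exact hd
    rcases hp.dvd_mul.1 h6 with h | h
    · exact absurd (h.trans (Nat.gcd_dvd_right _ _)) hd'
    · rcases hp.dvd_mul.1 h with h | h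
      · exact absurd h hd'
      · exact h
  · rw [Cfsg.Agent.H953.card_SL n (by omega), ← Nat.card_eq_fintype_card, Finset.sum_range_id]
    refine not_dvd hF ?_ hQ
    apply Nat.Coprime.prod_right
    intro i hi
    rw [Finset.mem_Icc] at hi
    exact coprime_pow_sub hF (by omega)

/-- the arithmetic -/
theorem core (hm : 3 ≤ m) (hsub : ∀ n ε, 1 ≤ n → n < m → (ε = 1 ∨ ε = -1) → Sub Q n ε)
    (hQ : Nat.card F ^ (m * (m - 1)) ∣ Nat.card (Cfsg.POmega F ⇑Q)) (hp : p.Prime) (hp2 : p ≠ 2)
    (hd : p ∣ Nat.card F ∨ (∃ i, 1 ≤ i ∧ i < m ∧ p ∣ Nat.card F ^ (2 * i) - 1) ∨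
      (Sub Q m 1 ∧ p ∣ Nat.card F ^ m - 1) ∨ (Sub Q m (-1) ∧ p ∣ Nat.card F ^ m + 1)) :
    NotMin p (Cfsg.POmega F ⇑Q) := by
  have hF := Finite.one_lt_card (α := F)
  have h3m : m * 2 ≤ m * (m - 1) := Nat.mul_le_mul_left m (by omega)
  have hle : ∀ k, k ≤ m * (m - 1) → Nat.card F ^ k ∣ Nat.card (Cfsg.POmega F ⇑Q) :=
    fun k hk => (pow_dvd_pow _ hk).trans hQ
  -- the group `SL_2(q^2)`
  have hfour : p ∣ Nat.card F ^ 2 * (Nat.card F ^ (2 * 2) - 1) → NotMin p (Cfsg.POmega F ⇑Q) := fun h =>
    psl (n := 2) even_two le_rfl (hsub 2 (-1) (by norm_num) (by omega) (Or.inr rfl)) (hle _ (by omega)) hp hp2 h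
  by_cases hpF : p ∣ Nat.card F
  · exact hfour ((dvd_pow hpF two_ne_zero).mul_right _)
  have hd := hd.resolve_left hpF
  have hsq : ∀ j, Nat.card F ^ (2 * j) - 1 = (Nat.card F ^ j + 1) * (Nat.card F ^ j - 1) := fun j => by
    have := Nat.sq_sub_sq (Nat.card F ^ j) 1
    rw [one_pow] at this
    rw [← this, mul_comm 2 j, pow_mul]
  obtain ⟨f, hf⟩ : ∃ f, orderOf ((Nat.card F : ℕ) : ZMod p) = f := ⟨_, rfl⟩
  have hkey : ∀ j, p ∣ Nat.card F ^ j - 1 ↔ f ∣ j := fun j => by
    rw [Cfsg.Agent.Lib.Zsigmondy.dvd_pow_sub_one_iff (by omega), hf]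
  have hf0 : f ≠ 0 := by
    rintro rfl
    have h0 : ∀ j, 1 ≤ j → ¬ p ∣ Nat.card F ^ j - 1 := fun j hj h => by
      have := (hkey j).1 h
      rw [zero_dvd_iff] at this
      omega
    rcases hd with ⟨i, hi1, -, hi⟩ | ⟨-, h⟩ | ⟨-, h⟩
    · exact h0 _ (by omega) hi
    · exact h0 _ (by omega) h
    · exact h0 (2 * m) (by omega) (by rw [hsq]; exact h.mul_right _)
  obtain ⟨n, -, hn1, -, -, hfn, hdv⟩ := Cfsg.Agent.H877.RegOm.exists_n hp hp2 hf hf0
  have hnm : n ≤ m := by
    rcases hd with ⟨i, hi1, him, hi⟩ | ⟨-, h⟩ | ⟨-, h⟩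
    · exact (Nat.le_of_dvd hi1 (hdv i hi)).trans him.le
    · exact Nat.le_of_dvd (by omega) (hdv m (by rw [hsq]; exact h.mul_left _))
    · exact Nat.le_of_dvd (by omega) (hdv m (by rw [hsq]; exact h.mul_right _))
  have hp3 : 2 < p := lt_of_le_of_ne hp.two_le (Ne.symm hp2)
  have hS : (f = n ∧ Odd n ∧ Sub Q n 1) ∨ (f = 2 * n ∧ Sub Q n (-1)) := by
    rcases Nat.lt_or_ge n m with hlt | hge
    · rcases hfn with ⟨h1, h2⟩ | h1
      · exact Or.inl ⟨h1, h2, hsub n 1 hn1 hlt (Or.inl rfl)⟩
      · exact Or.inr ⟨h1, hsub n (-1) hn1 hlt (Or.inr rfl)⟩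
    · obtain rfl : n = m := le_antisymm hnm hge
      rcases hd with ⟨i, hi1, him, hi⟩ | ⟨hs, h⟩ | ⟨hs, h⟩
      · have := Nat.le_of_dvd hi1 (hdv i hi)
        omega
      · rcases hfn with ⟨h1, h2⟩ | h1
        · exact Or.inl ⟨h1, h2, hs⟩
        · have := Nat.le_of_dvd (by omega) ((hkey n).1 h)
          omega
      · rcases hfn with ⟨h1, h2⟩ | h1
        · exfalso
          have h3 : p ∣ Nat.card F ^ n - 1 := (hkey n).2 (h1 ▸ dvd_rfl)
          have h4 : p ∣ (Nat.card F ^ n + 1) - (Nat.card F ^ n - 1) := Nat.dvd_sub h h3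
          have h5 : 1 ≤ Nat.card F ^ n := Nat.one_le_pow _ _ (by omega)
          rw [show (Nat.card F ^ n + 1) - (Nat.card F ^ n - 1) = 2 by omega] at h4
          have := Nat.le_of_dvd (by norm_num) h4
          omega
        · exact Or.inr ⟨h1, hs⟩
  have hpn : p ∣ Nat.card F ^ (2 * n) - 1 := (hkey _).2 (by
    rcases hfn with ⟨h1, -⟩ | h1
    · rw [h1]; exact dvd_mul_left _ _
    · rw [h1])
  have hbn : n * (n - 1) / 2 + 1 ≤ m * (m - 1) := by
    have h1 : n * (n - 1) ≤ m * (m - 1) := Nat.mul_le_mul hnm (by omega)
    omega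
  rcases Nat.lt_or_ge n 2 with h1 | h2
  · -- `n = 1`
    obtain rfl : n = 1 := by omega
    apply hfour
    refine Dvd.dvd.mul_left ?_ _
    rw [hkey] at hpn ⊢
    exact hpn.trans (by norm_num)
  rcases Nat.even_or_odd n with hev | hodd
  · rcases hS with ⟨-, h1, -⟩ | ⟨-, h1⟩
    · exact absurd hev (Nat.not_even_iff_odd.2 h1)
    · exact psl hev h2 h1 (hle _ (by omega)) hp hp2 (hpn.mul_left _)
  have hn3 : 3 ≤ n := by
    obtain ⟨k, hk⟩ := hodd
    omega
  rcases hS with ⟨h1, -, h3⟩ | ⟨h1, h3⟩
  · refine psln hn3 h3 (hle _ hbn) hp ((hkey n).2 (h1 ▸ dvd_rfl)) fun h => ?_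
    have h4 : p ∣ Nat.card F ^ 1 - 1 := by rwa [pow_one]
    have := Nat.le_of_dvd (by norm_num) ((hkey 1).1 h4)
    omega
  · have h5 : ¬ p ∣ Nat.card F + 1 := fun h => by
      have h4 : p ∣ Nat.card F ^ (2 * 1) - 1 := by
        rw [hsq, pow_one]
        exact h.mul_right _
      have := Nat.le_of_dvd (by norm_num) ((hkey _).1 h4)
      omega
    have h6 : p ∣ Nat.card F ^ n + 1 := by
      rw [hsq] at hpn
      rcases hp.dvd_mul.1 hpn with h | h
      · exact h
      · have := Nat.le_of_dvd (by omega) ((hkey n).1 h)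
        omega
    refine psu hodd hn3 ?_ h3 (hle _ hbn) hp h6 h5
    rintro ⟨rfl, h7⟩
    rw [h7] at h6 h5
    have h8 : p ∣ 3 ^ 2 := by simpa using h6
    exact h5 (by simpa using hp.dvd_of_dvd_pow h8)

end

/-! ### The families -/

theorem coprime_gcd_four {q A : ℕ} (h : Nat.Coprime q A) : Nat.Coprime q (Nat.gcd 4 A) :=
  Nat.Coprime.coprime_dvd_right (Nat.gcd_dvd_right _ _) h

theorem row_plus {F : Type} [Field F] [Fintype F] {m : ℕ} (hm : 4 ≤ m) {p : ℕ} (hp : p.Prime) (hp2 : p ≠ 2)
    (hd : p ∣ Nat.card (Cfsg.POmega F (Cfsg.quadFormPlus m F))) :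
    NotMin p (Cfsg.POmega F (Cfsg.quadFormPlus m F)) := by
  have hF := Finite.one_lt_card (α := F)
  have hord := Cfsg.Agent.S0293.result (F := F) (q := Nat.card F) (by rw [Nat.card_eq_fintype_card]) m hm
  rw [← coe_plusForm] at hd hord ⊢
  have hs : Sub (plusForm m F) m 1 := Sub.of_sg (sg_plusForm (F := F) m)
  refine core (m := m) (by omega) (fun n ε h1 h2 h3 => hs.trans h1 h2 h3) ?_ hp hp2 ?_
  · have h1 : Nat.card F ^ (m * (m - 1)) ∣
        Nat.gcd 4 (Nat.card F ^ m - 1) * Nat.card (Cfsg.POmega F ⇑(plusForm m F)) := by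
      rw [hord, mul_assoc]
      exact dvd_mul_right _ _
    exact (Nat.Coprime.pow_left _ (coprime_gcd_four (coprime_pow_sub hF (by omega)))).dvd_of_dvd_mul_left h1
  · have h1 := hd.mul_left (Nat.gcd 4 (Nat.card F ^ m - 1))
    rw [hord] at h1
    rcases hp.dvd_mul.1 h1 with h | h
    · rcases hp.dvd_mul.1 h with h | h
      · exact Or.inl (hp.dvd_of_dvd_pow h)
      · exact Or.inr (Or.inr (Or.inl ⟨hs, h⟩))
    · obtain ⟨i, hi, hd⟩ := (Prime.dvd_finsetProd_iff hp.prime _).1 h
      rw [Finset.mem_range] at hi
      exact Or.inr (Or.inl ⟨i + 1, by omega, by omega, hd⟩)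

theorem row_minus {F : Type} [Field F] [Fintype F] {m : ℕ} (hm : 4 ≤ m) {a b : F}
    (hab : ∀ z₁ z₂ : F, z₁ ^ 2 + a * z₁ * z₂ + b * z₂ ^ 2 = 0 → z₁ = 0 ∧ z₂ = 0) {p : ℕ} (hp : p.Prime) (hp2 : p ≠ 2)
    (hd : p ∣ Nat.card (Cfsg.POmega F (Cfsg.quadFormMinus (m - 1) F a b))) :
    NotMin p (Cfsg.POmega F (Cfsg.quadFormMinus (m - 1) F a b)) := by
  have hF := Finite.one_lt_card (α := F)
  have hord := Cfsg.Agent.S0294.result (F := F) (q := Nat.card F) (by rw [Nat.card_eq_fintype_card]) m hm a b hab
  rw [← coe_minusForm] at hd hord ⊢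
  have hs' := sg_minusForm (F := F) (m - 1) hab
  rw [Nat.sub_add_cancel (by omega)] at hs'
  have hs : Sub (minusForm (m - 1) F a b) m (-1) := Sub.of_sg hs'
  refine core (m := m) (by omega) (fun n ε h1 h2 h3 => hs.trans h1 h2 h3) ?_ hp hp2 ?_
  · have h1 : Nat.card F ^ (m * (m - 1)) ∣
        Nat.gcd 4 (Nat.card F ^ m + 1) * Nat.card (Cfsg.POmega F ⇑(minusForm (m - 1) F a b)) := by
      rw [hord, mul_assoc]
      exact dvd_mul_right _ _
    exact (Nat.Coprime.pow_left _ (coprime_gcd_four (coprime_pow_add (by omega)))).dvd_of_dvd_mul_left h1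
  · have h1 := hd.mul_left (Nat.gcd 4 (Nat.card F ^ m + 1))
    rw [hord] at h1
    rcases hp.dvd_mul.1 h1 with h | h
    · rcases hp.dvd_mul.1 h with h | h
      · exact Or.inl (hp.dvd_of_dvd_pow h)
      · exact Or.inr (Or.inr (Or.inr ⟨hs, h⟩))
    · obtain ⟨i, hi, hd⟩ := (Prime.dvd_finsetProd_iff hp.prime _).1 h
      rw [Finset.mem_range] at hi
      exact Or.inr (Or.inl ⟨i + 1, by omega, by omega, hd⟩)

/-- the odd dimensional form -/
theorem sub_odd {F : Type} [Field F] [Finite F] (m : ℕ) : Sub (oddForm m F) m 1 := by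
  let R : QuadraticForm F F := QuadraticMap.linMulLin LinearMap.id LinearMap.id
  let f : ((Fin m ⊕ Fin m → F) × F) ≃ₗ[F] (Unit ⊕ (Fin m ⊕ Fin m) → F) :=
    { toFun := fun v => Sum.elim (fun _ => v.2) v.1
      map_add' := by
        intro v w
        funext i
        rcases i with i | i <;> rfl
      map_smul' := by
        intro a v
        funext i
        rcases i with i | i <;> rfl
      invFun := fun u => (fun i => u (Sum.inr i), u (Sum.inl ()))
      left_inv := fun v => rfl
      right_inv := fun u => by
        funext i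
        rcases i with i | i <;> rfl }
  refine ⟨_, F, inferInstance, inferInstance, inferInstance, inferInstance, inferInstance, inferInstance, plusForm m F,
    R, f, sg_plusForm (F := F) m, ?_⟩
  rintro ⟨u, w⟩
  rw [prodForm_apply, coe_oddForm, coe_plusForm]
  change (w : F) ^ 2 + _ = _ + w * w
  change (w : F) ^ 2 + Cfsg.quadFormPlus m F u = Cfsg.quadFormPlus m F u + w * w
  ring

theorem row_odd {F : Type} [Field F] [Fintype F] {m : ℕ} (hm : 3 ≤ m) (hodd : Odd (Fintype.card F)) {p : ℕ}
    (hp : p.Prime) (hp2 : p ≠ 2) (hd : p ∣ Nat.card (Cfsg.POmega F (Cfsg.quadFormOdd m F))) :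
    NotMin p (Cfsg.POmega F (Cfsg.quadFormOdd m F)) := by
  have hF := Finite.one_lt_card (α := F)
  have hord := Cfsg.Agent.S0292.result (F := F) (q := Nat.card F) (by rw [Nat.card_eq_fintype_card])
    (by rwa [Nat.card_eq_fintype_card]) m hm
  have h2F : (2 : F) ≠ 0 := (Cfsg.Agent.ClassicalGeometry.PSL2Basic.two_ne_zero_iff_odd F).2 hodd
  rw [← coe_oddForm] at hd hord ⊢
  have hs : Sub (oddForm m F) m 1 := sub_odd m
  have hs' : Sub (oddForm m F) m (-1) := by
    obtain ⟨k, rfl⟩ : ∃ k, m = k + 1 := ⟨m - 1, by omega⟩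
    exact cont_odd h2F k
  refine core (m := m) (by omega) (fun n ε h1 h2 h3 => hs.trans h1 h2 h3) ?_ hp hp2 ?_
  · have h1 : Nat.card F ^ (m * (m - 1)) ∣ 2 * Nat.card (Cfsg.POmega F ⇑(oddForm m F)) := by
      rw [hord]
      refine Dvd.dvd.mul_right (pow_dvd_pow _ ?_) _
      rw [pow_two]
      exact Nat.mul_le_mul_left m (by omega)
    have h2 : Nat.Coprime (Nat.card F) 2 := by
      rw [Nat.coprime_comm, Nat.coprime_two_left, Nat.card_eq_fintype_card]
      exact hodd
    exact (Nat.Coprime.pow_left _ h2).dvd_of_dvd_mul_left h1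
  · have h1 := hd.mul_left 2
    rw [hord] at h1
    rcases hp.dvd_mul.1 h1 with h | h
    · exact Or.inl (hp.dvd_of_dvd_pow h)
    · obtain ⟨i, hi, hdi⟩ := (Prime.dvd_finsetProd_iff hp.prime _).1 h
      rw [Finset.mem_range] at hi
      rcases Nat.lt_or_ge (i + 1) m with hlt | hge
      · exact Or.inr (Or.inl ⟨i + 1, by omega, hlt, hdi⟩)
      · obtain rfl : i + 1 = m := by omega
        have h3 := Nat.sq_sub_sq (Nat.card F ^ (i + 1)) 1
        rw [one_pow, ← pow_mul, mul_comm (i + 1) 2] at h3
        rw [h3] at hdi
        rcases hp.dvd_mul.1 hdi with h | h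
        · exact Or.inr (Or.inr (Or.inr ⟨hs', h⟩))
        · exact Or.inr (Or.inr (Or.inl ⟨hs, h⟩))

universe u

/-- **`PΩ_{2m+1}(q)`.** -/
theorem row_omega_odd {S : Type u} [Group S] (h : Cfsg.IsPOmegaOdd S) : RowOdd S := by
  obtain ⟨F, _, _, m, hm, hodd, ⟨e⟩⟩ := h
  exact RowOdd.congr e.symm fun p hp hp2 hd => Or.inl (row_odd hm hodd hp hp2 hd)

/-- **`PΩ^-_{2m}(q)`.** -/
theorem row_omega_minus {S : Type u} [Group S] (h : Cfsg.IsPOmegaMinus S) : RowOdd S := by
  obtain ⟨F, _, _, m, a, b, hm, hab, ⟨e⟩⟩ := h
  exact RowOdd.congr e.symm fun p hp hp2 hd => Or.inl (row_minus hm hab hp hp2 hd)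

/-- **`PΩ^+_{2m}(q)`.** -/
theorem row_omega_plus {S : Type u} [Group S] (h : Cfsg.IsPOmegaPlus S) : RowOdd S := by
  obtain ⟨F, _, _, m, hm, ⟨e⟩⟩ := h
  exact RowOdd.congr e.symm fun p hp hp2 hd => Or.inl (row_plus hm hp hp2 hd)

end Cfsg.Agent.H877.PQROrth
end

-- part: H274/Pqr/Par
section
/-!
# Proper parabolic subgroups which are not `l`-solvable (for S3988, helper274)

`R : RGD cs h p T n X` a root group datum, `P_J` the parabolic subgroups.

* `not_psolvable_PJ` : if `J` is connected with at least two nodes and `l` is a prime dividing `|P_J|`, not dividing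
  `|B|`, or `l = p`, then `P_J` is not `l`-solvable;
* `notMin_of_rgd` : `|I| ≥ 3`: if `V ≠ 1` is a `p`-subgroup, the prime `l` divides `|N(V)|`, and `l = p` or
  `l ∤ |T|`, then `NotMin l Y`.
-/

set_option autoImplicit false
set_option linter.unusedSectionVars false

namespace Cfsg.Agent.H274.Pqr

open CoxeterSystem Cfsg.Agent.ChevalleyStructure.CoxeterGeom Cfsg.Agent.Tits.Roots Cfsg.Agent.Tits.Core
  Cfsg.Agent.Tits.RootComb Cfsg.Agent.Tits.Exchange Cfsg.Agent.Nodes.Reps Cfsg.Agent.Nodes.BNOf
  Cfsg.Agent.Nodes.StabComb Cfsg.Agent.Nodes.Bruhat Cfsg.Agent.Nodes.OppDec Cfsg.Agent.Nodes.LeviDec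
open Cfsg.Agent.H562.PQR (NotMin)

/-! ### `l`-solvable groups -/

/-- a nontrivial finite `l`-solvable group has a nontrivial normal subgroup which is abelian or of order prime to
`l` -/
theorem exists_normal {Q : Type*} [Group Q] [Finite Q] [Nontrivial Q] {l : ℕ} (hl : l.Prime)
    (h : Cfsg.IsPSolvable l Q) : ∃ N : Subgroup Q, N.Normal ∧ N ≠ ⊥ ∧
      ((∀ x ∈ N, ∀ y ∈ N, x * y = y * x) ∨ ¬ l ∣ Nat.card N) := by
  obtain ⟨n, H, h0, hlast, -, hnorm, hfac⟩ := h
  by_contra hcon
  push Not at hcon
  have key : ∀ i : Fin (n + 1), H i = ⊥ := by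
    intro i
    induction i using Fin.induction with
    | zero => exact h0
    | succ i ih =>
      by_contra hne
      have hf := hfac i
      rw [ih, Subgroup.relIndex_bot_left] at hf
      rcases hf with ⟨m, hm⟩ | hf
      · -- the centre
        have : Fact l.Prime := ⟨hl⟩
        have hG : IsPGroup l (H i.succ) := IsPGroup.of_card hm
        have hnt : Nontrivial (H i.succ) := (Subgroup.nontrivial_iff_ne_bot _).2 hne
        have hc : Nontrivial (Subgroup.center (H i.succ)) := hG.center_nontrivial
        have hnor := hnorm i.succ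
        have hZ : ((Subgroup.center (H i.succ)).map (H i.succ).subtype).Normal := inferInstance
        have h1 := hcon _ hZ (fun h2 => (Subgroup.nontrivial_iff_ne_bot _).1 hc
          ((Subgroup.map_eq_bot_iff_of_injective _ (H i.succ).subtype_injective).1 h2))
        obtain ⟨⟨x, hx, y, hy, hxy⟩, -⟩ := h1
        obtain ⟨x', hx', rfl⟩ := hx
        obtain ⟨y', hy', rfl⟩ := hy
        apply hxy
        rw [← map_mul, ← map_mul, Subgroup.mem_center_iff.1 hy' x']
      · have h1 := (hcon _ (hnorm i.succ) hne).2
        exact hl.one_lt.ne' ((Nat.Coprime.symm hf).eq_one_of_dvd h1)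
  have h1 := key (Fin.last n)
  rw [hlast] at h1
  exact absurd h1 top_ne_bot

/-! ### The Weyl group -/

variable {I W Y : Type*} [Fintype I] [DecidableEq I] [Group W] [Group Y] {M : CoxeterMatrix I}
  {cs : CoxeterSystem M W} {A : I → I → ℤ} {h : IsCartan M A} {p : ℕ} {T : Subgroup Y} {n : I → Y}
  {X : (I → ℤ) → Subgroup Y}

theorem mem_of_simple_mem (h : IsCartan M A) {J : Set I} {i : I} (hi : cs.simple i ∈ WJ cs J) : i ∈ J := by
  by_contra hJ
  have h1 := rep_apply_of_mem cs h hi (sr i) hJ
  rw [rep_simple_sr, Pi.neg_apply, sr_self] at h1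
  exact absurd h1 (by decide)

theorem sr_refl_apply (h : IsCartan M A) {a b : I} (hab : a ≠ b) :
    rep cs h (cs.simple b) (sr a) b = -A b a ∧ rep cs h (cs.simple b) (sr a) a = 1 := by
  constructor
  · rw [rep_simple_apply_self, sr_ne hab.symm, sr, pairing_single, mul_one, zero_sub]
  · rw [rep_simple_apply cs h b _ a hab, sr_self]

theorem length_two (h : IsCartan M A) {a b : I} (hab : a ≠ b) :
    cs.length (cs.simple b * cs.simple a) = cs.length (cs.simple b) + cs.length (cs.simple a) := by
  have h1 : cs.length (cs.simple b) < cs.length (cs.simple b * cs.simple a) := by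
    rw [lt_iff' cs h]
    have h2 := (sr_refl_apply (cs := cs) h hab).2
    refine nonneg_of_pos_apply (cs := cs) (h := h) ((isRoot_sr cs h a).act _) (k := a) ?_
    show 0 < rep cs h (cs.simple b) (sr a) a
    rw [h2]
    exact one_pos
  rcases cs.length_mul_simple (cs.simple b) a with h2 | h2
  · rw [h2, cs.length_simple, cs.length_simple]
  · omega

theorem length_three (h : IsCartan M A) {a b : I} (hab : a ≠ b) (h2 : M a b ≠ 2) :
    cs.length (cs.simple b * cs.simple a * cs.simple b) =
      cs.length (cs.simple b * cs.simple a) + cs.length (cs.simple b) := by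
  have h1 : cs.length (cs.simple b * cs.simple a) < cs.length (cs.simple b * cs.simple a * cs.simple b) := by
    rw [lt_iff' cs h]
    refine nonneg_of_pos_apply (cs := cs) (h := h) ((isRoot_sr cs h b).act _) (k := a) ?_
    show 0 < rep cs h (cs.simple b * cs.simple a) (sr b) a
    rw [rep_mul_apply, rep_simple_apply cs h b _ a hab, (sr_refl_apply (cs := cs) h hab.symm).1]
    have := cartan_neg h hab h2
    omega
  rcases cs.length_mul_simple (cs.simple b * cs.simple a) b with h2 | h2
  · rw [h2, cs.length_simple]
  · omega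

/-- `s_b s_a s_b` is not in a parabolic subgroup without `b` -/
theorem not_mem_WJ (h : IsCartan M A) {J : Set I} {a b : I} (hab : a ≠ b) (h2 : M a b ≠ 2) (hb : b ∉ J) :
    cs.simple b * cs.simple a * cs.simple b ∉ WJ cs J := by
  intro hw
  have h1 := rep_apply_of_mem cs h hw (rep cs h (cs.simple b) (sr a)) hb
  have h3 : rep cs h (cs.simple b * cs.simple a * cs.simple b) (rep cs h (cs.simple b) (sr a)) =
      -rep cs h (cs.simple b) (sr a) := by
    rw [← rep_mul_apply, mul_assoc (cs.simple b * cs.simple a), simple_mul_simple_self, mul_one, rep_mul_apply,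
      rep_simple_sr, map_neg]
  rw [h3, Pi.neg_apply, (sr_refl_apply (cs := cs) h hab).1] at h1
  have := cartan_neg h hab.symm (by rwa [M.symmetric])
  omega

/-! ### Normal subgroups of parabolic subgroups -/

/-- connected sets of nodes -/
def ConnJ (M : CoxeterMatrix I) (J : Set I) : Prop :=
  ∀ J₁ ⊆ J, J₁.Nonempty → J₁ ≠ J → ∃ a ∈ J₁, ∃ b ∈ J, b ∉ J₁ ∧ M a b ≠ 2

section Norm

variable (R : RGD cs h p T n X)
include R

theorem PJ_mono [Finite W] {J K : Set I} (hJK : J ⊆ K) : PJ cs h T X J ≤ PJ cs h T X K := by
  intro g hg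
  obtain ⟨w, hw, hc⟩ := (mem_PJ_iff_cell R).1 hg
  exact (mem_PJ_iff_cell R).2 ⟨w, WJ_mono cs hJK hw, hc⟩

theorem PJ_empty [Finite W] : PJ cs h T X ∅ = RGD.B cs h T X := by
  refine le_antisymm (fun g hg => ?_) B_le_PJ
  obtain ⟨w, hw, cg⟩ := (mem_PJ_iff_cell R).1 hg
  have h2 : w = 1 := by
    unfold WJ at hw
    rw [Set.image_empty, Subgroup.closure_empty, Subgroup.mem_bot] at hw
    exact hw
  rw [h2] at cg
  exact cg.mem_of_one

theorem n_mem_PJ_iff [Finite W] {J : Set I} {i : I} : n i ∈ PJ cs h T X J ↔ i ∈ J := by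
  constructor
  · intro h1
    exact mem_of_simple_mem h ((cell_mem_PJ_iff R (cell_of_rp (rp_simple cs R.nsys i))).1 h1)
  · exact fun h1 => LJ_le_PJ (n_mem_LJ R h1)

theorem PJ_ne_top [Finite W] {J : Set I} (hJ : J ≠ Set.univ) : PJ cs h T X J ≠ ⊤ := by
  intro h1
  obtain ⟨i, hi⟩ := (Set.ne_univ_iff_exists_notMem J).1 hJ
  exact hi ((n_mem_PJ_iff R).1 (h1 ▸ Subgroup.mem_top (n i)))

/-- **normal subgroups of irreducible parabolic subgroups** -/
theorem sup_eq_PJ [Finite W] {J : Set I} (hJ : ConnJ M J) {N : Subgroup Y} (hNP : N ≤ PJ cs h T X J)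
    (hN : ∀ g ∈ PJ cs h T X J, ∀ x ∈ N, g * x * g⁻¹ ∈ N) (hNB : ¬ N ≤ RGD.B cs h T X) :
    N ⊔ RGD.B cs h T X = PJ cs h T X J := by
  have hle : N ⊔ RGD.B cs h T X ≤ PJ cs h T X J := sup_le hNP B_le_PJ
  obtain ⟨K, hK⟩ : ∃ K : Set I, K = {i | n i ∈ N ⊔ RGD.B cs h T X} := ⟨_, rfl⟩
  have h1 : N ⊔ RGD.B cs h T X = PJ cs h T X K := by
    rw [hK, ← inf_eq_PJ R (P := N ⊔ RGD.B cs h T X) le_sup_right, inf_eq_left.2 (hle.trans PJ_le_GG)]
  have hKJ : K ⊆ J := by
    intro i hi
    rw [hK] at hi
    exact (n_mem_PJ_iff R).1 (hle hi)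
  have hne : K.Nonempty := by
    rw [Set.nonempty_iff_ne_empty]
    intro h2
    rw [h2, PJ_empty R] at h1
    exact hNB (h1 ▸ le_sup_left)
  by_cases hKJ' : K = J
  · rw [h1, hKJ']
  exfalso
  obtain ⟨a, ha, b, hb, hbK, hab⟩ := hJ K hKJ hne hKJ'
  have hab' : a ≠ b := by
    rintro rfl
    exact hbK ha
  have h2 : n a ∈ N ⊔ RGD.B cs h T X := by
    rw [hK] at ha
    exact ha
  -- `n a = x b'`
  have hBN : RGD.B cs h T X ≤ Subgroup.normalizer (N : Set Y) := by
    intro g hg
    rw [Subgroup.mem_normalizer_iff]
    intro x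
    constructor
    · exact hN g (B_le_PJ hg) x
    · intro hx
      have h3 := hN g⁻¹ (B_le_PJ (inv_mem hg)) _ hx
      have e : g⁻¹ * (g * x * g⁻¹) * g⁻¹⁻¹ = x := by group
      rwa [e] at h3
  have h3 : n a ∈ ((N ⊔ RGD.B cs h T X : Subgroup Y) : Set Y) := h2
  rw [sup_comm, Subgroup.coe_mul_of_left_le_normalizer_right _ _ hBN, Set.mem_mul] at h3
  obtain ⟨b', hb', x, hx, e⟩ := h3
  have hxa : Cell R.nsys cs h X (cs.simple a) x := by
    have e' : x = b'⁻¹ * n a := by rw [← e]; group
    rw [e']
    exact (cell_of_rp (rp_simple cs R.nsys a)).mul_left (inv_mem hb')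
  have hbc : Cell R.nsys cs h X (cs.simple b) (n b) := cell_of_rp (rp_simple cs R.nsys b)
  have hbc' : Cell R.nsys cs h X (cs.simple b) (n b)⁻¹ := by
    have := hbc.inv
    rwa [inv_simple] at this
  have h4 : Cell R.nsys cs h X (cs.simple b * cs.simple a * cs.simple b) (n b * x * (n b)⁻¹) :=
    Cell.mul_of_length R (length_three h hab' hab) (Cell.mul_of_length R (length_two h hab') hbc hxa) hbc'
  have h5 : n b * x * (n b)⁻¹ ∈ PJ cs h T X K := by
    rw [← h1]
    exact (le_sup_left : N ≤ _) (hN _ (LJ_le_PJ (n_mem_LJ R hb)) x hx)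
  exact not_mem_WJ h hab' hab hbK ((cell_mem_PJ_iff R h4).1 h5)

/-- elements of `N` over a simple reflection -/
theorem exists_cell [Finite W] {J : Set I} {N : Subgroup Y} (hN : ∀ g ∈ PJ cs h T X J, ∀ x ∈ N, g * x * g⁻¹ ∈ N)
    (he : N ⊔ RGD.B cs h T X = PJ cs h T X J) {g : Y} (hg : g ∈ PJ cs h T X J) :
    ∃ x ∈ N, ∃ b ∈ RGD.B cs h T X, g = x * b := by
  have hBN : RGD.B cs h T X ≤ Subgroup.normalizer (N : Set Y) := by
    intro g hg
    rw [Subgroup.mem_normalizer_iff]
    intro x
    constructor
    · exact hN g (B_le_PJ hg) x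
    · intro hx
      have h3 := hN g⁻¹ (B_le_PJ (inv_mem hg)) _ hx
      have e : g⁻¹ * (g * x * g⁻¹) * g⁻¹⁻¹ = x := by group
      rwa [e] at h3
  have h3 : g ∈ ((N ⊔ RGD.B cs h T X : Subgroup Y) : Set Y) := by rw [he]; exact hg
  rw [Subgroup.coe_mul_of_right_le_normalizer_left _ _ hBN, Set.mem_mul] at h3
  obtain ⟨x, hx, b, hb, e⟩ := h3
  exact ⟨x, hx, b, hb, e.symm⟩

/-- the abelian case -/
theorem not_abelian [Finite W] {J : Set I} {N C : Subgroup Y}
    (hN : ∀ g ∈ PJ cs h T X J, ∀ x ∈ N, g * x * g⁻¹ ∈ N) (he : N ⊔ RGD.B cs h T X = PJ cs h T X J)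
    (hCB : C ≤ RGD.B cs h T X) (hab : ∀ x ∈ N, ∀ y ∈ N, x * y * x⁻¹ * y⁻¹ ∈ C) {i j : I} (hi : i ∈ J) (hj : j ∈ J)
    (hij : i ≠ j) (hM : M i j ≠ 2) : False := by
  have key : ∀ k ∈ J, ∃ x ∈ N, Cell R.nsys cs h X (cs.simple k) x := by
    intro k hk
    obtain ⟨x, hx, b, hb, e⟩ := exists_cell R hN he ((n_mem_PJ_iff R).2 hk)
    refine ⟨x, hx, ?_⟩
    have e' : x = n k * b⁻¹ := by rw [e]; group
    rw [e']
    exact (cell_of_rp (rp_simple cs R.nsys k)).mul_right (inv_mem hb)
  obtain ⟨x, hx, cx⟩ := key i hi
  obtain ⟨y, hy, cy⟩ := key j hj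
  have h1 : Cell R.nsys cs h X (cs.simple i * cs.simple j) (x * y) :=
    Cell.mul_of_length R (length_two h hij.symm) cx cy
  have h2 : Cell R.nsys cs h X (cs.simple j * cs.simple i) (y * x) :=
    Cell.mul_of_length R (length_two h hij) cy cx
  have h3 : Cell R.nsys cs h X (cs.simple j * cs.simple i) (x * y) := by
    have e : x * y = (x * y * x⁻¹ * y⁻¹) * (y * x) := by group
    rw [e]
    exact h2.mul_left (hCB (hab x hx y hy))
  have h4 := Cell.unique R h1 h3
  apply RGD.comm_ne (cs := cs) (h := h) hij hM
  rw [h4]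
  group

theorem X_le_VJ {i j : I} (hij : i ≠ j) (hM : M i j ≠ 2) :
    X (rep cs h (cs.simple i) (sr j)) ≤ VJ cs h X {i} ⊓ VJ cs h X {j} := by
  have hr : IsRoot cs h (rep cs h (cs.simple i) (sr j)) := (isRoot_sr cs h j).act _
  obtain ⟨h1, h2⟩ := sr_refl_apply (cs := cs) h hij.symm
  have h3 := cartan_neg h hij hM
  have h0 : 0 ≤ rep cs h (cs.simple i) (sr j) := nonneg_of_pos_apply (k := j) hr (by rw [h2]; exact one_pos)
  refine le_inf (RGD.le_Sup ⟨hr, h0, j, ?_, by rw [h2]; exact one_pos⟩)
    (RGD.le_Sup ⟨hr, h0, i, ?_, by rw [h1]; omega⟩)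
  · rw [Set.mem_singleton_iff]; exact hij.symm
  · rw [Set.mem_singleton_iff]; exact hij

theorem conj_step [Finite W] {J : Set I} {N C V : Subgroup Y}
    (hN : ∀ g ∈ PJ cs h T X J, ∀ x ∈ N, g * x * g⁻¹ ∈ N) (he : N ⊔ RGD.B cs h T X = PJ cs h T X J)
    (hC : ∀ g ∈ PJ cs h T X J, ∀ x ∈ C, g * x * g⁻¹ ∈ C)
    (hp : ∀ x ∈ N, (∃ k : ℕ, x ^ p ^ k = 1) → x ∈ C) {i : I} (hi : i ∈ J) (hVi : V ≤ VJ cs h X {i})
    (hVB : ∀ b ∈ RGD.B cs h T X, ∀ u ∈ V, b * u * b⁻¹ ∈ V) : cj (n i) (V ⊔ C) ≤ V ⊔ C := by
  have hiJ : PJ cs h T X {i} ≤ PJ cs h T X J := PJ_mono R (Set.singleton_subset_iff.2 hi)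
  have h1 : ∀ x ∈ N, x ∈ PJ cs h T X {i} → ∀ u ∈ V, x * u * x⁻¹ ∈ V ⊔ C := by
    intro x hx hxP u hu
    have e : x * u * x⁻¹ = (x * u * x⁻¹ * u⁻¹) * u := by group
    have huP : u ∈ PJ cs h T X J := B_le_PJ (VJ_le_B _ (hVi hu))
    have h2 : x * u * x⁻¹ * u⁻¹ ∈ N := by
      have h3 := hN u huP x⁻¹ (inv_mem hx)
      have e2 : x * u * x⁻¹ * u⁻¹ = x * (u * x⁻¹ * u⁻¹) := by group
      rw [e2]
      exact mul_mem hx h3
    have h3 : x * u * x⁻¹ * u⁻¹ ∈ VJ cs h X {i} :=
      mul_mem ((Subgroup.mem_normalizer_iff.1 (PJ_le_normalizer_VJ R {i} hxP) u).1 (hVi hu)) (inv_mem (hVi hu))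
    have h4 : x * u * x⁻¹ * u⁻¹ ∈ C := by
      refine hp _ h2 ?_
      have hP : IsPGroup p (VJ cs h X {i}) := R.isPGroup_Upos.to_le (VJ_le_U {i})
      obtain ⟨k, hk⟩ := hP ⟨_, h3⟩
      exact ⟨k, congrArg Subtype.val hk⟩
    rw [e]
    exact mul_mem ((le_sup_right : C ≤ _) h4) ((le_sup_left : V ≤ _) hu)
  have hni : n i ∈ PJ cs h T X {i} := (n_mem_PJ_iff R).2 (Set.mem_singleton i)
  rw [cj_sup]
  refine sup_le ?_ ?_
  · intro y hy
    rw [mem_cj] at hy
    obtain ⟨x, hx, b, hb, e⟩ := exists_cell R hN he (hiJ hni)
    have hxP : x ∈ PJ cs h T X {i} := by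
      have e' : x = n i * b⁻¹ := by rw [e]; group
      rw [e']
      exact mul_mem hni (inv_mem (B_le_PJ hb))
    have h2 := h1 x hx hxP _ (hVB b hb _ hy)
    have e2 : x * (b * ((n i)⁻¹ * y * n i) * b⁻¹) * x⁻¹ = y := by rw [e]; group
    rwa [e2] at h2
  · intro y hy
    rw [mem_cj] at hy
    have h2 := hC (n i) (hiJ hni) _ hy
    have e2 : n i * ((n i)⁻¹ * y * n i) * (n i)⁻¹ = y := by group
    rw [e2] at h2
    exact (le_sup_right : C ≤ _) h2

/-- the case of the characteristic -/
theorem not_char [Finite W] {J : Set I} {N C : Subgroup Y}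
    (hN : ∀ g ∈ PJ cs h T X J, ∀ x ∈ N, g * x * g⁻¹ ∈ N) (he : N ⊔ RGD.B cs h T X = PJ cs h T X J)
    (hCB : C ≤ RGD.B cs h T X) (hC : ∀ g ∈ PJ cs h T X J, ∀ x ∈ C, g * x * g⁻¹ ∈ C)
    (hp : ∀ x ∈ N, (∃ k : ℕ, x ^ p ^ k = 1) → x ∈ C) {i j : I} (hi : i ∈ J) (hj : j ∈ J)
    (hij : i ≠ j) (hM : M i j ≠ 2) : False := by
  obtain ⟨V, hV⟩ : ∃ V : Subgroup Y, V = VJ cs h X {i} ⊓ VJ cs h X {j} := ⟨_, rfl⟩
  have hVB : ∀ b ∈ RGD.B cs h T X, ∀ u ∈ V, b * u * b⁻¹ ∈ V := by
    intro b hb u hu
    rw [hV] at hu ⊢
    exact ⟨(Subgroup.mem_normalizer_iff.1 (PJ_le_normalizer_VJ R {i} (B_le_PJ hb)) u).1 hu.1,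
      (Subgroup.mem_normalizer_iff.1 (PJ_le_normalizer_VJ R {j} (B_le_PJ hb)) u).1 hu.2⟩
  have h1 : cj (n i) (V ⊔ C) ≤ V ⊔ C := conj_step R hN he hC hp hi (by rw [hV]; exact inf_le_left) hVB
  have h2 : cj (n j) (V ⊔ C) ≤ V ⊔ C := conj_step R hN he hC hp hj (by rw [hV]; exact inf_le_right) hVB
  have h3 : X (rep cs h (cs.simple i) (sr j)) ≤ V ⊔ C := by
    refine le_trans ?_ le_sup_left
    rw [hV]
    exact X_le_VJ R hij hM
  have h4 : X (sr j) ≤ V ⊔ C := by
    have h5 := (cj_mono (n i) h3).trans h1
    rw [R.conj i _ ((isRoot_sr cs h j).act _), ← rep_mul_apply, simple_mul_simple_self, map_one,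
      Module.End.one_apply] at h5
    exact h5
  have h5 : X (-sr j) ≤ V ⊔ C := by
    have h6 := (cj_mono (n j) h4).trans h2
    rwa [R.conj j _ (isRoot_sr cs h j), rep_simple_sr] at h6
  refine R.not_neg_le_B j (h5.trans (sup_le ?_ hCB))
  rw [hV]
  exact inf_le_left.trans (VJ_le_B _)

/-- **Irreducible parabolic subgroups of rank at least two are not `l`-solvable** -/
theorem not_psolvable_PJ [Finite W] [Finite Y] {l : ℕ} (hl : l.Prime) {J : Set I} (hJ : ConnJ M J) {i j : I}
    (hi : i ∈ J) (hj : j ∈ J) (hij : i ≠ j) (hM : M i j ≠ 2)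
    (hd : l = p ∨ (l ∣ Nat.card (PJ cs h T X J) ∧ ¬ l ∣ Nat.card (RGD.B cs h T X))) :
    ¬ Cfsg.IsPSolvable l (PJ cs h T X J) := by
  intro hsol
  have hlF : Fact l.Prime := ⟨hl⟩
  obtain ⟨P, hP⟩ : ∃ P : Subgroup Y, P = PJ cs h T X J := ⟨_, rfl⟩
  obtain ⟨B, hB⟩ : ∃ B : Subgroup Y, B = RGD.B cs h T X := ⟨_, rfl⟩
  have hBP : B ≤ P := by rw [hB, hP]; exact B_le_PJ
  rw [← hP] at hsol hd
  rw [← hB] at hd
  let C' : Subgroup P := (B.subgroupOf P).normalCore
  have hC'B : C' ≤ B.subgroupOf P := Subgroup.normalCore_le _
  have hC'n : C'.Normal := Subgroup.normalCore_normal _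
  have hnt : Nontrivial (P ⧸ C') := by
    rw [QuotientGroup.nontrivial_iff]
    intro h1
    have h2 : (⟨n i, by rw [hP]; exact (n_mem_PJ_iff R).2 hi⟩ : P) ∈ C' := by rw [h1]; trivial
    have h3 : n i ∈ RGD.B cs h T X := by
      rw [← hB]
      exact Subgroup.mem_subgroupOf.1 (hC'B h2)
    rw [← PJ_empty R, n_mem_PJ_iff R] at h3
    exact h3
  obtain ⟨N₀, hN₀n, hN₀, hN₀2⟩ := exists_normal hl
    (Cfsg.Agent.PLocal.PSolvable.isPSolvable_quotient hsol C')
  let N' : Subgroup P := N₀.comap (QuotientGroup.mk' C')
  have hN'n : N'.Normal := inferInstance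
  have hC'N' : C' ≤ N' := by
    intro x hx
    show QuotientGroup.mk' C' x ∈ N₀
    have : QuotientGroup.mk' C' x = 1 := (QuotientGroup.eq_one_iff x).2 hx
    rw [this]
    exact one_mem _
  -- the subgroups of `Y`
  have memN : ∀ x : Y, x ∈ N'.map P.subtype ↔ ∃ hx : x ∈ P, (⟨x, hx⟩ : P) ∈ N' := by
    intro x
    constructor
    · rintro ⟨y, hy, rfl⟩
      exact ⟨y.2, hy⟩
    · rintro ⟨hx, hy⟩
      exact ⟨⟨x, hx⟩, hy, rfl⟩
  have memC : ∀ x : Y, x ∈ C'.map P.subtype ↔ ∃ hx : x ∈ P, (⟨x, hx⟩ : P) ∈ C' := by
    intro x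
    constructor
    · rintro ⟨y, hy, rfl⟩
      exact ⟨y.2, hy⟩
    · rintro ⟨hx, hy⟩
      exact ⟨⟨x, hx⟩, hy, rfl⟩
  have hN : ∀ g ∈ PJ cs h T X J, ∀ x ∈ N'.map P.subtype, g * x * g⁻¹ ∈ N'.map P.subtype := by
    intro g hg x hx
    rw [← hP] at hg
    obtain ⟨hxP, hx'⟩ := (memN x).1 hx
    exact (memN _).2 ⟨mul_mem (mul_mem hg hxP) (inv_mem hg), hN'n.conj_mem _ hx' ⟨g, hg⟩⟩
  have hC : ∀ g ∈ PJ cs h T X J, ∀ x ∈ C'.map P.subtype, g * x * g⁻¹ ∈ C'.map P.subtype := by
    intro g hg x hx
    rw [← hP] at hg
    obtain ⟨hxP, hx'⟩ := (memC x).1 hx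
    exact (memC _).2 ⟨mul_mem (mul_mem hg hxP) (inv_mem hg), hC'n.conj_mem _ hx' ⟨g, hg⟩⟩
  have hCB : C'.map P.subtype ≤ RGD.B cs h T X := by
    intro x hx
    obtain ⟨hxP, hx'⟩ := (memC x).1 hx
    rw [← hB]
    exact Subgroup.mem_subgroupOf.1 (hC'B hx')
  have hNP : N'.map P.subtype ≤ PJ cs h T X J := by
    intro x hx
    rw [← hP]
    exact ((memN x).1 hx).1
  have hNB : ¬ N'.map P.subtype ≤ RGD.B cs h T X := by
    intro h1
    have h2 : N' ≤ B.subgroupOf P := by
      intro x hx
      rw [Subgroup.mem_subgroupOf, hB]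
      exact h1 ⟨x, hx, rfl⟩
    have h3 : N' ≤ C' := Subgroup.normal_le_normalCore.2 h2
    apply hN₀
    rw [eq_bot_iff]
    intro y hy
    obtain ⟨x, rfl⟩ := QuotientGroup.mk'_surjective C' y
    rw [Subgroup.mem_bot]
    exact (QuotientGroup.eq_one_iff x).2 (h3 hy)
  have he := sup_eq_PJ R hJ hNP hN hNB
  have hmk : ∀ x : P, x ∈ C' ↔ QuotientGroup.mk' C' x = 1 := fun x => (QuotientGroup.eq_one_iff x).symm
  rcases hN₀2 with hab | hl'
  · refine not_abelian R hN he hCB ?_ hi hj hij hM
    intro x hx y hy
    obtain ⟨hxP, hx'⟩ := (memN x).1 hx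
    obtain ⟨hyP, hy'⟩ := (memN y).1 hy
    refine (memC _).2 ⟨mul_mem (mul_mem (mul_mem hxP hyP) (inv_mem hxP)) (inv_mem hyP), ?_⟩
    have h1 := hab _ hx' _ hy'
    have h2 : (⟨x * y * x⁻¹ * y⁻¹, mul_mem (mul_mem (mul_mem hxP hyP) (inv_mem hxP)) (inv_mem hyP)⟩ : P) =
        (⟨x, hxP⟩ : P) * ⟨y, hyP⟩ * (⟨x, hxP⟩ : P)⁻¹ * (⟨y, hyP⟩ : P)⁻¹ := rfl
    rw [hmk, h2, map_mul, map_mul, map_mul, map_inv, map_inv, h1]
    group
  rcases hd with rfl | ⟨hd, hdB⟩
  · refine not_char R hN he hCB hC ?_ hi hj hij hM
    rintro x hx ⟨k, hk⟩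
    obtain ⟨hxP, hx'⟩ := (memN x).1 hx
    refine (memC _).2 ⟨hxP, ?_⟩
    rw [hmk]
    have h1 : (QuotientGroup.mk' C' ⟨x, hxP⟩) ^ l ^ k = 1 := by
      rw [← map_pow]
      have : (⟨x, hxP⟩ : P) ^ l ^ k = 1 := Subtype.ext hk
      rw [this, map_one]
    have h2 : orderOf (QuotientGroup.mk' C' (⟨x, hxP⟩ : P)) ∣ Nat.card N₀ := Subgroup.orderOf_dvd_natCard N₀ hx'
    have h3 : Nat.Coprime (l ^ k) (Nat.card N₀) := Nat.Coprime.pow_left k ((Nat.Prime.coprime_iff_not_dvd hl).2 hl')
    exact orderOf_eq_one_iff.1 (Nat.eq_one_of_dvd_coprimes h3 (orderOf_dvd_of_pow_eq_one h1) h2)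
  · -- the order of `N'` is prime to `l`
    have hC'l : ¬ l ∣ Nat.card C' := by
      intro h1
      apply hdB
      have h2 : Nat.card (B.subgroupOf P) = Nat.card B := Nat.card_congr (Subgroup.subgroupOfEquivOfLe hBP).toEquiv
      rw [← h2]
      exact h1.trans (Subgroup.card_dvd_of_le hC'B)
    have hN'l : ¬ l ∣ Nat.card N' := by
      intro h1
      have h2 : Nat.card N' = Nat.card N₀ * Nat.card C' := by
        have h3 := Subgroup.relIndex_ker N' (QuotientGroup.mk' C')
        rw [QuotientGroup.ker_mk', Subgroup.map_comap_eq_self_of_surjective (QuotientGroup.mk'_surjective C')] at h3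
        have h4 := Subgroup.relIndex_mul_relIndex ⊥ C' N' bot_le hC'N'
        rw [Subgroup.relIndex_bot_left, Subgroup.relIndex_bot_left, h3] at h4
        rw [← h4, mul_comm]
      rw [h2] at h1
      rcases hl.dvd_mul.1 h1 with h3 | h3
      · exact hl' h3
      · exact hC'l h3
    let f : B →* P ⧸ N' := (QuotientGroup.mk' N').comp (Subgroup.inclusion hBP)
    have hf : Function.Surjective f := by
      intro y
      obtain ⟨g, rfl⟩ := QuotientGroup.mk'_surjective N' y
      obtain ⟨x, hx, b, hb, e⟩ := exists_cell R hN he (g := g) (by rw [← hP]; exact g.2)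
      obtain ⟨hxP, hx'⟩ := (memN x).1 hx
      rw [← hB] at hb
      refine ⟨⟨b, hb⟩, ?_⟩
      have h1 : g = ⟨x, hxP⟩ * ⟨b, hBP hb⟩ := Subtype.ext e
      rw [h1, map_mul]
      have h2 : QuotientGroup.mk' N' ⟨x, hxP⟩ = 1 := (QuotientGroup.eq_one_iff _).2 hx'
      rw [h2, one_mul]
      rfl
    have h1 := Subgroup.card_dvd_of_surjective f hf
    have h2 := Subgroup.card_eq_card_quotient_mul_card_subgroup N'
    rw [h2] at hd
    rcases hl.dvd_mul.1 hd with h3 | h3
    · exact hdB (h3.trans h1)
    · exact hN'l h3

/-- a connected set of nodes with `l ∣ |P_J|` -/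
theorem exists_conn [Finite W] [Finite Y] {l : ℕ} (hl : l.Prime) (hB : ¬ l ∣ Nat.card (RGD.B cs h T X))
    {J₀ : Finset I} (hJ₀ : l ∣ Nat.card (PJ cs h T X (J₀ : Set I))) :
    ∃ J : Finset I, J ⊆ J₀ ∧ J.Nonempty ∧ ConnJ M (J : Set I) ∧ l ∣ Nat.card (PJ cs h T X (J : Set I)) := by
  classical
  induction hc : J₀.card using Nat.strong_induction_on generalizing J₀ with
  | _ N ih =>
  by_cases hex : ∃ K ⊆ J₀, K ≠ J₀ ∧ l ∣ Nat.card (PJ cs h T X (K : Set I))
  · obtain ⟨K, hK, hne, hd⟩ := hex
    obtain ⟨J, h1, h2⟩ := ih _ (by rw [← hc]; exact Finset.card_lt_card (lt_of_le_of_ne hK hne)) hd rfl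
    exact ⟨J, h1.trans hK, h2⟩
  push Not at hex
  refine ⟨J₀, Finset.Subset.refl _, ?_, ?_, hJ₀⟩
  · by_contra hne
    rw [Finset.not_nonempty_iff_eq_empty] at hne
    rw [hne, Finset.coe_empty, PJ_empty R] at hJ₀
    exact hB hJ₀
  · intro S hS hne hne'
    by_contra hcon
    push Not at hcon
    obtain ⟨J₁, rfl⟩ : ∃ J₁ : Finset I, (J₁ : Set I) = S := ⟨S.toFinset, by simp⟩
    rw [Finset.coe_subset] at hS
    have hne2 : J₁ ≠ J₀ := fun h1 => hne' (by rw [h1])
    have hdis : Disjoint (J₁ : Set I) ((J₀ \ J₁ : Finset I) : Set I) := by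
      rw [Finset.disjoint_coe]
      exact Finset.disjoint_sdiff
    have hun : (J₁ : Set I) ∪ ((J₀ \ J₁ : Finset I) : Set I) = (J₀ : Set I) := by
      rw [← Finset.coe_union, Finset.union_sdiff_of_subset hS]
    have h1 := Cfsg.Agent.H396.Crit.card_PJ_mul R hdis (fun i hi j hj => by
      rw [Finset.mem_coe, Finset.mem_sdiff] at hj
      exact hcon i hi j (Finset.mem_coe.2 hj.1) (fun h2 => hj.2 (Finset.mem_coe.1 h2)))
    rw [hun] at h1
    have h2 : l ∣ Nat.card (PJ cs h T X (J₁ : Set I)) * Nat.card (PJ cs h T X ((J₀ \ J₁ : Finset I) : Set I)) := by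
      rw [h1]; exact hJ₀.mul_right _
    rcases hl.dvd_mul.1 h2 with h3 | h3
    · exact hex J₁ hS hne2 h3
    · refine hex _ Finset.sdiff_subset (fun h4 => ?_) h3
      obtain ⟨a, ha⟩ := hne
      have : a ∈ J₀ \ J₁ := by rw [h4]; exact hS (Finset.mem_coe.1 ha)
      exact (Finset.mem_sdiff.1 this).2 (Finset.mem_coe.1 ha)

omit R in
theorem connJ_pair {i j : I} (hM : M i j ≠ 2) : ConnJ M {i, j} := by
  intro S hS hne hne'
  by_cases hi : i ∈ S
  · have hj : j ∉ S := fun hj => hne' (Set.Subset.antisymm hS (by
      rintro k (rfl | rfl)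
      · exact hi
      · exact hj))
    exact ⟨i, hi, j, by simp, hj, hM⟩
  · have hj : j ∈ S := by
      obtain ⟨k, hk⟩ := hne
      rcases hS hk with rfl | rfl
      · exact absurd hk hi
      · exact hk
    exact ⟨j, hj, i, by simp, hi, by rwa [M.symmetric]⟩

/-- **a proper parabolic subgroup which is not `l`-solvable** -/
theorem exists_PJ [Finite W] [Finite Y] [Fact p.Prime] {l : ℕ} (hl : l.Prime) (hM : Cfsg.Agent.H396.Conn M)
    (h3 : 3 ≤ Fintype.card I) {J₀ : Set I} (hJ₀ : J₀ ≠ Set.univ) (hd : l ∣ Nat.card (PJ cs h T X J₀))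
    (hlT : l = p ∨ ¬ l ∣ Nat.card T) :
    ∃ J : Set I, J ≠ Set.univ ∧ ¬ Cfsg.IsPSolvable l (PJ cs h T X J) := by
  classical
  have pair_ne : ∀ i j : I, ({i, j} : Set I) ≠ Set.univ := by
    intro i j h1
    have h2 : (Finset.univ : Finset I) ⊆ {i, j} := by
      intro k _
      have : k ∈ ({i, j} : Set I) := by rw [h1]; trivial
      simpa using this
    have h4 := Finset.card_le_card h2
    have h5 : Finset.card {i, j} ≤ 2 := Finset.card_le_two
    rw [Finset.card_univ] at h4
    omega
  have nbr : ∀ i : I, ∃ j, i ≠ j ∧ M i j ≠ 2 := by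
    intro i
    obtain ⟨a, ha, b, hb, hab⟩ := hM {i} (Set.singleton_nonempty i) (fun h1 => pair_ne i i (by
      rw [Set.pair_eq_singleton, h1]))
    rw [Set.mem_singleton_iff] at ha hb
    rw [ha] at hab
    exact ⟨b, fun h1 => hb h1.symm, hab⟩
  have hne : Nonempty I := by
    rw [← Fintype.card_pos_iff]
    omega
  by_cases hlp : l = p
  · obtain ⟨i⟩ := hne
    obtain ⟨j, hij, hj⟩ := nbr i
    exact ⟨{i, j}, pair_ne i j, not_psolvable_PJ R hl (connJ_pair hj) (by simp) (by simp) hij hj (Or.inl hlp)⟩
  have hT := hlT.resolve_left hlp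
  have hU : ¬ l ∣ Nat.card (RGD.Sup X (RGD.Pos cs h)) := by
    intro h2
    obtain ⟨k, hk⟩ := (IsPGroup.iff_card (p := p)).1 R.isPGroup_Upos
    rw [hk] at h2
    exact hlp ((Nat.prime_dvd_prime_iff_eq hl Fact.out).1 (hl.dvd_of_dvd_pow h2))
  have hB : ¬ l ∣ Nat.card (RGD.B cs h T X) := by
    rw [← Cfsg.Agent.H396.Crit.card_B R]
    intro h1
    rcases hl.dvd_mul.1 h1 with h2 | h2
    · exact hT h2
    · exact hU h2
  obtain ⟨J, hJ1, ⟨i, hi⟩, hJ3, hJ4⟩ := exists_conn R hl hB (J₀ := J₀.toFinset) (by rwa [Set.coe_toFinset])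
  have hJu : (J : Set I) ≠ Set.univ := by
    intro h1
    apply hJ₀
    rw [Set.eq_univ_iff_forall]
    intro k
    have : k ∈ (J : Set I) := by rw [h1]; trivial
    exact Set.mem_toFinset.1 (hJ1 (Finset.mem_coe.1 this))
  by_cases hJ5 : (J : Set I) = {i}
  · obtain ⟨j, hij, hj⟩ := nbr i
    refine ⟨{i, j}, pair_ne i j, not_psolvable_PJ R hl (connJ_pair hj) (by simp) (by simp) hij hj
      (Or.inr ⟨?_, hB⟩)⟩
    rw [hJ5] at hJ4
    exact hJ4.trans (Subgroup.card_dvd_of_le (PJ_mono R (by simp)))
  · obtain ⟨a, ha, b, hb, hb2, hab⟩ := hJ3 {i} (by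
      rw [Set.singleton_subset_iff]
      exact Finset.mem_coe.2 hi) (Set.singleton_nonempty i) (fun h1 => hJ5 h1.symm)
    rw [Set.mem_singleton_iff] at ha hb2
    exact ⟨J, hJu, not_psolvable_PJ R hl hJ3 (i := a) (j := b) (by rw [ha]; exact Finset.mem_coe.2 hi) hb
      (by rw [ha]; exact fun h1 => hb2 h1.symm) hab (Or.inr ⟨hJ4, hB⟩)⟩

/-- **The parabolic lemma** for groups with a filtered root group datum of rank at least three. -/
theorem notMin_of_rgd [Finite W] [Finite Y] [Fact p.Prime] {F : (I → ℤ) → ℝ → Subgroup Y}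
    (hF : Cfsg.Agent.KFacts.RgdBorelTits.Filt R F) (hG : Nodes.RGDLib.G1 cs h X = ⊤)
    (hM : Cfsg.Agent.H396.Conn M) (h3 : 3 ≤ Fintype.card I) {l : ℕ} (hl : l.Prime)
    (hlT : l = p ∨ ¬ l ∣ Nat.card T) {V : Subgroup Y} (hV : IsPGroup p V) (hV1 : V ≠ ⊥)
    (hd : l ∣ Nat.card (Subgroup.normalizer (V : Set Y))) : NotMin l Y := by
  obtain ⟨g, J₀, hJ₀, -, hle⟩ := Cfsg.Agent.KFacts.RgdFilt.borel_tits_of_filt hF hG hV hV1
  have h1 : l ∣ Nat.card (PJ cs h T X J₀) := by
    have h2 := hd.trans (Subgroup.card_dvd_of_le hle)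
    have h4 : Nat.card (cj g (PJ cs h T X J₀)) = Nat.card (PJ cs h T X J₀) := Nat.card_congr
      (Subgroup.equivMapOfInjective _ (MulAut.conj g).toMonoidHom (MulAut.conj g).injective).toEquiv.symm
    rwa [h4] at h2
  obtain ⟨J, hJ, hJs⟩ := exists_PJ R hl hM h3 hJ₀ h1 hlT
  exact ⟨PJ cs h T X J, PJ_ne_top R hJ, hJs⟩

end Norm

end Cfsg.Agent.H274.Pqr
end

-- part: H983/ElPar/Base
section
/-!
# `p`-local subgroups miss an `Aut`-class of elements of prime order: the interface (helper983)

* `DQ p G` : every proper subgroup of index prime to `p` misses a class of elements of prime order (up to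
  automorphisms of `G`);
* `NP p G` : the same for the normalisers of nontrivial `p`-subgroups;
* `np_of_filt` : `DQ p G → NP p G` by Borel–Tits.
-/

set_option autoImplicit false
set_option linter.unusedSectionVars false

namespace Cfsg.Agent.H983.ElPar

open Cfsg.Agent.H396 (Der der_of_prime)
open CoxeterSystem Cfsg.Agent.ChevalleyStructure.CoxeterGeom Cfsg.Agent.Tits.Roots
  Cfsg.Agent.Nodes.Reps Cfsg.Agent.Nodes.BNOf
  Cfsg.Agent.Nodes.Bruhat Cfsg.Agent.Nodes.OppDec Cfsg.Agent.Nodes.LeviDec Cfsg.Agent.Nodes.NormX
  Cfsg.Agent.KFacts.RgdPar Cfsg.Agent.KFacts.RgdCent Cfsg.Agent.KFacts.RgdVJ Cfsg.Agent.KFacts.RgdCharP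
  Cfsg.Agent.KFacts.RgdFilt

/-- every proper subgroup of index prime to `p` misses an `Aut`-class of elements of prime order -/
def DQ (p : ℕ) (G : Type*) [Group G] : Prop := ∀ M : Subgroup G, M ≠ ⊤ → ¬ p ∣ M.index → Der G M

/-- the normaliser of a nontrivial `p`-subgroup misses an `Aut`-class of elements of prime order -/
def NP (p : ℕ) (G : Type*) [Group G] : Prop :=
  ∀ V : Subgroup G, IsPGroup p V → V ≠ ⊥ → Der G (Subgroup.normalizer (V : Set G))

theorem DQ.congr {p : ℕ} {G H : Type*} [Group G] [Group H] (e : G ≃* H) (h : DQ p G) : DQ p H := by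
  intro M hM hidx
  refine Cfsg.Agent.H396.Der.congr e (h _ (fun ht => hM ?_) ?_)
  · rw [eq_top_iff]
    intro x _
    have : e.symm x ∈ M.comap e.toMonoidHom := by rw [ht]; trivial
    simpa using this
  · rwa [Subgroup.index_comap_of_surjective M e.surjective]

theorem comap_normalizer {G H : Type*} [Group G] [Group H] (e : G ≃* H) (V : Subgroup H) :
    (Subgroup.normalizer (V : Set H)).comap e.toMonoidHom =
      Subgroup.normalizer ((V.comap e.toMonoidHom : Subgroup G) : Set G) := by
  ext x
  rw [Subgroup.mem_comap, Subgroup.mem_normalizer_iff, Subgroup.mem_normalizer_iff]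
  constructor
  · intro h y
    have := h (e y)
    rw [Subgroup.mem_comap, Subgroup.mem_comap, map_mul, map_mul, map_inv]
    exact this
  · intro h y
    have := h (e.symm y)
    rw [Subgroup.mem_comap, Subgroup.mem_comap, map_mul, map_mul, map_inv] at this
    change e (e.symm y) ∈ V ↔ e x * e (e.symm y) * (e x)⁻¹ ∈ V at this
    rw [e.apply_symm_apply] at this
    exact this

theorem NP.congr {p : ℕ} {G H : Type*} [Group G] [Group H] (e : G ≃* H) (h : NP p G) : NP p H := by
  intro V hV hV1
  refine Cfsg.Agent.H396.Der.congr e ?_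
  rw [comap_normalizer]
  refine h _ (hV.comap_of_injective _ e.injective) fun hb => hV1 ?_
  rw [eq_bot_iff]
  intro x hx
  have h1 : e.symm x ∈ V.comap e.toMonoidHom := by
    show e (e.symm x) ∈ V
    rwa [e.apply_symm_apply]
  rw [hb, Subgroup.mem_bot] at h1
  rw [Subgroup.mem_bot, ← e.apply_symm_apply x, h1, map_one]

/-- `M` is a proper subgroup of index prime to `p` normalising a nontrivial `p`-subgroup -/
structure Loc (p : ℕ) {G : Type*} [Group G] (M : Subgroup G) : Prop where
  ne_top : M ≠ ⊤
  idx : ¬ p ∣ M.index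
  exV : ∃ V : Subgroup G, V ≠ ⊥ ∧ IsPGroup p V ∧ M ≤ Subgroup.normalizer (V : Set G)

theorem comap_ne_bot {G H : Type*} [Group G] [Group H] (e : G ≃* H) {V : Subgroup H} (hV : V ≠ ⊥) :
    V.comap e.toMonoidHom ≠ ⊥ := by
  intro hb
  apply hV
  rw [eq_bot_iff]
  intro x hx
  have h1 : e.symm x ∈ V.comap e.toMonoidHom := by
    show e (e.symm x) ∈ V
    rwa [e.apply_symm_apply]
  rw [hb, Subgroup.mem_bot] at h1
  rw [Subgroup.mem_bot, ← e.apply_symm_apply x, h1, map_one]

theorem comap_ne_top {G H : Type*} [Group G] [Group H] (e : G ≃* H) {M : Subgroup H} (hM : M ≠ ⊤) :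
    M.comap e.toMonoidHom ≠ ⊤ := by
  intro ht
  apply hM
  rw [eq_top_iff]
  intro x _
  have : e.symm x ∈ M.comap e.toMonoidHom := by rw [ht]; trivial
  simpa using this

theorem Loc.comap {p : ℕ} {G H : Type*} [Group G] [Group H] (e : G ≃* H) {M : Subgroup H} (h : Loc p M) :
    Loc p (M.comap e.toMonoidHom) := by
  obtain ⟨V, hV, hVp, hMV⟩ := h.exV
  refine ⟨comap_ne_top e h.ne_top, ?_, V.comap e.toMonoidHom, comap_ne_bot e hV,
    hVp.comap_of_injective _ e.injective, ?_⟩
  · rw [Subgroup.index_comap_of_surjective M e.surjective]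
    exact h.idx
  · rw [← comap_normalizer]
    exact Subgroup.comap_mono hMV

end Cfsg.Agent.H983.ElPar
end

-- part: H983/ElPar/Exc
section
/-!
# `p`-local subgroups of the exceptional groups of Lie type (helper983)

The tables of helper138 (`H138/SqBase.lean`, `SqChev.lean`, `SqChev2.lean`) with Borel–Tits instead of the classification
of the subgroups of square-free index.
-/

set_option autoImplicit false
set_option linter.unusedSectionVars false

namespace Cfsg.Agent.H983.ElPar

open Cfsg
open CoxeterSystem Cfsg.Agent.ChevalleyStructure.CoxeterGeom Cfsg.Agent.Tits.Roots Cfsg.Agent.Tits.Core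
  Cfsg.Agent.Tits.RootComb Cfsg.Agent.Nodes.Comb Cfsg.Agent.Nodes.Reps Cfsg.Agent.Nodes.BNOf
  Cfsg.Agent.Nodes.StabComb Cfsg.Agent.Nodes.Bruhat Cfsg.Agent.Nodes.LeviDec Cfsg.Agent.Nodes.NormalForm
  Cfsg.Agent.ParSys Cfsg.Agent.ParSys.RootCount Cfsg.Agent.Tits.Exchange
  Cfsg.Agent.Omega.EH3Close.CountU
open Cfsg.Agent.H396 (Der Conn der_of_prime)
open Cfsg.Agent.H138.SqBase
open Cfsg.Agent.KFacts.RgdBorelTits Cfsg.Agent.KFacts.RgdFilt

section Main

variable {k : ℕ} {W Y : Type*} [Group W] [Group Y] {M : CoxeterMatrix (Fin k)}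
  {cs : CoxeterSystem M W} {A : Fin k → Fin k → ℤ} {h : IsCartan M A} {p : ℕ} {T : Subgroup Y} {n : Fin k → Y}
  {X : (Fin k → ℤ) → Subgroup Y}

end Main

/-! ### untwisted groups -/

section Chev

open Cfsg.Agent.Nodes Cfsg.Agent.Nodes.RGDLib Cfsg.Agent.Nodes.RGDChev
open Cfsg.Agent.ChevalleyStructure Cfsg.Agent.ChevalleyStructure.Elts Cfsg.Agent.ChevalleyStructure.NPerm
  Cfsg.Agent.ChevalleyStructure.CoxeterGeomTypes
open Cfsg.Agent.ParSys.RootExc
open Cfsg.Agent.H138.SqChev
open Cfsg.Lie

universe u

variable {F : Type} [Field F] [Fintype F] {p : ℕ} [CharP F p]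

open Cfsg.Agent.H138.SqChev2

end Chev

/-! ### twisted groups -/

section D4

open Cfsg.Agent.Nodes Cfsg.Agent.Nodes.RGDLib Cfsg.Agent.Nodes.RGDChev
open Cfsg.Agent.ChevalleyStructure Cfsg.Agent.ChevalleyStructure.Elts Cfsg.Agent.ChevalleyStructure.NPerm
  Cfsg.Agent.ChevalleyStructure.CoxeterGeomTypes
open Cfsg.Agent.Omega.EH3.Kf Cfsg.Agent.Omega.EH3.Kf.Lev
open Cfsg.Agent.H138.SqChev Cfsg.Agent.H138.SqChev2
open Cfsg.Lie
open Cfsg.Agent.Nodes.RGDTwGen Cfsg.Agent.Nodes.RGDFold
open Cfsg.Agent.ChevalleyStructure.TwistedU Cfsg.Agent.ChevalleyStructure.TwistedFix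
open Cfsg.Agent.ChevalleyStructure.D4Fixed (sig)
open Cfsg.Agent.ChevalleyStructure.D4U
open Cfsg.Agent.Nodes.RGDTwD4 Cfsg.Agent.Hexagon
open Cfsg.Agent.SplitTwo (HexPar HexRel)

variable {K : Type} [Field K] [Fintype K] {p : ℕ} [CharP K p]

end D4

section E6

open Cfsg.Agent.Nodes Cfsg.Agent.Nodes.RGDLib Cfsg.Agent.Nodes.RGDChev
open Cfsg.Agent.ChevalleyStructure Cfsg.Agent.ChevalleyStructure.Elts Cfsg.Agent.ChevalleyStructure.NPerm
  Cfsg.Agent.ChevalleyStructure.CoxeterGeomTypes
open Cfsg.Agent.Omega.EH3.Kf Cfsg.Agent.Omega.EH3.Kf.Lev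
open Cfsg.Agent.H138.SqChev Cfsg.Agent.H138.SqChev2
open Cfsg.Lie
open Cfsg.Agent.Nodes.RGDTwE6 Cfsg.Agent.Nodes.RGDTwCoordE6 Cfsg.Agent.Nodes.RGDTwCoord
  Cfsg.Agent.Nodes.RGDTwComE6 Cfsg.Agent.Nodes.RGDTwActE6 Cfsg.Agent.Nodes.RGDTwTab
  Cfsg.Agent.KFacts.TwESix.Comb

variable {K : Type} [Field K] [Fintype K] {p : ℕ} [CharP K p]

end E6

end Cfsg.Agent.H983.ElPar
end

-- part: H274/Pqr/ParInst
section
/-!
# The parabolic lemma for `F₄(q)`, `E₆(q)`, `E₇(q)`, `E₈(q)`, `²E₆(q)` (for S3988, helper274)

If `V ≠ 1` is a subgroup of `p`-power order (`p` the characteristic) and the odd prime `l` divides `|N(V)|`, then a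
proper subgroup is not `l`-solvable: `par_F4`, `par_E6`, `par_E7`, `par_E8`, `par_2E6`.
-/

set_option autoImplicit false
set_option linter.unusedSectionVars false

namespace Cfsg.Agent.H274.Pqr

open Cfsg.Agent.H562.PQR (NotMin)

/-! ### Homomorphisms from `SL₂(q)` -/

section SL2

variable {K : Type} [Field K] [Fintype K]

theorem card_SL2 : Nat.card (Matrix.SpecialLinearGroup (Fin 2) K) =
    Fintype.card K * (Fintype.card K ^ 2 - 1) := by
  have h1 := S0242.result (F := K) rfl 2 (by norm_num)
  have hq : 2 ≤ Fintype.card K := Fintype.one_lt_card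
  rw [Fin.prod_univ_two] at h1
  have h3 : Fintype.card K ^ 2 - Fintype.card K ^ 1 = (Fintype.card K - 1) * Fintype.card K := by
    rw [Nat.sub_mul, one_mul, pow_one, pow_two]
  simp only [Fin.val_zero, Fin.val_one, pow_zero] at h1
  rw [h3] at h1
  have h4 : (Fintype.card K - 1) * Nat.card (Matrix.SpecialLinearGroup (Fin 2) K) =
      (Fintype.card K - 1) * (Fintype.card K * (Fintype.card K ^ 2 - 1)) := by rw [h1]; ring
  exact Nat.eq_of_mul_eq_mul_left (by omega) h4

theorem commutator_SL2 (h : 3 < Fintype.card K) : commutator (Matrix.SpecialLinearGroup (Fin 2) K) = ⊤ := by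
  classical
  have hx : ∃ x : K, x ≠ 0 ∧ x ^ 2 ≠ 1 := by
    have h1 : ({0, 1, -1} : Finset K).card < (Finset.univ : Finset K).card := by
      refine lt_of_le_of_lt Finset.card_le_three ?_
      rwa [Finset.card_univ]
    obtain ⟨x, -, hx⟩ := Finset.exists_mem_notMem_of_card_lt_card h1
    simp only [Finset.mem_insert, Finset.mem_singleton, not_or] at hx
    refine ⟨x, hx.1, ?_⟩
    intro h2
    rcases (mul_self_eq_one_iff.mp (by rw [← sq]; exact h2) : x = 1 ∨ x = -1) with h3 | h3
    · exact hx.2.1 h3
    · exact hx.2.2 h3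
  obtain ⟨x, h0, h1⟩ := hx
  exact Matrix.SL2.commutator_eq_top h0 h1

/-- a nontrivial homomorphism of `SL₂(q)` into a larger group -/
theorem notMin_of_sl2 (h4 : 3 < Fintype.card K) {G : Type*} [Group G] [Finite G]
    (φ : Matrix.SpecialLinearGroup (Fin 2) K →* G) (hφ : ∃ x, φ x ≠ 1)
    (hlt : Nat.card (Matrix.SpecialLinearGroup (Fin 2) K) < Nat.card G) {l : ℕ} (hl : l.Prime) (hl2 : l ≠ 2)
    (hd : l ∣ Nat.card (Matrix.SpecialLinearGroup (Fin 2) K)) : NotMin l G := by
  have hs : IsSimpleGroup (Matrix.ProjectiveSpecialLinearGroup (Fin 2) K) :=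
    Matrix.ProjectiveSpecialLinearGroup.rank_two_simple (by rw [Nat.card_eq_fintype_card]; exact h4)
  let g : Matrix.SpecialLinearGroup (Fin 2) K →* Matrix.ProjectiveSpecialLinearGroup (Fin 2) K :=
    QuotientGroup.mk' (Subgroup.center (Matrix.SpecialLinearGroup (Fin 2) K))
  have hg : Function.Surjective g := QuotientGroup.mk'_surjective _
  have hgk : g.ker = Subgroup.center (Matrix.SpecialLinearGroup (Fin 2) K) := QuotientGroup.ker_mk' _
  have hc := commutator_SL2 h4
  -- noncommutative
  have hna : ∃ x y : Matrix.ProjectiveSpecialLinearGroup (Fin 2) K, x * y ≠ y * x := by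
    by_contra hcon
    push Not at hcon
    have h1 : commutator (Matrix.SpecialLinearGroup (Fin 2) K) ≤ g.ker := by
      rw [commutator_def, Subgroup.commutator_le]
      intro a _ b _
      rw [MonoidHom.mem_ker, map_commutatorElement, commutatorElement_def, hcon (g a) (g b)]
      group
    rw [hc] at h1
    obtain ⟨x, y, hxy⟩ := exists_pair_ne (Matrix.ProjectiveSpecialLinearGroup (Fin 2) K)
    have h2 : ∀ z : Matrix.ProjectiveSpecialLinearGroup (Fin 2) K, z = 1 := by
      intro z
      obtain ⟨w, rfl⟩ := hg z
      exact h1 (Subgroup.mem_top w)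
    exact hxy (by rw [h2 x, h2 y])
  -- the order
  have hdT : l ∣ Nat.card (Matrix.ProjectiveSpecialLinearGroup (Fin 2) K) := by
    have h1 := Subgroup.card_eq_card_quotient_mul_card_subgroup
      (Subgroup.center (Matrix.SpecialLinearGroup (Fin 2) K))
    rw [h1] at hd
    rcases hl.dvd_mul.1 hd with h2 | h2
    · exact h2
    · exfalso
      rw [S0280.card_center_SL (by norm_num)] at h2
      have h3 := h2.trans (Nat.gcd_dvd_left 2 _)
      exact hl2 ((Nat.prime_dvd_prime_iff_eq hl Nat.prime_two).1 h3)
  -- the kernel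
  have hker : φ.ker ≤ g.ker := by
    have hn : (φ.ker.map g).Normal := Subgroup.Normal.map inferInstance g hg
    rcases hn.eq_bot_or_eq_top with h1 | h1
    · rwa [Subgroup.map_eq_bot_iff] at h1
    · exfalso
      have h2 : ∀ x : Matrix.SpecialLinearGroup (Fin 2) K, ∃ k ∈ φ.ker, ∃ z ∈ g.ker, x = k * z := by
        intro x
        obtain ⟨k, hk, hkx⟩ : g x ∈ φ.ker.map g := by rw [h1]; trivial
        refine ⟨k, hk, k⁻¹ * x, ?_, by group⟩
        rw [MonoidHom.mem_ker, map_mul, map_inv, hkx, inv_mul_cancel]
      have h3 : commutator (Matrix.SpecialLinearGroup (Fin 2) K) ≤ φ.ker := by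
        rw [commutator_def, Subgroup.commutator_le]
        intro a _ b _
        obtain ⟨k, hk, z, hz, rfl⟩ := h2 a
        obtain ⟨k', hk', z', hz', rfl⟩ := h2 b
        rw [hgk] at hz hz'
        rw [MonoidHom.mem_ker] at hk hk' ⊢
        have h5 := Subgroup.mem_center_iff.1 hz' z
        rw [map_commutatorElement, commutatorElement_def, map_mul, map_mul, hk, hk', one_mul, one_mul, ← map_mul, h5,
          map_mul]
        group
      rw [hc] at h3
      obtain ⟨x, hx⟩ := hφ
      exact hx (h3 (Subgroup.mem_top x))
  exact NotMin.of_hom_lt hna hl hdT φ g hg hker hlt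

theorem card_lt {c n q N : ℕ} (hc0 : 0 < c) (hc : c ≤ 3) (hn : 0 < n) (hN : 5 ≤ N) (hq : 2 ≤ q)
    (h : q ^ N ∣ c * n) : q * (q ^ 2 - 1) < n := by
  obtain ⟨M, h⟩ := h
  have hM : 0 < M := by
    rcases Nat.eq_zero_or_pos M with rfl | h1
    · exfalso
      rw [mul_zero] at h
      have := Nat.mul_pos hc0 hn
      omega
    · exact h1
  have h1 : q ^ 5 ≤ q ^ N := Nat.pow_le_pow_right (by omega) hN
  have h2 : q ^ N ≤ q ^ N * M := Nat.le_mul_of_pos_right _ hM
  have h3 : c * n ≤ 3 * n := Nat.mul_le_mul_right n hc
  have h4 : q * (q ^ 2 - 1) ≤ q ^ 3 := by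
    calc q * (q ^ 2 - 1) ≤ q * q ^ 2 := Nat.mul_le_mul_left q (Nat.sub_le _ _)
      _ = q ^ 3 := by ring
  have h5 : 4 * q ^ 3 ≤ q ^ 5 := by
    have : 4 ≤ q ^ 2 := by nlinarith only [hq]
    calc 4 * q ^ 3 ≤ q ^ 2 * q ^ 3 := Nat.mul_le_mul_right _ this
      _ = q ^ 5 := by ring
  have h6 : 0 < q ^ 3 := by positivity
  omega

end SL2

/-! ### The untwisted groups -/

section Chev

open CoxeterSystem Cfsg.Agent.ChevalleyStructure.CoxeterGeom Cfsg.Agent.Tits.Roots Cfsg.Agent.Tits.Core
open Cfsg.Agent.Nodes Cfsg.Agent.Nodes.RGDLib Cfsg.Agent.Nodes.RGDChev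
open Cfsg.Agent.ChevalleyStructure Cfsg.Agent.ChevalleyStructure.Elts Cfsg.Agent.ChevalleyStructure.NPerm
  Cfsg.Agent.ChevalleyStructure.CoxeterGeomTypes
open Cfsg.Agent.ParSys.RootExc
open Cfsg.Agent.H138.SqChev
open Cfsg.Lie

variable {F : Type} [Field F] [Fintype F]

theorem notMin_chev {D : ChevalleyDatum} (hD : InList D) (h0 : 0 < D.nroots) (h4 : 3 < Fintype.card F)
    (hlt : Fintype.card F * (Fintype.card F ^ 2 - 1) < Nat.card ↥(D.group F)) {l : ℕ} (hl : l.Prime) (hl2 : l ≠ 2)
    (hd : l ∣ Fintype.card F * (Fintype.card F ^ 2 - 1)) : NotMin l ↥(D.group F) := by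
  have hfin : Finite ↥(D.group F) := Nat.finite_of_card_ne_zero (by omega)
  obtain ⟨φ, h1, h2⟩ := Cfsg.Agent.S1030.result (F := F) D hD 0 h0
  have hle : ∀ r, D.rootSubgroup F r ≤ D.group F := by
    intro r
    refine (Subgroup.closure_le _).2 ?_
    rintro g ⟨t, hg⟩
    rw [(eq_xG_iff hD g r t).2 hg]
    exact xG_mem_group hD r t
  have hφ : ∀ g, φ g ∈ D.group F := by
    intro g
    have h3 : φ g ∈ φ.range := ⟨g, rfl⟩
    rw [h1] at h3
    exact (sup_le (hle _) (hle _)) h3
  refine notMin_of_sl2 h4 (φ.codRestrict (D.group F) hφ) ?_ (by rwa [card_SL2]) hl hl2 (by rwa [card_SL2])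
  refine ⟨Cfsg.Agent.H135.TorusTab.up F 1, fun h3 => ?_⟩
  have h4 : φ (Cfsg.Agent.H135.TorusTab.up F 1) = 1 := congrArg Subtype.val h3
  have h5 := (h2 (Cfsg.Agent.H135.TorusTab.up F 1) 1).1 rfl
  rw [h4, Units.val_one] at h5
  exact one_ne_zero ((x_eq_one_iff hD h0 (1 : F)).1 h5.symm)

theorem dvd_of_exp {G : Type*} [Group G] [Finite G] {T : Subgroup G} {l m : ℕ} (hl : l.Prime)
    (hT : ∀ t ∈ T, t ^ m = 1) (hd : l ∣ Nat.card T) : l ∣ m := by
  have : Fact l.Prime := ⟨hl⟩
  obtain ⟨t, ht⟩ := exists_prime_orderOf_dvd_card' l hd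
  rw [← ht]
  exact orderOf_dvd_of_pow_eq_one (Subtype.ext (hT t t.2))

theorem par_chev {D : ChevalleyDatum} {k : ℕ} {M : CoxeterMatrix (Fin k)} (hp : IsType D k M) (hk : 3 ≤ k)
    (hM : Cfsg.Agent.H396.Conn M) (h0 : 0 < D.nroots)
    (hlt : Fintype.card F * (Fintype.card F ^ 2 - 1) < Nat.card ↥(D.group F)) {p : ℕ} [CharP F p]
    {l : ℕ} (hl : l.Prime) (hl2 : l ≠ 2) {V : Subgroup ↥(D.group F)} (hV : IsPGroup p V) (hV1 : V ≠ ⊥)
    (hd : l ∣ Nat.card (Subgroup.normalizer (V : Set ↥(D.group F)))) : NotMin l ↥(D.group F) := by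
  have : Fact p.Prime := ⟨CharP.char_is_prime F p⟩
  have hW : Finite M.Group := finite_W hp M.toCoxeterSystem
  have hfin : Finite ↥(D.group F) := Nat.finite_of_card_ne_zero (by omega)
  by_cases hT : l ∣ Nat.card ((D.diagonalSubgroup F).subgroupOf (D.group F))
  · have h1 : l ∣ Fintype.card F - 1 := by
      refine dvd_of_exp hl ?_ hT
      intro t ht
      apply Subtype.ext
      rw [SubgroupClass.coe_pow]
      exact diag_pow hp F (Subgroup.mem_subgroupOf.1 ht)
    have hq : 2 ≤ Fintype.card F := Fintype.one_lt_card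
    have h2 := Nat.le_of_dvd (by omega) h1
    have h3 : 2 < l := lt_of_le_of_ne hl.two_le (Ne.symm hl2)
    refine notMin_chev hp.inList h0 (by omega) hlt hl hl2 ?_
    refine Dvd.dvd.mul_left (h1.trans ?_) _
    exact ⟨Fintype.card F + 1, by
      obtain ⟨m, hm⟩ : ∃ m, Fintype.card F = m + 1 := ⟨Fintype.card F - 1, by omega⟩
      rw [hm, Nat.add_sub_cancel]
      have : (m + 1) ^ 2 = m * (m + 1 + 1) + 1 := by ring
      rw [this, Nat.add_sub_cancel]⟩
  · exact notMin_of_rgd (rgd (K := F) hp M.toCoxeterSystem p) (KFacts.RgdFiltChev.filt hp M.toCoxeterSystem p)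
      (G1_eq_top hp _) hM (by rwa [Fintype.card_fin]) hl (Or.inr hT) hV hV1 hd

theorem par_F4 {p : ℕ} [CharP F p] {l : ℕ} (hl : l.Prime) (hl2 : l ≠ 2) {V : Subgroup ↥(chevF4.group F)}
    (hV : IsPGroup p V) (hV1 : V ≠ ⊥) (hd : l ∣ Nat.card (Subgroup.normalizer (V : Set ↥(chevF4.group F)))) :
    NotMin l ↥(chevF4.group F) := by
  have hp := Omega.ML.Ex.Lie2.DatF4.isType_F4
  refine par_chev hp (by norm_num) Cfsg.Agent.H155.TG.conn_F4 (by decide +kernel) ?_ hl hl2 hV hV1 hd
  have h1 := Cfsg.Agent.S1062.result (F := F) rfl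
  have hpos : 0 < Nat.card ↥(chevF4.group F) := Nat.card_pos
  exact card_lt (c := 1) (N := 24) one_pos (by norm_num) hpos (by norm_num) Fintype.one_lt_card
    (by rw [one_mul, h1]; simp only [mul_assoc]; exact Dvd.intro _ rfl)

theorem par_E6 {p : ℕ} [CharP F p] {l : ℕ} (hl : l.Prime) (hl2 : l ≠ 2) {V : Subgroup ↥(chevE6.group F)}
    (hV : IsPGroup p V) (hV1 : V ≠ ⊥) (hd : l ∣ Nat.card (Subgroup.normalizer (V : Set ↥(chevE6.group F)))) :
    NotMin l ↥(chevE6.group F) := by
  have hp : IsType chevE6 6 CoxeterMatrix.E₆ := by simp [IsType, typeList]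
  refine par_chev hp (by norm_num) Cfsg.Agent.H155.TG.conn_E6 (by decide +kernel) ?_ hl hl2 hV hV1 hd
  have h1 := Cfsg.Agent.S1063.result (F := F) rfl
  have hpos : 0 < Nat.card ↥(chevE6.group F) := Nat.card_pos
  exact card_lt (c := Nat.gcd 3 (Fintype.card F - 1)) (N := 36) (Nat.gcd_pos_of_pos_left _ (by norm_num))
    (Nat.gcd_le_left _ (by norm_num)) hpos (by norm_num) Fintype.one_lt_card (by rw [h1]; simp only [mul_assoc]; exact Dvd.intro _ rfl)

theorem par_E7 {p : ℕ} [CharP F p] {l : ℕ} (hl : l.Prime) (hl2 : l ≠ 2) {V : Subgroup ↥(chevE7.group F)}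
    (hV : IsPGroup p V) (hV1 : V ≠ ⊥) (hd : l ∣ Nat.card (Subgroup.normalizer (V : Set ↥(chevE7.group F)))) :
    NotMin l ↥(chevE7.group F) := by
  have hp : IsType chevE7 7 CoxeterMatrix.E₇ := by simp [IsType, typeList]
  refine par_chev hp (by norm_num) Cfsg.Agent.H155.TG.conn_E7 (by decide +kernel) ?_ hl hl2 hV hV1 hd
  have h1 := Cfsg.Agent.S1064.result (F := F) rfl
  have hpos : 0 < Nat.card ↥(chevE7.group F) := Nat.card_pos
  exact card_lt (c := Nat.gcd 2 (Fintype.card F - 1)) (N := 63) (Nat.gcd_pos_of_pos_left _ (by norm_num))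
    ((Nat.gcd_le_left _ (by norm_num)).trans (by norm_num)) hpos
    (by norm_num) Fintype.one_lt_card (by rw [h1]; simp only [mul_assoc]; exact Dvd.intro _ rfl)

theorem par_E8 {p : ℕ} [CharP F p] {l : ℕ} (hl : l.Prime) (hl2 : l ≠ 2) {V : Subgroup ↥(chevE8.group F)}
    (hV : IsPGroup p V) (hV1 : V ≠ ⊥) (hd : l ∣ Nat.card (Subgroup.normalizer (V : Set ↥(chevE8.group F)))) :
    NotMin l ↥(chevE8.group F) := by
  have hp : IsType chevE8 8 CoxeterMatrix.E₈ := by simp [IsType, typeList]
  refine par_chev hp (by norm_num) Cfsg.Agent.H155.TG.conn_E8 (by decide +kernel) ?_ hl hl2 hV hV1 hd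
  have h1 := Cfsg.Agent.S1065.result (F := F) rfl
  have hpos : 0 < Nat.card ↥(chevE8.group F) := Nat.card_pos
  exact card_lt (c := 1) (N := 120) one_pos (by norm_num) hpos
    (by norm_num) Fintype.one_lt_card (by rw [one_mul, h1]; simp only [mul_assoc]; exact Dvd.intro _ rfl)

end Chev

/-! ### `²E₆(q)` -/

section TwE6

open CoxeterSystem Cfsg.Agent.ChevalleyStructure.CoxeterGeom Cfsg.Agent.Tits.Roots Cfsg.Agent.Tits.Core
open Cfsg.Agent.Nodes Cfsg.Agent.Nodes.RGDLib Cfsg.Agent.Nodes.RGDChev
open Cfsg.Agent.ChevalleyStructure Cfsg.Agent.ChevalleyStructure.Elts Cfsg.Agent.ChevalleyStructure.NPerm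
  Cfsg.Agent.ChevalleyStructure.CoxeterGeomTypes
open Cfsg.Agent.H138.SqChev
open Cfsg.Lie

variable {K : Type} [Field K] [Fintype K]

theorem card_twE6_gt {q : ℕ} (hq : IsPrimePow q) (hK : Fintype.card K = q ^ 2) :
    q * (q ^ 2 - 1) < Nat.card ↥(twistedE6 K q) := by
  have h1 := Cfsg.Agent.S1066.result hq hK
  have hpos : 0 < Nat.card ↥(twistedE6 K q) := Nat.card_pos
  exact card_lt (c := Nat.gcd 3 (q + 1)) (N := 36) (Nat.gcd_pos_of_pos_left _ (by norm_num))
    (Nat.gcd_le_left _ (by norm_num)) hpos (by norm_num) hq.one_lt (by rw [h1]; simp only [mul_assoc]; exact Dvd.intro _ rfl)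

/-- `SL₂(q)` is generated by the elementary matrices. -/
theorem sl2_induction {k : Type} [Field k] (P : Subgroup (Matrix.SpecialLinearGroup (Fin 2) k))
    (h1 : ∀ t, Cfsg.Agent.H135.TorusTab.up k t ∈ P) (h2 : ∀ t, Cfsg.Agent.H135.TorusTab.lo k t ∈ P)
    (A : Matrix.SpecialLinearGroup (Fin 2) k) : A ∈ P := by
  by_cases hc : A.1 1 0 = 0
  · rw [(Cfsg.Agent.H135.TorusTab.sl_eq_of_zero hc).2]
    exact mul_mem (h1 _) (mul_mem (mul_mem (mul_mem (h1 _) (h2 _)) (h1 _)) (mul_mem (mul_mem (h1 _) (h2 _)) (h1 _)))
  · rw [Cfsg.Agent.H135.TorusTab.sl_eq_of_ne hc]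
    exact mul_mem (mul_mem (h1 _) (h2 _)) (h1 _)

theorem notMin_twE6 {q : ℕ} (hq : IsPrimePow q) (hK : Fintype.card K = q ^ 2) (h4 : 3 < q) {l : ℕ} (hl : l.Prime)
    (hl2 : l ≠ 2) (hd : l ∣ q * (q ^ 2 - 1)) : NotMin l ↥(twistedE6 K q) := by
  obtain ⟨k, _, _, ι, hk, hι⟩ := Cfsg.Agent.H343.exists_subfield K hq two_ne_zero hK
  have hD : InList chevE6 := by simp
  obtain ⟨ψ, -, hψ⟩ := Cfsg.Agent.S1030.result (F := K) chevE6 hD e6p2 (by decide +kernel)
  have hneg : chevE6.neg e6p2 = e6m2 := by decide +kernel
  let m : Matrix.SpecialLinearGroup (Fin 2) k →* Matrix.SpecialLinearGroup (Fin 2) K :=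
    Matrix.SpecialLinearGroup.map ι
  have hup : ∀ t : k, m (Cfsg.Agent.H135.TorusTab.up k t) = Cfsg.Agent.H135.TorusTab.up K (ι t) := by
    intro t
    apply Subtype.ext
    ext i j
    show ι (!![1, t; 0, 1] i j) = !![1, ι t; 0, 1] i j
    (revert i j; simp only [_root_.Fin.forall_fin_succ, _root_.Matrix.of_apply, _root_.Matrix.cons_val', _root_.Matrix.cons_val_fin_one, Fin.isValue, _root_.Matrix.cons_val_zero, _root_.Matrix.cons_val_succ, _root_.forall_const, _root_.map_one, _root_.and_self, _root_.map_zero, _root_.implies_true])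
  have hlo : ∀ t : k, m (Cfsg.Agent.H135.TorusTab.lo k t) = Cfsg.Agent.H135.TorusTab.lo K (ι t) := by
    intro t
    apply Subtype.ext
    ext i j
    show ι (!![1, 0; t, 1] i j) = !![1, 0; ι t, 1] i j
    (revert i j; simp only [_root_.Fin.forall_fin_succ, _root_.Matrix.of_apply, _root_.Matrix.cons_val', _root_.Matrix.cons_val_fin_one, Fin.isValue, _root_.Matrix.cons_val_zero, _root_.Matrix.cons_val_succ, _root_.forall_const, _root_.map_one, _root_.map_zero, _root_.and_self, _root_.implies_true])
  have key : ∀ r ∈ [e6p2, e6m2, e6p4, e6m4], ∀ t : K, t ^ q = t → ∀ g : GL chevE6.Idx K,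
      (g : Matrix chevE6.Idx chevE6.Idx K) = chevE6.x K r t → g ∈ twistedE6 K q := by
    intro r hr t ht g hg
    refine Subgroup.subset_closure ⟨[(r, t)], Or.inl ⟨t, ht, r, hr, rfl⟩, ?_⟩
    rw [wordMat_cons, wordMat_nil, mul_one, hg]
  have hmem : ∀ A, ψ (m A) ∈ twistedE6 K q := by
    intro A
    refine sl2_induction ((twistedE6 K q).comap (ψ.comp m)) (fun t => ?_) (fun t => ?_) A
    · rw [Subgroup.mem_comap, MonoidHom.comp_apply, hup]
      exact key e6p2 (by simp) (ι t) (hι t) _ ((hψ _ _).1 rfl)
    · rw [Subgroup.mem_comap, MonoidHom.comp_apply, hlo]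
      exact key e6m2 (by simp) (ι t) (hι t) _ (by rw [← hneg]; exact (hψ _ _).2 rfl)
  refine notMin_of_sl2 (K := k) (by omega) ((ψ.comp m).codRestrict (twistedE6 K q) hmem) ?_
    (by rw [card_SL2, hk]; exact card_twE6_gt hq hK) hl hl2 (by rwa [card_SL2, hk])
  refine ⟨Cfsg.Agent.H135.TorusTab.up k 1, fun h3 => ?_⟩
  have h4 : ψ (m (Cfsg.Agent.H135.TorusTab.up k 1)) = 1 := congrArg Subtype.val h3
  rw [hup] at h4
  have h5 := (hψ (Cfsg.Agent.H135.TorusTab.up K (ι 1)) (ι 1)).1 rfl
  rw [h4, Units.val_one] at h5
  have h6 := (x_eq_one_iff hD (by decide +kernel) (ι 1 : K)).1 h5.symm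
  rw [map_one] at h6
  exact one_ne_zero h6

/-- the primes dividing the order of `F₄(q)`, `q` even -/
theorem notMin_of_F4 [CharP K 2] {q : ℕ} (hq : IsPrimePow q) (hK : Fintype.card K = q ^ 2) {l : ℕ} (hl : l.Prime)
    (hd : l ∣ q ^ 24 * (q ^ 2 - 1) * (q ^ 6 - 1) * (q ^ 8 - 1) * (q ^ 12 - 1)) : NotMin l ↥(twistedE6 K q) := by
  have : Fact l.Prime := ⟨hl⟩
  obtain ⟨k, _, _, f, hk, hf⟩ := Cfsg.Agent.H631.Fpf.EmbF4.exists_F4_hom hq hK
  obtain ⟨hs, hna⟩ := Cfsg.Agent.S1054.result (F := k) chevF4 (by simp)
  have hc := Cfsg.Agent.S1062.result (F := k) hk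
  have hna' : ∃ x y : ↥(chevF4.group k), x * y ≠ y * x := by
    by_contra hcon
    push Not at hcon
    exact hna ⟨⟨hcon⟩⟩
  refine NotMin.of_injective f hf (Cfsg.Agent.H562.PQR.not_isPSolvable_of_simple hna' hl (by rwa [hc])) ?_
  rw [hc]
  have h1 := Cfsg.Agent.S1066.result hq hK
  have h3 : Nat.gcd 3 (q + 1) ≤ 3 := Nat.gcd_le_left _ (by norm_num)
  have h2 : 2 ≤ q := hq.two_le
  have hA : 0 < q ^ 24 * (q ^ 2 - 1) * (q ^ 6 - 1) * (q ^ 8 - 1) * (q ^ 12 - 1) := by
    rw [← hc]; exact Nat.card_pos
  have h4 : q ^ 36 * (q ^ 2 - 1) * (q ^ 5 + 1) * (q ^ 6 - 1) * (q ^ 8 - 1) * (q ^ 9 + 1) * (q ^ 12 - 1) =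
      (q ^ 12 * (q ^ 5 + 1) * (q ^ 9 + 1)) * (q ^ 24 * (q ^ 2 - 1) * (q ^ 6 - 1) * (q ^ 8 - 1) * (q ^ 12 - 1)) := by
    ring
  rw [h4] at h1
  generalize q ^ 24 * (q ^ 2 - 1) * (q ^ 6 - 1) * (q ^ 8 - 1) * (q ^ 12 - 1) = A at h1 hA ⊢
  have h5 : 4 ≤ q ^ 12 * (q ^ 5 + 1) * (q ^ 9 + 1) := by
    have h6 : 2 ^ 12 ≤ q ^ 12 := Nat.pow_le_pow_left h2 12
    calc 4 ≤ 2 ^ 12 * 1 * 1 := by norm_num
      _ ≤ q ^ 12 * (q ^ 5 + 1) * (q ^ 9 + 1) :=
        Nat.mul_le_mul (Nat.mul_le_mul h6 (Nat.le_add_left 1 _)) (Nat.le_add_left 1 _)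
  have h6 : 4 * A ≤ q ^ 12 * (q ^ 5 + 1) * (q ^ 9 + 1) * A := Nat.mul_le_mul_right A h5
  have h7 : Nat.gcd 3 (q + 1) * Nat.card ↥(twistedE6 K q) ≤ 3 * Nat.card ↥(twistedE6 K q) :=
    Nat.mul_le_mul_right _ h3
  omega

open Cfsg.Agent.Nodes.RGDTwE6 Cfsg.Agent.Nodes.RGDTwCoordE6 Cfsg.Agent.Nodes.RGDTwCoord
  Cfsg.Agent.Nodes.RGDTwComE6 Cfsg.Agent.Nodes.RGDTwActE6 Cfsg.Agent.Nodes.RGDTwTab
  Cfsg.Agent.KFacts.TwESix.Comb

/-- **The parabolic lemma for `²E₆(q)`** -/
theorem par_2E6 {q : ℕ} (hq : IsPrimePow q) (hK : Fintype.card K = q ^ 2) {p : ℕ} [CharP K p] {l : ℕ} (hl : l.Prime)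
    (hl2 : l ≠ 2) {V : Subgroup ↥(twistedE6 K q)} (hV : IsPGroup p V) (hV1 : V ≠ ⊥)
    (hd : l ∣ Nat.card (Subgroup.normalizer (V : Set ↥(twistedE6 K q)))) : NotMin l ↥(twistedE6 K q) := by
  have : Fact p.Prime := ⟨CharP.char_is_prime K p⟩
  obtain ⟨φ, hφ, hqq⟩ := ChevalleyStructure.TwE6Basic.exists_frob hq hK
  have hfin : Finite ↥(twistedE6 K q) := inferInstance
  have hW : Finite CoxeterMatrix.F₄.Group := finiteW CoxeterMatrix.F₄.toCoxeterSystem
  have R := RGDTwE6.rgd CoxeterMatrix.F₄.toCoxeterSystem hφ hqq p
  have hF := KFacts.RgdFiltTwAll.filt_fold CoxeterMatrix.F₄.toCoxeterSystem RGDTwE6.isCartan RGDTwE6.foldData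
      (RGDTwE6.foldGrp hφ hqq) p
  have hG := RGDTwE6.G1_eq_top CoxeterMatrix.F₄.toCoxeterSystem hφ hqq
  by_cases hT : l ∣ Nat.card (RGDTwE6.T K q)
  · have h1 : l ∣ q ^ 2 - 1 := by
      rw [← hK]
      refine dvd_of_exp hl ?_ hT
      intro t ht
      apply Subtype.ext
      rw [SubgroupClass.coe_pow]
      exact diag_pow RGDTwE6.hp K ht.1
    by_cases hp2 : p = 2
    · subst hp2
      refine notMin_of_F4 hq hK hl ?_
      exact Dvd.dvd.mul_right (Dvd.dvd.mul_right (Dvd.dvd.mul_right (Dvd.dvd.mul_left h1 _) _) _) _
    · refine notMin_twE6 hq hK ?_ hl hl2 (Dvd.dvd.mul_left h1 _)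
      by_contra hle
      have h2 : q = 2 ∨ q = 3 := by
        have := hq.two_le
        omega
      rcases h2 with rfl | rfl
      · apply hp2
        obtain ⟨n, hn, hc⟩ := FiniteField.card K p
        rw [hK] at hc
        have h3 : p ∣ 2 ^ 2 := by
          rw [hc]
          exact dvd_pow_self p n.ne_zero
        exact (Nat.prime_dvd_prime_iff_eq hn Nat.prime_two).1 (hn.dvd_of_dvd_pow h3)
      · have h3 : l ∣ 2 ^ 3 := by
          norm_num at h1 ⊢
          exact h1
        exact hl2 ((Nat.prime_dvd_prime_iff_eq hl Nat.prime_two).1 (hl.dvd_of_dvd_pow h3))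
  · exact notMin_of_rgd R hF hG Cfsg.Agent.H155.TG.conn_F4 (by norm_num) hl (Or.inr hT) hV hV1 hd

end TwE6

end Cfsg.Agent.H274.Pqr
end

-- part: H934/PQR/Final
section
/-!
# S3988: the rows `F₄(q)`, `E₇(q)`, `E₈(q)`, `E₆(q)`, `²E₆(q)` (helper934), with the parabolic lemma of helper274
-/

set_option autoImplicit false

namespace Cfsg.Agent.H934.PQR

open Cfsg Cfsg.Lie Subgroup Cfsg.Agent.H562.PQR

universe v

theorem par_f4 (F : Type) [Field F] [Fintype F] (r : ℕ) [CharP F r] : Par r ↥(chevF4.group F) :=
  fun _ hp hp2 _ hV1 hV hd => Cfsg.Agent.H274.Pqr.par_F4 hp hp2 hV hV1 hd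

theorem par_e6 (F : Type) [Field F] [Fintype F] (r : ℕ) [CharP F r] : Par r ↥(chevE6.group F) :=
  fun _ hp hp2 _ hV1 hV hd => Cfsg.Agent.H274.Pqr.par_E6 hp hp2 hV hV1 hd

theorem par_e7 (F : Type) [Field F] [Fintype F] (r : ℕ) [CharP F r] : Par r ↥(chevE7.group F) :=
  fun _ hp hp2 _ hV1 hV hd => Cfsg.Agent.H274.Pqr.par_E7 hp hp2 hV hV1 hd

theorem par_e8 (F : Type) [Field F] [Fintype F] (r : ℕ) [CharP F r] : Par r ↥(chevE8.group F) :=
  fun _ hp hp2 _ hV1 hV hd => Cfsg.Agent.H274.Pqr.par_E8 hp hp2 hV hV1 hd

theorem par_te6 (K : Type) [Field K] [Fintype K] (r q : ℕ) [CharP K r] (hq : IsPrimePow q)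
    (hK : Fintype.card K = q ^ 2) : Par r ↥(twistedE6 K q) :=
  fun _ hp hp2 _ hV1 hV hd => Cfsg.Agent.H274.Pqr.par_2E6 hq hK hp hp2 hV hV1 hd

/-- **The row `E₈(q)`.** -/
theorem row_E8 {S : Type v} [Group S] (h : IsoE8 S) : RowOdd S := row_E8_of par_e8 h

/-- **The row `E₇(q)`.** -/
theorem row_E7 {S : Type v} [Group S] (h : IsoE7 S) : RowOdd S := row_E7_of par_e7 h

/-- **The row `F₄(q)`.** -/
theorem row_F4 {S : Type v} [Group S] (h : IsoF4 S) : RowOdd S := row_F4_of par_f4 h

/-- **The row `E₆(q)`**, from triples for the regular primes if `3 ∣ q - 1`. -/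
theorem row_E6_of' (hX : ∀ (F : Type) [Field F] [Fintype F] (r : ℕ) [CharP F r], 3 ∣ Fintype.card F - 1 →
      ∀ p : ℕ, p.Prime → p ≠ 2 → p ≠ 3 → p ≠ r → Reg r p ↥(chevE6.group F) → Trip p ↥(chevE6.group F))
    {S : Type v} [Group S] (h : IsoChevE6 S) : RowOdd S := row_E6_of par_e6 hX h

/-- **The row `²E₆(q)`**, from triples for the regular primes if `3 ∣ q + 1`. -/
theorem row_2E6_of' (hX : ∀ (K : Type) [Field K] [Fintype K] (r q : ℕ) [CharP K r], IsPrimePow q →
      Fintype.card K = q ^ 2 → 3 ∣ q + 1 → ∀ p : ℕ, p.Prime → p ≠ 2 → p ≠ 3 → p ≠ r → Reg r p ↥(twistedE6 K q) →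
      Trip p ↥(twistedE6 K q))
    {S : Type v} [Group S] (h : Iso2E6 S) : RowOdd S := row_2E6_of par_te6 hX h

end Cfsg.Agent.H934.PQR
end

-- part: H934/PQR/Cov
section
/-!
# S3988: triples in the covers of order three (helper934)

* `exists_map` : a cover with kernel of order `3` maps onto the covers whose kernel is a `3`-group, `9 ∤ m`;
* `trip_three` : a triple `(p, b, 2)` lifting to the covers by `3`-groups, from Gow's theorem for covers (helper330).
-/

set_option autoImplicit false

namespace Cfsg.Agent.H934.PQR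

open Cfsg Subgroup Cfsg.Agent.H562.PQR Cfsg.Agent.H330.GowCover
open Cfsg.Agent.H80.Fpf (MultDvd IsCover map_commutator_of_surj perf_commutator)

universe v

/-- a cover of `S` by a group of order `3` maps onto the covers by `3`-groups -/
theorem exists_map {S : Type v} [Group S] [Finite S] {m : ℕ} (hm : MultDvd S m) (h9 : ¬ 9 ∣ m)
    {U : Type} [Group U] [Finite U] {υ : U →* S} (hυ : IsCover υ) (hcard : Nat.card υ.ker = 3)
    {G : Type} [Group G] [Finite G] {π : G →* S} (hπ : IsCover π) (hp : IsPGroup 3 π.ker) :
    ∃ θ : U →* G, Function.Surjective θ ∧ ∀ u, π (θ u) = υ u := by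
  have : Fact (Nat.Prime 3) := ⟨Nat.prime_three⟩
  let P : Subgroup (U × G) := (υ.comp (MonoidHom.fst U G)).eqLocus (π.comp (MonoidHom.snd U G))
  have hP : ∀ p : P, υ (p : U × G).1 = π (p : U × G).2 := fun p => p.2
  let f : P →* S := (υ.comp (MonoidHom.fst U G)).comp P.subtype
  have hfs : Function.Surjective f := by
    intro s
    obtain ⟨u, hu⟩ := hυ.surj s
    obtain ⟨g, hg⟩ := hπ.surj s
    exact ⟨⟨(u, g), hu.trans hg.symm⟩, hu⟩
  have hfc : f.ker ≤ Subgroup.center P := by
    intro z hz
    have h1 : υ (z : U × G).1 = 1 := hz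
    have h2 : π (z : U × G).2 = 1 := by rw [← hP]; exact h1
    have h3 := hυ.central ((MonoidHom.mem_ker).2 h1)
    have h4 := hπ.central ((MonoidHom.mem_ker).2 h2)
    rw [Subgroup.mem_center_iff]
    intro p
    apply Subtype.ext
    exact Prod.ext (Subgroup.mem_center_iff.1 h3 _) (Subgroup.mem_center_iff.1 h4 _)
  have hfp : IsPGroup 3 f.ker := by
    intro z
    have h1 : υ ((z : P) : U × G).1 = 1 := z.2
    have h2 : π ((z : P) : U × G).2 = 1 := by rw [← hP]; exact h1
    obtain ⟨i, hi⟩ := (IsPGroup.of_card (p := 3) (n := 1) (by rw [hcard, pow_one])) (⟨_, h1⟩ : υ.ker)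
    obtain ⟨j, hj⟩ := hp (⟨_, h2⟩ : π.ker)
    refine ⟨i + j, ?_⟩
    have h5 : (((z : P) : U × G).1) ^ 3 ^ i = 1 := congrArg Subtype.val hi
    have h6 : (((z : P) : U × G).2) ^ 3 ^ j = 1 := congrArg Subtype.val hj
    apply Subtype.ext
    apply Subtype.ext
    apply Prod.ext
    · change (((z : P) : U × G).1) ^ 3 ^ (i + j) = 1
      rw [pow_add, pow_mul, h5, one_pow]
    · change (((z : P) : U × G).2) ^ 3 ^ (i + j) = 1
      rw [add_comm, pow_add, pow_mul, h6, one_pow]
  have hSp : commutator S = ⊤ := by
    rw [← map_commutator_of_surj hυ.surj, hυ.perf, ← MonoidHom.range_eq_map]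
    exact MonoidHom.range_eq_top.2 hυ.surj
  obtain ⟨h1, h2⟩ := perf_commutator hfs hfc hSp
  let E := commutator P
  let e : E →* S := f.comp E.subtype
  have hE : IsCover e := by
    refine ⟨?_, ?_, h1⟩
    · intro k
      have h3 : k ∈ (commutator P).map f := by rw [h2]; trivial
      obtain ⟨m, hm, rfl⟩ := h3
      exact ⟨⟨m, hm⟩, rfl⟩
    · intro z hz
      rw [Subgroup.mem_center_iff]
      intro y
      apply Subtype.ext
      exact Subgroup.mem_center_iff.1 (hfc (show (z : P) ∈ f.ker from hz)) y
  have hEp : IsPGroup 3 e.ker := by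
    intro z
    obtain ⟨k, hk⟩ := hfp ⟨((z : E) : P), z.2⟩
    refine ⟨k, ?_⟩
    have h3 : ((z : E) : P) ^ 3 ^ k = 1 := congrArg Subtype.val hk
    apply Subtype.ext
    apply Subtype.ext
    exact h3
  have hEc : Nat.card e.ker ≤ 3 := by
    obtain ⟨k, hk⟩ := IsPGroup.iff_card.1 hEp
    have h3 := hm E e hE
    rw [hk] at h3 ⊢
    rcases k with _ | _ | k
    · norm_num
    · norm_num
    · exfalso
      apply h9
      exact (Dvd.intro_left (3 ^ k) (by rw [pow_add, pow_add]; ring)).trans h3
  -- projections
  let p₁ : P →* U := (MonoidHom.fst U G).comp P.subtype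
  let p₂ : P →* G := (MonoidHom.snd U G).comp P.subtype
  have hp₁ : Function.Surjective p₁ := by
    intro u
    obtain ⟨g, hg⟩ := hπ.surj (υ u)
    exact ⟨⟨(u, g), hg.symm⟩, rfl⟩
  have hp₂ : Function.Surjective p₂ := by
    intro g
    obtain ⟨u, hu⟩ := hυ.surj (π g)
    exact ⟨⟨(u, g), hu⟩, rfl⟩
  let q₁ : E →* U := p₁.comp E.subtype
  let q₂ : E →* G := p₂.comp E.subtype
  have hq₁ : Function.Surjective q₁ := by
    intro u
    have h3 : u ∈ (commutator P).map p₁ := by rw [map_commutator_of_surj hp₁, hυ.perf]; trivial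
    obtain ⟨m, hm, rfl⟩ := h3
    exact ⟨⟨m, hm⟩, rfl⟩
  have hq₂ : Function.Surjective q₂ := by
    intro u
    have h3 : u ∈ (commutator P).map p₂ := by rw [map_commutator_of_surj hp₂, hπ.perf]; trivial
    obtain ⟨m, hm, rfl⟩ := h3
    exact ⟨⟨m, hm⟩, rfl⟩
  have hcardE : Nat.card E ≤ Nat.card U := by
    have h3 : Nat.card e.ker ≤ Nat.card υ.ker := by rw [hcard]; exact hEc
    have h4 := Subgroup.card_eq_card_quotient_mul_card_subgroup e.ker
    have h5 := Subgroup.card_eq_card_quotient_mul_card_subgroup υ.ker
    rw [Nat.card_congr (QuotientGroup.quotientKerEquivOfSurjective e hE.surj).toEquiv] at h4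
    rw [Nat.card_congr (QuotientGroup.quotientKerEquivOfSurjective υ hυ.surj).toEquiv] at h5
    rw [h4, h5]
    exact Nat.mul_le_mul_left _ h3
  have hbij : Function.Bijective q₁ := by
    have h3 : Nat.card U ≤ Nat.card E := Nat.card_le_card_of_surjective q₁ hq₁
    exact (Nat.bijective_iff_surjective_and_card q₁).2 ⟨hq₁, le_antisymm hcardE h3⟩
  let ε : E ≃* U := MulEquiv.ofBijective q₁ hbij
  refine ⟨q₂.comp ε.symm.toMonoidHom, hq₂.comp ε.symm.surjective, fun u => ?_⟩
  have h3 : q₁ (ε.symm u) = u := ε.apply_symm_apply u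
  have h4 : υ (q₁ (ε.symm u)) = π (q₂ (ε.symm u)) := hP (ε.symm u : E)
  rw [h3] at h4
  exact h4.symm

/-- an element of prime order `t ≠ 3` lifts to one of the same order -/
theorem exists_lift {S : Type v} [Group S] {U : Type} [Group U] [Finite U] {υ : U →* S} (hs : Function.Surjective υ)
    (hcard : Nat.card υ.ker = 3) {t : ℕ} (ht : t.Prime) (ht3 : t ≠ 3) {x : S} (hx : orderOf x = t) :
    ∃ u : U, υ u = x ∧ orderOf u = t := by
  obtain ⟨g, rfl⟩ := hs x
  have h1 : g ^ (t * 3) = 1 := by
    have h2 : g ^ t ∈ υ.ker := by rw [MonoidHom.mem_ker, map_pow, ← hx, pow_orderOf_eq_one]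
    have h3 : (⟨g ^ t, h2⟩ : υ.ker) ^ 3 = 1 := by rw [← hcard]; exact pow_card_eq_one'
    rw [pow_mul]
    exact congrArg Subtype.val h3
  have hcop : Nat.Coprime t 3 := (Nat.coprime_primes ht Nat.prime_three).2 ht3
  obtain ⟨k, hk1, hk2⟩ := Nat.chineseRemainder hcop 1 0
  have h2 : υ (g ^ k) = υ g := by
    rw [map_pow]
    have h3 : υ g ^ k = υ g ^ 1 := pow_eq_pow_iff_modEq.2 (by rw [hx]; exact hk1)
    rw [h3, pow_one]
  refine ⟨g ^ k, h2, ?_⟩
  have h3 : (g ^ k) ^ t = 1 := by
    obtain ⟨j, rfl⟩ := (Nat.modEq_zero_iff_dvd.1 hk2)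
    rw [← pow_mul, show 3 * j * t = t * 3 * j by ring, pow_mul, h1, one_pow]
  rcases (Nat.dvd_prime ht).1 (orderOf_dvd_of_pow_eq_one h3) with h4 | h4
  · exfalso
    rw [orderOf_eq_one_iff] at h4
    rw [h4, map_one] at h2
    rw [← h2, orderOf_one] at hx
    exact ht.one_lt.ne hx
  · exact h4

/-- an element `≠ 1` of the centre of a Sylow `2`-subgroup -/
theorem exists_central_two {U : Type*} [Group U] [Finite U] (h2 : 2 ∣ Nat.card U) :
    ∃ z : U, z ≠ 1 ∧ (∃ k, orderOf z = 2 ^ k) ∧ ¬ 2 ∣ (centralizer ({z} : Set U)).index := by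
  have f2 : Fact (Nat.Prime 2) := ⟨Nat.prime_two⟩
  obtain ⟨P⟩ : Nonempty (Sylow 2 U) := inferInstance
  have hP : (P : Subgroup U) ≠ ⊥ := P.ne_bot_of_dvd_card h2
  have : Nontrivial (P : Subgroup U) := (Subgroup.nontrivial_iff_ne_bot _).2 hP
  have hPp : IsPGroup 2 (P : Subgroup U) := P.isPGroup'
  have : Nontrivial (center (P : Subgroup U)) := hPp.center_nontrivial
  obtain ⟨⟨z, hz⟩, hz1⟩ := exists_ne (1 : center (P : Subgroup U))
  have hz2 : z ≠ 1 := fun h => hz1 (Subtype.ext h)
  refine ⟨(z : U), fun h => hz2 (Subtype.ext h), ?_, fun hd => ?_⟩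
  · obtain ⟨k, hk⟩ := IsPGroup.iff_orderOf.1 hPp z
    exact ⟨k, by rw [Subgroup.orderOf_coe, hk]⟩
  · have h1 : (P : Subgroup U) ≤ centralizer ({(z : U)} : Set U) := by
      intro g hg
      rw [mem_centralizer_singleton_iff]
      exact congrArg Subtype.val (mem_center_iff.1 hz ⟨g, hg⟩)
    have h3 : (centralizer ({(z : U)} : Set U)).index ∣ (P : Subgroup U).index := Subgroup.index_dvd_of_le h1
    exact P.not_dvd_index (hd.trans h3)

/-- **a triple `(p, b, 2)` lifting to the covers by `3`-groups** -/
theorem trip_three {S : Type v} [Group S] [Finite S] [IsSimpleGroup S] {r p b : ℕ} (hr : r.Prime) (hr3 : r ≠ 3)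
    (hS : IsLieTypeChar r S) (hp : p.Prime) (hb : b.Prime) (hp2 : p ≠ 2) (hb2 : b ≠ 2) (hp3 : p ≠ 3) (hb3 : b ≠ 3)
    (hpb : p ≠ b) (h2 : 2 ∣ Nat.card S) (hx : Reg r p S) (hy : Reg r b S) {m : ℕ} (hm0 : m ≠ 0) (h9 : ¬ 9 ∣ m)
    (hm : MultDvd S m) (hm' : ∀ s : ℕ, s.Prime → s ∣ m → s = 2 ∨ s = 3)
    (hT : ∀ (Γ : Type) [Group Γ] [Finite Γ] (π : Γ →* S), IsCover π → Nat.card π.ker = 3 → TorAb r π) : Trip p S := by
  have : Fact r.Prime := ⟨hr⟩
  have f3 : Fact (Nat.Prime 3) := ⟨Nat.prime_three⟩
  have hL := Cfsg.Agent.H330.Gow.locChar_of_lie (p := r) hS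
  obtain ⟨x, hx, hxc⟩ := hx
  obtain ⟨y, hy, hyc⟩ := hy
  have hx1 := PE.of_orderOf hp hx
  have hy1 := PE.of_orderOf hb hy
  have hkc : ∀ (Γ : Type) [Group Γ] [Finite Γ] (π : Γ →* S), IsCover π → IsPGroup 3 π.ker →
      Nat.card π.ker = 1 ∨ Nat.card π.ker = 3 := by
    intro Γ _ _ π hπ h3
    obtain ⟨k, hk⟩ := IsPGroup.iff_card.1 h3
    have h4 := hm Γ π hπ
    rw [hk] at h4 ⊢
    rcases k with _ | _ | k
    · left; norm_num
    · right; norm_num
    · exfalso
      apply h9
      exact (Dvd.intro_left (3 ^ k) (by rw [pow_add, pow_add]; ring)).trans h4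
  -- the triple, with the lifting for `3`
  obtain ⟨x', y', z', h3, h4, h5, h6, h7⟩ : ∃ x y z : S, PE p x ∧ PE b y ∧ PE 2 z ∧ x * y * z = 1 ∧ CLift 3 x y z := by
    by_cases hcov : ∃ (Γ : Type) (_ : Group Γ) (_ : Finite Γ) (π : Γ →* S), IsCover π ∧ Nat.card π.ker = 3
    · obtain ⟨U, _, _, υ, hυ, hcard⟩ := hcov
      have hk : ¬ r ∣ Nat.card υ.ker := by
        rw [hcard]
        exact fun h => hr3 ((Nat.prime_dvd_prime_iff_eq hr Nat.prime_three).1 h)
      have hTU := hT U υ hυ hcard
      obtain ⟨u, rfl, hu⟩ := exists_lift hυ.surj hcard hp hp3 hx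
      obtain ⟨v, rfl, hv⟩ := exists_lift hυ.surj hcard hb hb3 hy
      have huc := not_dvd_cent hk hxc
      have hvc := not_dvd_cent hk hyc
      have hxy : ¬ IsConj u v⁻¹ := by
        intro h
        obtain ⟨c, hc⟩ := isConj_iff.1 h
        have h1 := (MulAut.conj c).orderOf_eq u
        rw [MulAut.conj_apply, hc, hu, orderOf_inv, hv] at h1
        exact hpb h1.symm
      obtain ⟨z, hz, hzo, g, h, hgh⟩ : ∃ z : U, υ z ≠ 1 ∧ (∃ k, orderOf z = 2 ^ k) ∧
          ∃ g h : U, g * u * g⁻¹ * (h * v * h⁻¹) = z := by
        by_cases hr2 : r = 2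
        · subst hr2
          have h2U : 2 ∣ Nat.card U := h2.trans (Subgroup.card_dvd_of_surjective υ hυ.surj)
          obtain ⟨z, hz1, hzo, hzc⟩ := exists_central_two h2U
          refine ⟨z, fun hz => hz1 ?_, hzo, gow_cover_root hυ hk hTU hL huc hvc hxy hzo hz1 hzc⟩
          obtain ⟨k, hk'⟩ := hzo
          have h5 : z ^ 3 = 1 := by
            have h6 : (⟨z, hz⟩ : υ.ker) ^ 3 = 1 := by rw [← hcard]; exact pow_card_eq_one'
            exact congrArg Subtype.val h6
          have h6 : z ^ 2 ^ k = 1 := by rw [← hk']; exact pow_orderOf_eq_one z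
          have h7 := Nat.dvd_gcd (orderOf_dvd_of_pow_eq_one h5) (orderOf_dvd_of_pow_eq_one h6)
          rw [Nat.Coprime.pow_right k (show Nat.Coprime 3 2 by norm_num)] at h7
          exact orderOf_eq_one_iff.1 (Nat.dvd_one.1 h7)
        · obtain ⟨t, ht⟩ := exists_prime_orderOf_dvd_card' (G := S) 2 h2
          obtain ⟨z, hz, hzo⟩ := exists_lift hυ.surj hcard Nat.prime_two (by norm_num) ht
          have ht1 : t ≠ 1 := by
            rintro rfl
            rw [orderOf_one] at ht
            norm_num at ht
          refine ⟨z, by rw [hz]; exact ht1, ⟨1, by rw [hzo, pow_one]⟩,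
            gow_cover_reg hυ hk hTU hL huc hvc (fun hzc => ht1 ?_) (by
              rw [hzo]
              exact fun h => hr2 ((Nat.prime_dvd_prime_iff_eq hr Nat.prime_two).1 h))⟩
          have hc : center S = ⊥ := by
            rcases (inferInstance : (center S).Normal).eq_bot_or_eq_top with h | h
            · exact h
            · exfalso
              have hSp : commutator S = ⊤ := by
                rw [← map_commutator_of_surj hυ.surj, hυ.perf, ← MonoidHom.range_eq_map]
                exact MonoidHom.range_eq_top.2 hυ.surj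
              have h5 : commutator S = ⊥ := by
                rw [commutator_def, Subgroup.commutator_eq_bot_iff_le_centralizer, Subgroup.coe_top, Subgroup.centralizer_univ, h]
              rw [hSp] at h5
              have h6 : t ∈ (⊥ : Subgroup S) := by rw [← h5]; trivial
              exact ht1 (Subgroup.mem_bot.1 h6)
          have h5 : t ∈ center S := by
            rw [← hz, mem_center_iff]
            intro g
            obtain ⟨g', rfl⟩ := hυ.surj g
            rw [← map_mul, ← map_mul, mem_center_iff.1 hzc]
          rw [hc] at h5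
          exact Subgroup.mem_bot.1 h5
      have hz1 : z ≠ 1 := fun h => hz (by rw [h, map_one])
      refine ⟨υ (g * u * g⁻¹), υ (h * v * h⁻¹), υ z⁻¹, ?_, ?_, ?_, ?_, ?_⟩
      · rw [map_mul, map_mul, map_inv]; exact hx1.conj _
      · rw [map_mul, map_mul, map_inv]; exact hy1.conj _
      · rw [map_inv]
        refine PE.inv ⟨hz, ?_⟩
        obtain ⟨k, hk⟩ := hzo
        obtain ⟨j, -, hj⟩ := (Nat.dvd_prime_pow Nat.prime_two).1 (hk ▸ orderOf_map_dvd υ z)
        exact ⟨j, hj⟩
      · rw [← map_mul, ← map_mul, hgh, mul_inv_cancel, map_one]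
      · intro Γ _ _ π hπ h3π
        obtain ⟨θ, -, hθ⟩ := exists_map hm h9 hυ hcard hπ h3π
        have hpe : PE p (g * u * g⁻¹) := (PE.of_orderOf hp hu).conj g
        have hpv : PE b (h * v * h⁻¹) := (PE.of_orderOf hb hv).conj h
        have hpz : PE 2 z⁻¹ := PE.inv ⟨hz1, hzo⟩
        refine ⟨θ _, θ _, θ _, hθ _, hθ _, hθ _, ?_, ?_, ?_, ?_⟩
        · rw [← map_mul, ← map_mul, hgh, mul_inv_cancel, map_one]
        · exact fun h1 => hpe.not_dvd hp Nat.prime_three (fun h => hp3 h.symm) (h1.trans (orderOf_map_dvd θ _))
        · exact fun h1 => hpv.not_dvd hb Nat.prime_three (fun h => hb3 h.symm) (h1.trans (orderOf_map_dvd θ _))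
        · exact fun h1 => hpz.not_dvd Nat.prime_two Nat.prime_three (by norm_num) (h1.trans (orderOf_map_dvd θ _))
    · obtain ⟨x', y', z', h3, h4, h5, h6⟩ : ∃ x y z : S, PE p x ∧ PE b y ∧ PE 2 z ∧ x * y * z = 1 := by
        by_cases hr2 : r = 2
        · subst hr2
          exact tri_char hr hS hp hb hpb hx1 hy1 hxc hyc
        · exact tri_reg hr hS Nat.prime_two (fun h => hr2 h.symm) h2 hx1 hy1 hxc hyc
      refine ⟨x', y', z', h3, h4, h5, h6, ?_⟩
      intro Γ _ _ π hπ h3π
      have h1 : Nat.card π.ker = 1 := (hkc Γ π hπ h3π).resolve_right fun h => hcov ⟨Γ, inferInstance, inferInstance, π, hπ, h⟩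
      have hinj : Function.Injective π := (MonoidHom.ker_eq_bot_iff π).1 ((Subgroup.card_eq_one).1 h1)
      let e : Γ ≃* S := MulEquiv.ofBijective π ⟨hinj, hπ.surj⟩
      refine ⟨e.symm x', e.symm y', e.symm z', e.apply_symm_apply _, e.apply_symm_apply _, e.apply_symm_apply _, ?_, ?_,
        ?_, ?_⟩
      · rw [← map_mul, ← map_mul, h6, map_one]
      · rw [e.symm.orderOf_eq]; exact h3.not_dvd hp Nat.prime_three (fun h => hp3 h.symm)
      · rw [e.symm.orderOf_eq]; exact h4.not_dvd hb Nat.prime_three (fun h => hb3 h.symm)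
      · rw [e.symm.orderOf_eq]; exact h5.not_dvd Nat.prime_two Nat.prime_three (by norm_num)
  refine ⟨p, b, 2, Or.inl rfl, Or.inr (Or.inr rfl), hp, hb, Nat.prime_two, hpb, hp2, hb2, x', y', z', h3, h4, h5, h6,
    fun s hs hs2 hsp hsb _ _ => ?_⟩
  by_cases hs3 : s = 3
  · rw [hs3]; exact h7
  · refine CLift.of_mult hs hm (fun h => ?_) h6 (h3.not_dvd hp hs hsp) (h4.not_dvd hb hs hsb)
      (h5.not_dvd Nat.prime_two hs hs2)
    rcases hm' s hs h with h | h
    · exact hs2 h
    · exact hs3 h

end Cfsg.Agent.H934.PQR
end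

-- part: H934/PQR/RowsX
section
/-!
# S3988: the triples of `E₆(q)`, `²E₆(q)` (helper934) if `3` divides the order of the multiplier
-/

set_option autoImplicit false

namespace Cfsg.Agent.H934.PQR

open Cfsg Cfsg.Lie Subgroup Cfsg.Agent.H562.PQR Cfsg.Agent.H129.CycCard Cfsg.Agent.H330.GowCover
open Cfsg.Agent.H80.Fpf (MultDvd IsCover)

/-- `3` does not divide `q⁴ - q² + 1` -/
theorem ne_three_of {q b : ℕ} (d : (b : ℤ) ∣ 1 - (q : ℤ) ^ 2 + (q : ℤ) ^ 4) : b ≠ 3 := by
  rintro rfl
  have h1 := zmod_of (r := 3) (z := 1 - (q : ℤ) ^ 2 + (q : ℤ) ^ 4) d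
  push_cast at h1
  generalize (q : ZMod 3) = x at h1; revert h1; revert x; decide

/-- the two regular primes of `E₆(q)`, both `≠ 3` -/
theorem reg_E6' {F : Type} [Field F] [Fintype F] {r : ℕ} [CharP F r] : ∃ b₁ b₂ : ℕ, b₁.Prime ∧ b₂.Prime ∧ b₁ ≠ 2 ∧
    b₂ ≠ 2 ∧ b₁ ≠ 3 ∧ b₂ ≠ 3 ∧ b₁ ≠ b₂ ∧ Reg r b₁ ↥(chevE6.group F) ∧ Reg r b₂ ↥(chevE6.group F) := by
  have hr : r.Prime := CharP.char_is_prime F r
  obtain ⟨q, hq⟩ : ∃ q, Fintype.card F = q := ⟨_, rfl⟩
  have hq2 : 2 ≤ q := by rw [← hq]; exact Fintype.one_lt_card
  have hrq : r ∣ q := dvd_q hq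
  have hqz : (2 : ℤ) ≤ q := by exact_mod_cast hq2
  obtain ⟨b₁, hb₁, -, d₁, hb₁2, hb₁3, -⟩ := Cfsg.Agent.H129.RealT.exists_prime9 hq2
  obtain ⟨n₂, hn₂, h₂⟩ := exists_nat (z := 1 - (q : ℤ) ^ 2 + (q : ℤ) ^ 4) (by
    have h1 : (4 : ℤ) ≤ (q : ℤ) ^ 2 := by nlinarith only [hq2]
    nlinarith only [h1])
  obtain ⟨b₂, hb₂, hb₂m, hb₂2⟩ := exists_odd_prime h₂ (by
    intro h
    have h1 := zmod_of (r := 2) (z := (n₂ : ℤ)) (Int.natCast_dvd_natCast.2 h)
    rw [hn₂] at h1
    push_cast at h1
    generalize (q : ZMod 2) = x at h1; revert h1; revert x; decide)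
  have d₂ : (b₂ : ℤ) ∣ 1 - (q : ℤ) ^ 2 + (q : ℤ) ^ 4 := by rw [← hn₂]; exact Int.natCast_dvd_natCast.2 hb₂m
  obtain ⟨m₁, hm₁, -⟩ := exists_nat (z := 1 + (q : ℤ) ^ 3 + (q : ℤ) ^ 6) (by
    have h3 : (1 : ℤ) ≤ (q : ℤ) ^ 3 := one_le_pow₀ (by omega)
    have h4 : (1 : ℤ) ≤ (q : ℤ) ^ 6 := one_le_pow₀ (by omega)
    omega)
  obtain ⟨m₂, hm₂, -⟩ := exists_nat (z := (1 - (q : ℤ) ^ 2 + (q : ℤ) ^ 4) * (1 + (q : ℤ) + (q : ℤ) ^ 2)) (by
    have h1 : (4 : ℤ) ≤ (q : ℤ) ^ 2 := by nlinarith only [hq2]
    have h3 : (2 : ℤ) ≤ 1 - (q : ℤ) ^ 2 + (q : ℤ) ^ 4 := by nlinarith only [h1]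
    nlinarith only [h3])
  exact ⟨b₁, b₂, hb₁, hb₂, hb₁2, hb₂2, hb₁3, ne_three_of d₂,
    ne_of_bez hb₁ (u := - (q : ℤ) ^ 3) (v := 1 + (q : ℤ) ^ 2 + (q : ℤ) ^ 3 + (q : ℤ) ^ 5) d₁ d₂ (by ring),
    reg_of_cycCard hb₁ (card_E6_9 hq hm₁ hb₁ d₁ hb₁3)
      (not_dvd_of hr hrq (Or.inl rfl) (a := (q : ℤ) ^ 2 + (q : ℤ) ^ 5) (by rw [hm₁]; ring)),
    reg_of_cycCard hb₂ (card_E6_12 hq hm₂ hb₂ d₂)
      (not_dvd_of hr hrq (Or.inl rfl) (a := 1 - (q : ℤ) ^ 2 + (q : ℤ) ^ 4 + (q : ℤ) ^ 5) (by rw [hm₂]; ring))⟩

/-- the two regular primes of `²E₆(q)`, both `≠ 3` -/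
theorem reg_TE6' {K : Type} [Field K] [Fintype K] {r q : ℕ} [CharP K r] (hq : IsPrimePow q)
    (hK : Fintype.card K = q ^ 2) : ∃ b₁ b₂ : ℕ, b₁.Prime ∧ b₂.Prime ∧ b₁ ≠ 2 ∧
    b₂ ≠ 2 ∧ b₁ ≠ 3 ∧ b₂ ≠ 3 ∧ b₁ ≠ b₂ ∧ Reg r b₁ ↥(twistedE6 K q) ∧ Reg r b₂ ↥(twistedE6 K q) := by
  have hr : r.Prime := CharP.char_is_prime K r
  have hq2 : 2 ≤ q := hq.two_le
  have hrq : r ∣ q := hr.dvd_of_dvd_pow (dvd_q hK)
  have hqz : (2 : ℤ) ≤ q := by exact_mod_cast hq2
  obtain ⟨b₁, hb₁, -, d₁, hb₁2, hb₁3, -⟩ := Cfsg.Agent.H129.RealT.exists_prime18 hq2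
  obtain ⟨n₂, hn₂, h₂⟩ := exists_nat (z := 1 - (q : ℤ) ^ 2 + (q : ℤ) ^ 4) (by
    have h1 : (4 : ℤ) ≤ (q : ℤ) ^ 2 := by nlinarith only [hq2]
    nlinarith only [h1])
  obtain ⟨b₂, hb₂, hb₂m, hb₂2⟩ := exists_odd_prime h₂ (by
    intro h
    have h1 := zmod_of (r := 2) (z := (n₂ : ℤ)) (Int.natCast_dvd_natCast.2 h)
    rw [hn₂] at h1
    push_cast at h1
    generalize (q : ZMod 2) = x at h1; revert h1; revert x; decide)
  have d₂ : (b₂ : ℤ) ∣ 1 - (q : ℤ) ^ 2 + (q : ℤ) ^ 4 := by rw [← hn₂]; exact Int.natCast_dvd_natCast.2 hb₂m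
  obtain ⟨m₁, hm₁, -⟩ := exists_nat (z := 1 - (q : ℤ) ^ 3 + (q : ℤ) ^ 6) (by
    have h3 : (8 : ℤ) ≤ (q : ℤ) ^ 3 := by
      have := pow_le_pow_left₀ (by norm_num : (0 : ℤ) ≤ 2) hqz 3
      norm_num at this
      exact this
    have h4 : (q : ℤ) ^ 6 = (q : ℤ) ^ 3 * (q : ℤ) ^ 3 := by ring
    nlinarith only [h3])
  obtain ⟨m₂, hm₂, -⟩ := exists_nat (z := (1 - (q : ℤ) ^ 2 + (q : ℤ) ^ 4) * (1 - (q : ℤ) + (q : ℤ) ^ 2)) (by
    have h1 : (4 : ℤ) ≤ (q : ℤ) ^ 2 := by nlinarith only [hq2]
    have h3 : (2 : ℤ) ≤ 1 - (q : ℤ) ^ 2 + (q : ℤ) ^ 4 := by nlinarith only [h1]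
    have h5 : (1 : ℤ) ≤ 1 - (q : ℤ) + (q : ℤ) ^ 2 := by nlinarith only []
    nlinarith only [h3])
  exact ⟨b₁, b₂, hb₁, hb₂, hb₁2, hb₂2, hb₁3, ne_three_of d₂,
    ne_of_bez hb₁ (u := (q : ℤ) ^ 3) (v := 1 + (q : ℤ) ^ 2 - (q : ℤ) ^ 3 - (q : ℤ) ^ 5) d₁ d₂ (by ring),
    reg_of_cycCard hb₁ (card_tE6_18 hq hK hm₁ hb₁ d₁ hb₁3)
      (not_dvd_of hr hrq (Or.inl rfl) (a := - (q : ℤ) ^ 2 + (q : ℤ) ^ 5) (by rw [hm₁]; ring)),
    reg_of_cycCard hb₂ (card_tE6_12 hq hK hm₂ hb₂ d₂)
      (not_dvd_of hr hrq (Or.inl rfl) (a := -1 + (q : ℤ) ^ 2 - (q : ℤ) ^ 4 + (q : ℤ) ^ 5) (by rw [hm₂]; ring))⟩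

theorem gcd_nine (n : ℕ) : ¬ 9 ∣ Nat.gcd 3 n := by
  intro h
  have := Nat.le_of_dvd (by norm_num) (h.trans (Nat.gcd_dvd_left 3 n))
  omega

/-- the triples of `²E₆(q)`, `3 ∣ q + 1` -/
theorem trip_2E6 (K : Type) [Field K] [Fintype K] (r q : ℕ) [CharP K r] (hq : IsPrimePow q)
    (hK : Fintype.card K = q ^ 2) (h3q : 3 ∣ q + 1) (p : ℕ) (hp : p.Prime) (hp2 : p ≠ 2) (hp3 : p ≠ 3)
    (_ : p ≠ r) (hx : Reg r p ↥(twistedE6 K q)) : Trip p ↥(twistedE6 K q) := by
  have hr : r.Prime := CharP.char_is_prime K r
  have hrq : r ∣ q := hr.dvd_of_dvd_pow (dvd_q hK)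
  have hr3 : r ≠ 3 := by
    rintro rfl
    have := (Nat.dvd_add_right hrq).1 h3q
    omega
  have hs : IsSimpleGroup ↥(twistedE6 K q) := (Cfsg.Agent.S1070.result hq hK).1
  obtain ⟨m, hm0, h9, hm, hm'⟩ : ∃ m : ℕ, m ≠ 0 ∧ ¬ 9 ∣ m ∧ MultDvd ↥(twistedE6 K q) m ∧
      ∀ s : ℕ, s.Prime → s ∣ m → s = 2 ∨ s = 3 := by
    by_cases h2 : q = 2
    · subst h2
      have h0 := Cfsg.Agent.S2109.result (K := K) (by rw [hK]; norm_num)
      have hm := Cfsg.Agent.H80.Fpf.multDvd_of h0
      have hc : Nat.card (Multiplicative (ZMod 3 × ZMod 2 × ZMod 2)) = 12 := by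
        rw [Nat.card_congr Multiplicative.toAdd, Nat.card_prod, Nat.card_prod, Nat.card_zmod, Nat.card_zmod]
      rw [hc] at hm
      refine ⟨12, by norm_num, by norm_num, hm, fun s hs h => ?_⟩
      have h3 : s ∣ 2 * 2 * 3 := by norm_num; exact h
      rcases (Nat.Prime.dvd_mul hs).1 h3 with h4 | h4
      · rcases (Nat.Prime.dvd_mul hs).1 h4 with h5 | h5
        · exact Or.inl ((Nat.prime_dvd_prime_iff_eq hs Nat.prime_two).1 h5)
        · exact Or.inl ((Nat.prime_dvd_prime_iff_eq hs Nat.prime_two).1 h5)
      · exact Or.inr ((Nat.prime_dvd_prime_iff_eq hs Nat.prime_three).1 h4)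
    · exact ⟨Nat.gcd 3 (q + 1), (Nat.gcd_pos_of_pos_left _ (by norm_num)).ne', gcd_nine _,
        Cfsg.Agent.H80.Fpf.multDvd_of_cyclic (Nat.gcd_pos_of_pos_left _ (by norm_num)).ne'
          (Cfsg.Agent.S2108.result hq hK h2), fun s hs h =>
        Or.inr ((Nat.prime_dvd_prime_iff_eq hs Nat.prime_three).1 (h.trans (Nat.gcd_dvd_left _ _)))⟩
  have hT : ∀ (Γ : Type) [Group Γ] [Finite Γ] (π : Γ →* ↥(twistedE6 K q)), IsCover π → Nat.card π.ker = 3 →
      TorAb r π := fun Γ _ _ π hπ h3 => TorTwE6.torAb hq hK hπ (by rw [h3]; decide)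
  obtain ⟨b₁, b₂, hb₁, hb₂, hb₁2, hb₂2, hb₁3, hb₂3, hne, h₁, h₂⟩ := reg_TE6' (r := r) hq hK
  by_cases hpb : p = b₁
  · subst hpb
    exact trip_three hr hr3 (lieType_TE6 hq hK) hp hb₂ hp2 hb₂2 hp3 hb₂3 hne (even_TE6 hq hK) hx h₂ hm0 h9 hm hm' hT
  · exact trip_three hr hr3 (lieType_TE6 hq hK) hp hb₁ hp2 hb₁2 hp3 hb₁3 hpb (even_TE6 hq hK) hx h₁ hm0 h9 hm hm' hT

/-- the triples of `E₆(q)`, `3 ∣ q - 1`, the torus of the triple cover being abelian -/
theorem trip_E6 (F : Type) [Field F] [Fintype F] (r : ℕ) [CharP F r]
    (hT : ∀ (Γ : Type) [Group Γ] [Finite Γ] (π : Γ →* ↥(chevE6.group F)), IsCover π → Nat.card π.ker = 3 →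
      TorAb r π) (h3q : 3 ∣ Fintype.card F - 1) (p : ℕ) (hp : p.Prime) (hp2 : p ≠ 2) (hp3 : p ≠ 3)
    (_ : p ≠ r) (hx : Reg r p ↥(chevE6.group F)) : Trip p ↥(chevE6.group F) := by
  have hr : r.Prime := CharP.char_is_prime F r
  have hrq : r ∣ Fintype.card F := dvd_q rfl
  have hr3 : r ≠ 3 := by
    rintro rfl
    have hq2 : 2 ≤ Fintype.card F := Fintype.one_lt_card
    omega
  have hs : IsSimpleGroup ↥(chevE6.group F) := (Cfsg.Agent.S1054.result (F := F) chevE6 (by simp)).1
  have hm := Cfsg.Agent.H80.Fpf.multDvd_of_cyclic (Nat.gcd_pos_of_pos_left _ (by norm_num)).ne'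
    (Cfsg.Agent.S2105.result (F := F) rfl)
  have hm' : ∀ s : ℕ, s.Prime → s ∣ Nat.gcd 3 (Fintype.card F - 1) → s = 2 ∨ s = 3 := fun s hs h =>
      Or.inr ((Nat.prime_dvd_prime_iff_eq hs Nat.prime_three).1 (h.trans (Nat.gcd_dvd_left _ _)))
  have hm0 : Nat.gcd 3 (Fintype.card F - 1) ≠ 0 := (Nat.gcd_pos_of_pos_left _ (by norm_num)).ne'
  obtain ⟨b₁, b₂, hb₁, hb₂, hb₁2, hb₂2, hb₁3, hb₂3, hne, h₁, h₂⟩ := reg_E6' (F := F) (r := r)
  by_cases hpb : p = b₁
  · subst hpb
    exact trip_three hr hr3 (lieType_E6 r) hp hb₂ hp2 hb₂2 hp3 hb₂3 hne even_E6 hx h₂ hm0 (gcd_nine _) hm hm' hT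
  · exact trip_three hr hr3 (lieType_E6 r) hp hb₁ hp2 hb₁2 hp3 hb₁3 hpb even_E6 hx h₁ hm0 (gcd_nine _) hm hm' hT

end Cfsg.Agent.H934.PQR
end

-- part: H934/PQR/TorChev
section
/-!
# The torus of the Chevalley groups `D.group K` (helper934)

`torAb_E6` : the preimage of the torus in a cover of `E₆(q)` with kernel of odd order is abelian.
-/

set_option autoImplicit false
set_option linter.unusedSectionVars false
set_option maxHeartbeats 400000

namespace Cfsg.Agent.H934.PQR.TorChev

open CoxeterSystem Cfsg.Agent.ChevalleyStructure.CoxeterGeom Cfsg.Agent.Tits.Roots Cfsg.Agent.Tits.Core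
  Cfsg.Agent.Nodes.Reps Cfsg.Agent.Nodes.BNOf
  Cfsg.Agent.Nodes.OppDec Cfsg.Agent.Nodes.RGDChev Cfsg.Agent.KFacts.RgdOpp
  Cfsg.Agent.KFacts.RgdAut Cfsg.Agent.KFacts.RgdDiag Cfsg.Agent.KFacts.RgdRigid
  Cfsg.Agent.KFacts.RgdField Cfsg.Agent.KFacts.RgdTau Cfsg.Agent.KFacts.RgdChevCoord
open Cfsg.Lie Cfsg.Agent.ChevalleyStructure Cfsg.Agent.ChevalleyStructure.Elts
  Cfsg.Agent.ChevalleyStructure.RootVec Cfsg.Agent.ChevalleyStructure.RootVecTab
  Cfsg.Agent.ChevalleyStructure.NPerm Cfsg.Agent.ChevalleyStructure.CoxeterGeomTypes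
open Cfsg.Agent.Nodes.RGDFoldSL (wS hS)
open Cfsg.Agent.ChevalleyStructure.SL2Hom (up lo)
open Cfsg.Agent.H934.PQR.TorGen Cfsg.Agent.H330.GowCover
open Cfsg.Agent.H155.TG (exists_phi sH)

universe u

variable {D : ChevalleyDatum} {l : ℕ} {M : CoxeterMatrix (Fin l)} (hp : IsType D l M) {K : Type u} [Field K]

/-- the homomorphism of the node `i` -/
theorem exists_node (i : Fin l) : ∃ Ψ : Matrix.SpecialLinearGroup (Fin 2) K →* ↥(D.group K),
    Node (TT D K) (nc hp K) (XX D l K) i Ψ := by
  obtain ⟨φ, h1, h2, h3⟩ := exists_phi (K := K) hp i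
  have h1' : ∀ s : K, φ (_root_.Cfsg.Agent.ChevalleyStructure.SL2Hom.up s) = xG hp.inList (D.simple i) s := h1
  have h2' : ∀ s : K, φ (lo s) = xG hp.inList (D.neg (D.simple i)) s := h2
  have hm : ∀ g, φ g ∈ D.group K := by
    intro g
    have h4 : Subgroup.closure (Set.range (_root_.Cfsg.Agent.ChevalleyStructure.SL2Hom.up (F := K)) ∪ Set.range (lo (F := K))) ≤ (D.group K).comap φ := by
      rw [Subgroup.closure_le]
      rintro _ (⟨t, rfl⟩ | ⟨t, rfl⟩)
      · show φ (_root_.Cfsg.Agent.ChevalleyStructure.SL2Hom.up t) ∈ D.group K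
        rw [h1']
        exact xG_mem_group hp.inList _ t
      · show φ (lo t) ∈ D.group K
        rw [h2']
        exact xG_mem_group hp.inList _ t
    exact h4 (SL2Hom.mem_closure_SL2 g)
  refine ⟨φ.codRestrict (D.group K) hm, ⟨fun u => ?_, ?_, fun c => ?_⟩⟩
  · show u ∈ (XV D l K (sr i)).subgroupOf (D.group K) ↔ _
    rw [Subgroup.mem_subgroupOf, XV_sr hp, mem_rootSubgroup_iff hp.inList]
    constructor
    · rintro ⟨t, ht⟩
      refine ⟨t, Subtype.ext ?_⟩
      show _ = φ (_root_.Cfsg.Agent.ChevalleyStructure.SL2Hom.up t)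
      rw [h1']
      exact ht
    · rintro ⟨t, rfl⟩
      exact ⟨t, h1' t⟩
  · apply Subtype.ext
    show φ (up 1 * (lo (-1⁻¹) * up 1)) = nG hp.inList (D.simple i) 1
    rw [map_mul, map_mul, h1', h2', nG_def]
  · show φ (tau c) ∈ D.diagonalSubgroup K
    rw [tau_eq]
    have h5 : φ (hS (c : K)) = hG hp.inList (D.simple i) (c : K) := h3 c
    rw [h5]
    exact hG_mem_diagonal hp.inList (_root_.Cfsg.Agent.ChevalleyStructure.NPerm.simple_lt hp.inList (lt_rank hp i)) c.ne_zero

theorem tab {D : ChevalleyDatum} (hD : D ∈ [chevD4, chevF4, chevE6, chevE7, chevE8]) {K : Type u} [Field K] {s t : GL D.Idx K} (hs : s ∈ D.diagonalSubgroup K)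
    (ht : t ∈ D.diagonalSubgroup K) : s * t = t * s := by
  obtain ⟨χ, h1⟩ := HMatDiagAll.diagonalSubgroup_le_torus (D := D) (by simp at hD ⊢; itauto) hs
  obtain ⟨ψ, h2⟩ := HMatDiagAll.diagonalSubgroup_le_torus (D := D) (by simp at hD ⊢; itauto) ht
  apply Units.ext
  rw [Units.val_mul, Units.val_mul, h1, h2, Matrix.diagonal_mul_diagonal, Matrix.diagonal_mul_diagonal]
  congr 1
  funext i
  exact mul_comm _ _

include hp in
theorem torAb [Nonempty (Fin l)] (hD : D ∈ [chevD4, chevF4, chevE6, chevE7, chevE8]) {K : Type} [Field K] [Finite K] {r : ℕ}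
    [CharP K r] [IsSimpleGroup ↥(D.group K)] {Γ : Type*} [Group Γ] [Finite Γ] {π : Γ →* ↥(D.group K)}
    (hπ : H80.Fpf.IsCover π) (hodd : Odd (Nat.card π.ker)) : TorAb r π := by
  classical
  have hr : r.Prime := CharP.char_is_prime K r
  have : Fact r.Prime := ⟨hr⟩
  have : Finite M.Group := finite_W hp M.toCoxeterSystem
  have R := rgd (K := K) hp M.toCoxeterSystem r
  have hG : RGD.Sup (XX D l K) {x | IsRoot M.toCoxeterSystem hp.isCartan x} = ⊤ := G1_eq_top hp M.toCoxeterSystem
  choose Ψ N using fun i => exists_node hp (K := K) i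
  refine TorAb.of_rgd hr R hG hπ hodd (fun i => AA (Ψ i)) (nc hp K)
    (T_eq_iSup R hG Ψ N) (fun i => cyclic_AA _) ?_ (fun i s hs => (N i).inv hs) (fun i t ht => (N i).comm_mem R ht)
  intro s hs t ht
  exact Subtype.ext (tab hD hs ht)

end Cfsg.Agent.H934.PQR.TorChev
end

-- part: H934/PQR/FinalE6
section
/-!
# S3988: the rows `E₆(q)`, `²E₆(q)` (helper934)
-/

set_option autoImplicit false

namespace Cfsg.Agent.H934.PQR

open Cfsg Cfsg.Lie Subgroup Cfsg.Agent.H562.PQR
open Cfsg.Agent.H80.Fpf (IsCover)

universe v

/-- **The row `E₆(q)`.** -/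
theorem row_E6 {S : Type v} [Group S] (h : IsoChevE6 S) : RowOdd S := by
  refine row_E6_of' (fun F _ _ r _ => ?_) h
  have hs : IsSimpleGroup ↥(chevE6.group F) := (Cfsg.Agent.S1054.result (F := F) chevE6 (by simp)).1
  exact trip_E6 F r fun Γ _ _ π hπ h3 =>
    TorChev.torAb (M := CoxeterMatrix.E₆) (by simp [Nodes.RGDChev.IsType, Nodes.RGDChev.typeList]) (by simp) hπ
      (by rw [h3]; decide)

/-- **The row `²E₆(q)`.** -/
theorem row_2E6 {S : Type v} [Group S] (h : Iso2E6 S) : RowOdd S := row_2E6_of' trip_2E6 h

end Cfsg.Agent.H934.PQR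
end
end

-- part: H587/PQR/Fi24Def
section
set_option linter.all false

/-!
# S3988, row `Fi24'` (helper587): words of orders 8, 9 with a product of order 29
-/

set_option autoImplicit false

namespace Cfsg.Agent.H587.PQR.Fi24Def

open Cfsg.Agent.Lib.PermNet Cfsg.Agent.Lib.PermNetPt Cfsg.Agent.Fischer.Fi24RepDef
open Cfsg.Agent.Fischer.HeInFi24Def (stdW)
open Cfsg.Spor.Fi24 (Gen)

/-- a word of order 8 -/
def X : List Gen := [.f, .k, .b, .c, .d, .e, .h, .f]

/-- a word of order 9 -/
def Y : List Gen := [.l, .a, .b, .c, .d, .e, .g, .j, .h, .i]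

/-- The words of the relations. -/
def rws0 : List (List Gen) := [rep 8 X, rep 9 Y, rep 29 (X ++ Y)]

/-- The network words of the relations. -/
noncomputable def rws : List (List Net) := rws0.map (fun l => nw l false)

theorem rws_ok : ∀ w ∈ rws, WOk 327680 w := by
  intro w hw
  obtain ⟨l, _, rfl⟩ := List.mem_map.1 hw
  exact wok l false

/-- All the relations fix the point of `x`. -/
noncomputable def chk (x : Gen) : Bool :=
  force (winv (nw (stdW x).reverse false) 0) fun p => chkFix rws [p]

end Cfsg.Agent.H587.PQR.Fi24Def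
end

-- part: H587/PQR/Fi24Chk
section
set_option linter.all false
open scoped Cfsg.Agent.FastGrp

/-! Kernel checks: the relations hold on the points of the generators of `Fi24`. -/

set_option autoImplicit false
set_option maxRecDepth 100000
set_option Elab.async false

namespace Cfsg.Agent.H587.PQR.Fi24Chk

open Cfsg.Agent.H587.PQR.Fi24Def

theorem chk_l : chk .l = true := by decide +kernel
theorem chk_k : chk .k = true := by (rewrite [show @Cfsg.Agent.H587.PQR.Fi24Def.chk = delta% @Cfsg.Agent.H587.PQR.Fi24Def.chk from by delta Cfsg.Agent.H587.PQR.Fi24Def.chk; rfl, show @Cfsg.Agent.Lib.PermNetPt.chkFix = delta% @Cfsg.Agent.Lib.PermNetPt.chkFix from by delta Cfsg.Agent.Lib.PermNetPt.chkFix; rfl, show @Cfsg.Agent.Lib.PermNetPt.chkPt = delta% @Cfsg.Agent.Lib.PermNetPt.chkPt from by delta Cfsg.Agent.Lib.PermNetPt.chkPt; rfl, Cfsg.Agent.Lib.PermNetFast.winv_fast]; decide +kernel)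
theorem chk_a : chk .a = true := by (rewrite [show @Cfsg.Agent.H587.PQR.Fi24Def.chk = delta% @Cfsg.Agent.H587.PQR.Fi24Def.chk from by delta Cfsg.Agent.H587.PQR.Fi24Def.chk; rfl, show @Cfsg.Agent.Lib.PermNetPt.chkFix = delta% @Cfsg.Agent.Lib.PermNetPt.chkFix from by delta Cfsg.Agent.Lib.PermNetPt.chkFix; rfl, show @Cfsg.Agent.Lib.PermNetPt.chkPt = delta% @Cfsg.Agent.Lib.PermNetPt.chkPt from by delta Cfsg.Agent.Lib.PermNetPt.chkPt; rfl, Cfsg.Agent.Lib.PermNetFast.winv_fast]; decide +kernel)
theorem chk_b : chk .b = true := by (rewrite [show @Cfsg.Agent.H587.PQR.Fi24Def.chk = delta% @Cfsg.Agent.H587.PQR.Fi24Def.chk from by delta Cfsg.Agent.H587.PQR.Fi24Def.chk; rfl, show @Cfsg.Agent.Lib.PermNetPt.chkFix = delta% @Cfsg.Agent.Lib.PermNetPt.chkFix from by delta Cfsg.Agent.Lib.PermNetPt.chkFix; rfl, show @Cfsg.Agent.Lib.PermNetPt.chkPt = delta% @Cfsg.Agent.Lib.PermNetPt.chkPt from by delta Cfsg.Agent.Lib.PermNetPt.chkPt; rfl, Cfsg.Agent.Lib.PermNetFast.winv_fast]; decide +kernel)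
theorem chk_c : chk .c = true := by (rewrite [show @Cfsg.Agent.H587.PQR.Fi24Def.chk = delta% @Cfsg.Agent.H587.PQR.Fi24Def.chk from by delta Cfsg.Agent.H587.PQR.Fi24Def.chk; rfl, show @Cfsg.Agent.Lib.PermNetPt.chkFix = delta% @Cfsg.Agent.Lib.PermNetPt.chkFix from by delta Cfsg.Agent.Lib.PermNetPt.chkFix; rfl, show @Cfsg.Agent.Lib.PermNetPt.chkPt = delta% @Cfsg.Agent.Lib.PermNetPt.chkPt from by delta Cfsg.Agent.Lib.PermNetPt.chkPt; rfl, Cfsg.Agent.Lib.PermNetFast.winv_fast]; decide +kernel)
theorem chk_d : chk .d = true := by (rewrite [show @Cfsg.Agent.H587.PQR.Fi24Def.chk = delta% @Cfsg.Agent.H587.PQR.Fi24Def.chk from by delta Cfsg.Agent.H587.PQR.Fi24Def.chk; rfl, show @Cfsg.Agent.Lib.PermNetPt.chkFix = delta% @Cfsg.Agent.Lib.PermNetPt.chkFix from by delta Cfsg.Agent.Lib.PermNetPt.chkFix; rfl, show @Cfsg.Agent.Lib.PermNetPt.chkPt = delta% @Cfsg.Agent.Lib.PermNetPt.chkPt from by delta Cfsg.Agent.Lib.PermNetPt.chkPt; rfl, Cfsg.Agent.Lib.PermNetFast.winv_fast]; decide +kernel)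
theorem chk_e : chk .e = true := by (rewrite [show @Cfsg.Agent.H587.PQR.Fi24Def.chk = delta% @Cfsg.Agent.H587.PQR.Fi24Def.chk from by delta Cfsg.Agent.H587.PQR.Fi24Def.chk; rfl, show @Cfsg.Agent.Lib.PermNetPt.chkFix = delta% @Cfsg.Agent.Lib.PermNetPt.chkFix from by delta Cfsg.Agent.Lib.PermNetPt.chkFix; rfl, show @Cfsg.Agent.Lib.PermNetPt.chkPt = delta% @Cfsg.Agent.Lib.PermNetPt.chkPt from by delta Cfsg.Agent.Lib.PermNetPt.chkPt; rfl, Cfsg.Agent.Lib.PermNetFast.winv_fast]; decide +kernel)
theorem chk_f : chk .f = true := by (rewrite [show @Cfsg.Agent.H587.PQR.Fi24Def.chk = delta% @Cfsg.Agent.H587.PQR.Fi24Def.chk from by delta Cfsg.Agent.H587.PQR.Fi24Def.chk; rfl, show @Cfsg.Agent.Lib.PermNetPt.chkFix = delta% @Cfsg.Agent.Lib.PermNetPt.chkFix from by delta Cfsg.Agent.Lib.PermNetPt.chkFix; rfl, show @Cfsg.Agent.Lib.PermNetPt.chkPt = delta% @Cfsg.Agent.Lib.PermNetPt.chkPt from by delta Cfsg.Agent.Lib.PermNetPt.chkPt; rfl, Cfsg.Agent.Lib.PermNetFast.winv_fast]; decide +kernel)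
theorem chk_g : chk .g = true := by (rewrite [show @Cfsg.Agent.H587.PQR.Fi24Def.chk = delta% @Cfsg.Agent.H587.PQR.Fi24Def.chk from by delta Cfsg.Agent.H587.PQR.Fi24Def.chk; rfl, show @Cfsg.Agent.Lib.PermNetPt.chkFix = delta% @Cfsg.Agent.Lib.PermNetPt.chkFix from by delta Cfsg.Agent.Lib.PermNetPt.chkFix; rfl, show @Cfsg.Agent.Lib.PermNetPt.chkPt = delta% @Cfsg.Agent.Lib.PermNetPt.chkPt from by delta Cfsg.Agent.Lib.PermNetPt.chkPt; rfl, Cfsg.Agent.Lib.PermNetFast.winv_fast]; decide +kernel)
theorem chk_j : chk .j = true := by (rewrite [show @Cfsg.Agent.H587.PQR.Fi24Def.chk = delta% @Cfsg.Agent.H587.PQR.Fi24Def.chk from by delta Cfsg.Agent.H587.PQR.Fi24Def.chk; rfl, show @Cfsg.Agent.Lib.PermNetPt.chkFix = delta% @Cfsg.Agent.Lib.PermNetPt.chkFix from by delta Cfsg.Agent.Lib.PermNetPt.chkFix; rfl, show @Cfsg.Agent.Lib.PermNetPt.chkPt = delta% @Cfsg.Agent.Lib.PermNetPt.chkPt from by delta Cfsg.Agent.Lib.PermNetPt.chkPt; rfl, Cfsg.Agent.Lib.PermNetFast.winv_fast]; decide +kernel)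
theorem chk_h : chk .h = true := by (rewrite [show @Cfsg.Agent.H587.PQR.Fi24Def.chk = delta% @Cfsg.Agent.H587.PQR.Fi24Def.chk from by delta Cfsg.Agent.H587.PQR.Fi24Def.chk; rfl, show @Cfsg.Agent.Lib.PermNetPt.chkFix = delta% @Cfsg.Agent.Lib.PermNetPt.chkFix from by delta Cfsg.Agent.Lib.PermNetPt.chkFix; rfl, show @Cfsg.Agent.Lib.PermNetPt.chkPt = delta% @Cfsg.Agent.Lib.PermNetPt.chkPt from by delta Cfsg.Agent.Lib.PermNetPt.chkPt; rfl, Cfsg.Agent.Lib.PermNetFast.winv_fast]; decide +kernel)
theorem chk_i : chk .i = true := by (rewrite [show @Cfsg.Agent.H587.PQR.Fi24Def.chk = delta% @Cfsg.Agent.H587.PQR.Fi24Def.chk from by delta Cfsg.Agent.H587.PQR.Fi24Def.chk; rfl, show @Cfsg.Agent.Lib.PermNetPt.chkFix = delta% @Cfsg.Agent.Lib.PermNetPt.chkFix from by delta Cfsg.Agent.Lib.PermNetPt.chkFix; rfl, show @Cfsg.Agent.Lib.PermNetPt.chkPt = delta% @Cfsg.Agent.Lib.PermNetPt.chkPt from by delta Cfsg.Agent.Lib.PermNetPt.chkPt; rfl, Cfsg.Agent.Lib.PermNetFast.winv_fast]; decide +kernel)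

end Cfsg.Agent.H587.PQR.Fi24Chk
end

-- part: H587/PQR/Fi24
section
set_option linter.all false
open scoped Cfsg.Agent.FastGrp

/-!
# S3988, row `Fi24'` (helper587, market task 2748)

`Fi23 ≤ Fi24'` contains all the primes except 29; explicit words give a triple of type `(8, 9, 29)`.
-/

set_option autoImplicit false

namespace Cfsg.Agent.H587.PQR.Fi24

open Cfsg Cfsg.Agent.Fischer Cfsg.Agent.H562.PQR
open Cfsg.Agent.Lib.PermNet Cfsg.Agent.Lib.PermNetPt Cfsg.Agent.Fischer.Fi24RepDef
  Cfsg.Agent.Fischer.Fi24Rep Cfsg.Agent.Fischer.HeInFi24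
open Cfsg.Agent.Fischer.HeInFi24Def (stdW)
open Cfsg.Agent.H587.PQR.Fi24Def Cfsg.Agent.H587.PQR.Fi24Chk
open Cfsg.Agent.R08.FiTwentyFour (facts)

theorem chk_all (x : Cfsg.Spor.Fi24.Gen) : Fi24Def.chk x = true := by
  cases x
  · exact chk_l
  · exact chk_k
  · exact chk_a
  · exact chk_b
  · exact chk_c
  · exact chk_d
  · exact chk_e
  · exact chk_f
  · exact chk_g
  · exact chk_j
  · exact chk_h
  · exact chk_i

/-- The relations fix the points of the generators. -/
theorem fix {l : List Cfsg.Spor.Fi24.Gen} (hl : l ∈ rws0) (x : Cfsg.Spor.Fi24.Gen) :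
    rho (word l) (rho (word (stdW x)) 0) = rho (word (stdW x)) 0 := by
  have h := chk_all x
  unfold Fi24Def.chk at h
  rw [force_eq] at h
  have h1 := chkFix_spec h Fi24Def.rws_ok (nw l false) (List.mem_map_of_mem hl) _ List.mem_cons_self
  rw [winv_eq (wok (stdW x).reverse false), ← rho_word, ← rho_word, ← map_inv, word_reverse, inv_inv] at h1
  exact h1

/-- The relations commute with the generators of `Fi24`. -/
theorem comm_gen {l : List Cfsg.Spor.Fi24.Gen} (hl : l ∈ rws0) (x : Cfsg.Spor.Fi24.Gen) :
    word l * gen x = gen x * word l := by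
  have h := fix hl x
  have h1 : rho ((word (stdW x))⁻¹ * word l * word (stdW x)) 0 = 0 := by
    rw [map_mul, map_mul, Equiv.Perm.mul_apply, Equiv.Perm.mul_apply, h, ← Equiv.Perm.mul_apply, ← map_mul,
      inv_mul_cancel, map_one, Equiv.Perm.one_apply]
  have h2 := Fi24Real.stab_comm facts.hub facts.hne _ h1
  rw [gen_eq x]
  calc word l * (word (stdW x) * gen .l * (word (stdW x))⁻¹)
      = word (stdW x) * ((word (stdW x))⁻¹ * word l * word (stdW x) * gen .l) * (word (stdW x))⁻¹ := by group
    _ = word (stdW x) * (gen .l * ((word (stdW x))⁻¹ * word l * word (stdW x))) * (word (stdW x))⁻¹ := by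
      rw [h2]
    _ = word (stdW x) * gen .l * (word (stdW x))⁻¹ * word l := by group

theorem comm_all {l : List Cfsg.Spor.Fi24.Gen} (hl : l ∈ rws0) (g : Cfsg.Spor.Fi24) :
    word l * g = g * word l := by
  have h : g ∈ Subgroup.centralizer {word l} := by
    refine PresentedGroup.generated_by _ _ (fun x => ?_) g
    rw [Subgroup.mem_centralizer_singleton_iff]
    exact (comm_gen hl x).symm
  rw [Subgroup.mem_centralizer_singleton_iff] at h
  exact h.symm

theorem rel_one {l : List Cfsg.Spor.Fi24.Gen} (hl : l ∈ rws0) : word l = 1 := by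
  have h0 : rho (word l) 0 = 0 := by
    have h := fix hl .l
    rwa [show stdW .l = [] from rfl, word_nil, map_one, Equiv.Perm.one_apply] at h
  apply Fi24Final.eq_one_of_fixes facts.hub facts.hne facts.hfin facts.hH
  intro q hq
  have hq' : q ∈ {p : ℕ | ∃ x, Fi24Rep.rho x 0 = p} := by rw [Fi24RepOrb.orbG]; exact hq
  obtain ⟨k, rfl⟩ := hq'
  rw [← Equiv.Perm.mul_apply, ← map_mul, comm_all hl, map_mul, Equiv.Perm.mul_apply, h0]

theorem word_rep (n : ℕ) (l : List Cfsg.Spor.Fi24.Gen) : word (rep n l) = word l ^ n := by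
  induction n with
  | zero =>
    show word [] = _
    rw [word_nil, pow_zero]
  | succ n ih =>
    show word (l ++ rep n l) = _
    rw [word_append, ih, pow_succ']

/-- a word moving a point is not trivial -/
theorem word_ne_one {l : List Cfsg.Spor.Fi24.Gen} (p : ℕ) (h : Nat.beq (winv (nw l false) p) p = false) :
    word l ≠ 1 := by
  intro h1
  have h2 : rho (word l) = 1 := by rw [h1, map_one]
  rw [rho_word] at h2
  rw [winv_eq (wok l false), h2, inv_one, Equiv.Perm.one_apply, Nat.beq_refl] at h
  exact absurd h (by simp)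

theorem X_pow : word X ^ 8 = 1 := by
  rw [← word_rep]; exact rel_one (by simp [rws0])

theorem Y_pow : word Y ^ 9 = 1 := by
  rw [← word_rep]; exact rel_one (by simp [rws0])

theorem XY_pow : (word X * word Y) ^ 29 = 1 := by
  rw [← word_append, ← word_rep]; exact rel_one (by simp [rws0])

theorem X_ne : word X ≠ 1 := word_ne_one 0 (by decide +kernel)
theorem Y_ne : word Y ≠ 1 := word_ne_one 1 (by decide +kernel)
theorem XY_ne : word X * word Y ≠ 1 := by
  rw [← word_append]; exact word_ne_one 0 (by decide +kernel)

theorem sgn_word (l : List Cfsg.Spor.Fi24.Gen) : Fi24Final.sgn (word l) = (-1) ^ l.length := by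
  induction l with
  | nil => rw [word_nil, map_one]; rfl
  | cons x l ih => rw [word_cons, map_mul, ih, List.length_cons, pow_succ']; congr 1

theorem mem_comm {l : List Cfsg.Spor.Fi24.Gen} (h : Even l.length) : word l ∈ commutator Cfsg.Spor.Fi24 := by
  rw [Cfsg.Agent.R08.FiTwentyFour.mem_commutator_iff, sgn_word, h.neg_one_pow]

/-- `Fi24'` has a subgroup isomorphic to `Fi23` -/
theorem exists_fi23 : ∃ M : Subgroup Spor.Fi24', IsSimpleGroup ↥M ∧ Nat.card ↥M = 4089470473293004800 := by
  have h97 := Cfsg.Agent.S1697.result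
  obtain ⟨φ, hφ⟩ := Fi24Class.exists_fi23_hom (Fi24Real.spider facts.hfin facts.hH)
  have hφ1 : Function.Injective φ := by
    apply Fi24Class.injective_of_simple h97.1
    refine ⟨Cfsg.Agent.SporRec.Fi23Rel.gen .a, ?_⟩
    rw [hφ]
    intro h
    apply Fi24Class.a_ne_l (by rw [Cfsg.Agent.S1698.result.2]; norm_num)
    have h2 : Fi24Class.gen .a * Fi24Class.gen .l = 1 := h
    rw [mul_eq_one_iff_eq_inv, Fi24Class.gen_inv] at h2
    exact h2
  have hp23 : commutator Spor.Fi23 = ⊤ := Fi24Class.perfect_of_simple h97.1 (by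
    rw [h97.2]
    intro hp
    exact absurd ((Nat.prime_dvd_prime_iff_eq Nat.prime_two hp).1 (by norm_num)) (by norm_num))
  obtain ⟨K, hK1, hK2⟩ := Fi24Class.exists_subgroup h97.1 φ hφ1 (commutator Spor.Fi24)
    (Fi24Class.range_le_commutator hp23 φ)
  exact ⟨K, hK1, hK2.trans h97.2⟩

theorem even_X : Even X.length := by decide
theorem even_Y : Even Y.length := by decide

/-- the triple of type `(2, 3, 29)` -/
theorem trip : TripABC 2 3 29 Cfsg.Spor.Fi24' := by
  have hm := Cfsg.Agent.H80.Fpf.multDvd_of_cyclic (by norm_num) Cfsg.Agent.S2055.result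
  let x : Cfsg.Spor.Fi24' := ⟨word X, mem_comm even_X⟩
  let y : Cfsg.Spor.Fi24' := ⟨word Y, mem_comm even_Y⟩
  have hx : PE 2 x := by
    refine ⟨fun h => X_ne (congrArg Subtype.val h), ?_⟩
    have h1 : orderOf x ∣ 2 ^ 3 := orderOf_dvd_of_pow_eq_one (Subtype.ext X_pow)
    obtain ⟨k, -, hk⟩ := (Nat.dvd_prime_pow Nat.prime_two).1 h1
    exact ⟨k, hk⟩
  have hy : PE 3 y := by
    refine ⟨fun h => Y_ne (congrArg Subtype.val h), ?_⟩
    have h1 : orderOf y ∣ 3 ^ 2 := orderOf_dvd_of_pow_eq_one (Subtype.ext Y_pow)
    obtain ⟨k, -, hk⟩ := (Nat.dvd_prime_pow Nat.prime_three).1 h1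
    exact ⟨k, hk⟩
  have hz : PE 29 (x * y)⁻¹ := by
    refine PE.inv ⟨fun h => XY_ne (congrArg Subtype.val h), ?_⟩
    have h1 : orderOf (x * y) ∣ 29 ^ 1 := orderOf_dvd_of_pow_eq_one (Subtype.ext XY_pow)
    obtain ⟨k, -, hk⟩ := (Nat.dvd_prime_pow (by norm_num)).1 h1
    exact ⟨k, hk⟩
  refine TripABC.of_mult hm (fun s hs h => ?_) Nat.prime_two Nat.prime_three (by norm_num) (by norm_num) (by norm_num)
    (by norm_num) hx hy hz (mul_inv_cancel _)
  exact Or.inr (Or.inr (Or.inl ((Nat.prime_dvd_prime_iff_eq hs Nat.prime_three).1 h)))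

theorem card_fi24' : Nat.card Cfsg.Spor.Fi24' = 1255205709190661721292800 := Cfsg.Agent.S1698.result.2

/-- **the row `Fi24'`** -/
theorem row_Fi24' : RowOdd Cfsg.Spor.Fi24' := by
  intro p hp hp2 hd
  have : Fact p.Prime := ⟨hp⟩
  have hfin : Finite Cfsg.Spor.Fi24' := Nat.finite_of_card_ne_zero (by rw [card_fi24']; norm_num)
  rw [card_fi24'] at hd
  by_cases h29 : p = 29
  · subst h29
    exact Or.inr ⟨2, 3, 29, Or.inr (Or.inr rfl), Or.inl rfl, trip⟩
  · left
    have hn : p ∣ 4089470473293004800 := by
      have h1 : (1255205709190661721292800 : ℕ) = 306936 * 4089470473293004800 := by norm_num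
      rw [h1] at hd
      rcases hp.dvd_mul.1 hd with h2 | h2
      · have h3 : (306936 : ℕ) = 2 ^ 3 * 3 ^ 3 * 7 ^ 2 * 29 := by norm_num
        rw [h3] at h2
        rcases hp.dvd_mul.1 h2 with h2 | h2
        · rcases hp.dvd_mul.1 h2 with h2 | h2
          · rcases hp.dvd_mul.1 h2 with h2 | h2
            · exact absurd ((Nat.prime_dvd_prime_iff_eq hp Nat.prime_two).1 (hp.dvd_of_dvd_pow h2)) hp2
            · rw [(Nat.prime_dvd_prime_iff_eq hp Nat.prime_three).1 (hp.dvd_of_dvd_pow h2)]; norm_num
          · rw [(Nat.prime_dvd_prime_iff_eq hp (by norm_num)).1 (hp.dvd_of_dvd_pow h2)]; norm_num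
        · exact absurd ((Nat.prime_dvd_prime_iff_eq hp (by norm_num)).1 h2) h29
      · exact h2
    obtain ⟨M, hM, hc⟩ := exists_fi23
    refine ⟨M, fun h => ?_, ?_⟩
    · have h1 := hc
      rw [h, Subgroup.card_top, card_fi24'] at h1
      exact absurd h1 (by norm_num)
    · have hna : ∃ x y : M, x * y ≠ y * x := by
        by_contra hcon
        push Not at hcon
        let _ : CommGroup M := { (inferInstance : Group M) with mul_comm := hcon }
        have h1 := IsSimpleGroup.prime_card (α := M)
        rw [hc] at h1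
        exact absurd h1 (by norm_num)
      exact not_isPSolvable_of_simple hna hp (by rw [hc]; exact hn)

end Cfsg.Agent.H587.PQR.Fi24

private theorem dce_e493a6a92e01 : _root_.True := by
  try have : _root_.True := by simp only [_root_.Cfsg.Agent.H587.PQR.Fi24Def.rws0.eq_1]
  exact _root_.True.intro
end

-- part: H151/PQR/NM
section
prune_inst 0x4750067054de212000004000450003ce3d3000400000b00004004080005882c0141008e60a800210a100000040039002815001884624000000e840400011804810080820840c10011460088000008010000100000000000000000000000000000210000000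
set_option linter.all false
open scoped Cfsg.Agent.FastGrp

-- part: H151/PQR/Reg
section
/-!
# Elements of `SU n F q` with `n` distinct eigenvalues (helper151)

* `eq_one_of_distinct` : an `r`-element commuting with a matrix with `n` distinct eigenvalues is trivial;
* `unitary_root` : the eigenvalues of a unitary matrix are closed under `μ ↦ μ ^ (-q)`;
* `distinct_of_order` : an element of prime order `p`, `-q` of order `n` modulo `p`, has `n` distinct eigenvalues;
* **`not_dvd_centralizer`** : `r ∤ |C(x)|` in `PSU n F q` for an element with `n` distinct eigenvalues.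
-/

set_option autoImplicit false
set_option linter.unusedSectionVars false

namespace Cfsg.Agent.H151.PQR

open Cfsg Matrix Polynomial
open Cfsg.Agent.LieClassical.HermBasic
open Cfsg.Agent.Phan (mat mat_mul mat_one mat_inj mat_isom)
open Cfsg.Agent.ClassicalGeometry.PSUAutBasic (pr eq_one_of_center_of_pow exists_lift pr_surjective)

section Mat

variable {F : Type*} [Field F] {k : Type*} [Field k] [Algebra F k] {n : ℕ}

/-- `y` has (at least) `n` distinct eigenvalues in `k` -/
def Dist (k : Type*) [Field k] [Algebra F k] (y : Matrix (Fin n) (Fin n) F) : Prop :=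
  ∃ S : Finset k, n ≤ S.card ∧ ∀ μ ∈ S, (y.charpoly.map (algebraMap F k)).IsRoot μ

theorem exists_eigen {y : Matrix (Fin n) (Fin n) F} {μ : k} (h : (y.charpoly.map (algebraMap F k)).IsRoot μ) :
    ∃ v : Fin n → k, v ≠ 0 ∧ (y.map (algebraMap F k)) *ᵥ v = μ • v := by
  have h1 : Module.End.HasEigenvalue (Matrix.toLin' (y.map (algebraMap F k))) μ := by
    rw [Module.End.hasEigenvalue_iff_isRoot_charpoly, Matrix.charpoly_toLin']
    rwa [Matrix.charpoly_map]
  obtain ⟨v, hv⟩ := h1.exists_hasEigenvector
  exact ⟨v, hv.2, by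
    have := hv.apply_eq_smul
    rwa [Matrix.toLin'_apply] at this⟩

theorem root_of_eigen {y : Matrix (Fin n) (Fin n) F} {μ : k} {v : Fin n → k} (hv : v ≠ 0)
    (h : (y.map (algebraMap F k)) *ᵥ v = μ • v) : (y.charpoly.map (algebraMap F k)).IsRoot μ := by
  have h1 : Module.End.HasEigenvector (Matrix.toLin' (y.map (algebraMap F k))) μ v :=
    Module.End.hasEigenvector_iff.2 ⟨Module.End.mem_eigenspace_iff.2 (by rw [Matrix.toLin'_apply, h]), hv⟩
  have h2 := Module.End.hasEigenvalue_of_hasEigenvector h1
  rw [Module.End.hasEigenvalue_iff_isRoot_charpoly, Matrix.charpoly_toLin'] at h2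
  rwa [Matrix.charpoly_map] at h2

theorem eq_one_of_distinct {r : ℕ} [Fact r.Prime] [CharP k r] {y g : Matrix (Fin n) (Fin n) F} (hy : Dist k y)
    (hyg : y * g = g * y) {t : ℕ} (hg : g ^ r ^ t = 1) : g = 1 := by
  classical
  obtain ⟨S, hS, hroot⟩ := hy
  set A := algebraMap F k with hA
  have hex : ∀ μ : S, ∃ v : Fin n → k, v ≠ 0 ∧ (y.map A) *ᵥ v = (μ : k) • v := fun μ => exists_eigen (hroot μ μ.2)
  choose v hv0 hv using hex
  have hli : LinearIndependent k v := by
    refine Module.End.eigenvectors_linearIndependent' (Matrix.toLin' (y.map A)) (fun μ : S => (μ : k))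
      Subtype.val_injective v fun μ => ?_
    exact Module.End.hasEigenvector_iff.2 ⟨Module.End.mem_eigenspace_iff.2 (by rw [Matrix.toLin'_apply, hv]), hv0 μ⟩
  have hcard : Fintype.card S = Module.finrank k (Fin n → k) := by
    refine le_antisymm hli.fintype_card_le_finrank ?_
    rw [Module.finrank_fin_fun, Fintype.card_coe]
    exact hS
  by_cases hn : n = 0
  · subst hn
    ext i
    exact i.elim0
  have hne : Nonempty S := by
    rw [← Fintype.card_pos_iff, hcard, Module.finrank_fin_fun]
    omega
  let b := basisOfLinearIndependentOfCardEqFinrank hli hcard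
  have hb : ∀ μ, b μ = v μ := fun μ => by
    rw [coe_basisOfLinearIndependentOfCardEqFinrank]
  have hcomm : ∀ w : Fin n → k, (y.map A) *ᵥ ((g.map A) *ᵥ w) = (g.map A) *ᵥ ((y.map A) *ᵥ w) := by
    intro w
    rw [Matrix.mulVec_mulVec, Matrix.mulVec_mulVec, ← Matrix.map_mul, ← Matrix.map_mul, hyg]
  -- the coordinates of `y w`
  have hrep : ∀ (w : Fin n → k) (ν : S), b.repr ((y.map A) *ᵥ w) ν = (ν : k) * b.repr w ν := by
    intro w ν
    have h1 : (y.map A) *ᵥ w = ∑ μ, (b.repr w μ * (μ : k)) • b μ := by
      conv_lhs => rw [← b.sum_repr w]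
      rw [Matrix.mulVec_sum]
      refine Finset.sum_congr rfl fun μ _ => ?_
      rw [Matrix.mulVec_smul, hb, hv, smul_smul]
    rw [h1, b.repr_sum_self, mul_comm]
  have hfix : ∀ μ : S, (g.map A) *ᵥ (v μ) = v μ := by
    intro μ
    have h1 : ∀ ν : S, ν ≠ μ → b.repr ((g.map A) *ᵥ (v μ)) ν = 0 := by
      intro ν hν
      have h2 := hrep ((g.map A) *ᵥ (v μ)) ν
      rw [hcomm, hv, Matrix.mulVec_smul, map_smul, Finsupp.smul_apply, smul_eq_mul] at h2
      have h3 : ((μ : k) - (ν : k)) * b.repr ((g.map A) *ᵥ (v μ)) ν = 0 := by rw [sub_mul, h2, sub_self]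
      refine (mul_eq_zero.1 h3).resolve_left fun h4 => hν ?_
      exact Subtype.ext (sub_eq_zero.1 h4).symm
    set c := b.repr ((g.map A) *ᵥ (v μ)) μ with hc
    have h2 : (g.map A) *ᵥ (v μ) = c • v μ := by
      conv_lhs => rw [← b.sum_repr ((g.map A) *ᵥ (v μ))]
      rw [Finset.sum_eq_single μ (fun ν _ hν => by rw [h1 ν hν, zero_smul])
        (fun h => absurd (Finset.mem_univ _) h), hb]
    have h3 : ∀ j : ℕ, ((g.map A) ^ j) *ᵥ (v μ) = c ^ j • v μ := by
      intro j
      induction j with
      | zero => rw [pow_zero, pow_zero, Matrix.one_mulVec, one_smul]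
      | succ j ih => rw [pow_succ, ← Matrix.mulVec_mulVec, h2, Matrix.mulVec_smul, ih, smul_smul, pow_succ, mul_comm]
    have h4 : c ^ r ^ t = 1 := by
      have h5 := h3 (r ^ t)
      have h6 : (g.map A) ^ r ^ t = 1 := by
        have h7 := congrArg (fun M : Matrix (Fin n) (Fin n) F => M.map A) hg
        have h8 : (g ^ r ^ t).map A = (g.map A) ^ r ^ t := map_pow (A.mapMatrix) g _
        change (g ^ r ^ t).map A = (1 : Matrix (Fin n) (Fin n) F).map A at h7
        rw [h8, Matrix.map_one A (map_zero A) (map_one A)] at h7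
        exact h7
      rw [h6, Matrix.one_mulVec] at h5
      have h9 : (1 : k) • v μ = c ^ r ^ t • v μ := by rw [one_smul]; exact h5
      exact (smul_left_injective k (hv0 μ) h9).symm
    have h5 : c = 1 := by
      have h6 : (c - 1) ^ r ^ t = 0 := by rw [sub_pow_char_pow, h4, one_pow, sub_self]
      exact sub_eq_zero.1 (eq_zero_of_pow_eq_zero h6)
    rw [h2, h5, one_smul]
  have hg1 : g.map A = 1 := by
    have h1 : Matrix.toLin' (g.map A) = LinearMap.id := b.ext fun μ => by
      rw [hb, Matrix.toLin'_apply, hfix]; rfl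
    have h2 := congrArg LinearMap.toMatrix' h1
    rwa [LinearMap.toMatrix'_toLin', LinearMap.toMatrix'_id] at h2
  have hinj : Function.Injective (fun M : Matrix (Fin n) (Fin n) F => M.map A) :=
    Matrix.map_injective (algebraMap F k).injective
  apply hinj
  change g.map A = (1 : Matrix (Fin n) (Fin n) F).map A
  rw [hg1, Matrix.map_one A (map_zero A) (map_one A)]

end Mat

section SU

variable {F : Type*} [Field F] [Fintype F] {n q : ℕ}

/-- the inverse of a unitary matrix -/
theorem conj_transpose_mul (hF : Fintype.card F = q ^ 2) (g : SU n F q) :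
    ((mat g).map (conj hF))ᵀ * mat g = 1 := by
  have h1 : (mat g)ᵀ * (mat g).map (conj hF) = 1 := by
    ext i j
    have h2 := mat_isom g (Pi.single i 1) (Pi.single j 1)
    rw [herm_single_left, one_mul] at h2
    rw [Matrix.mul_apply, Matrix.one_apply]
    have h3 : ∀ l, (mat g)ᵀ i l * (mat g).map (conj hF) l j = (mat g *ᵥ Pi.single i 1) l * (mat g *ᵥ Pi.single j 1) l ^ q := by
      intro l
      rw [Matrix.mulVec_single_one, Matrix.mulVec_single_one]
      rfl
    rw [Finset.sum_congr rfl fun l _ => h3 l]
    have h4 : hermForm n F q (mat g *ᵥ Pi.single i 1) (mat g *ᵥ Pi.single j 1) =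
        ∑ l, (mat g *ᵥ Pi.single i 1) l * (mat g *ᵥ Pi.single j 1) l ^ q := rfl
    rw [← h4, h2]
    by_cases hij : i = j
    · subst hij
      rw [if_pos rfl, Pi.single_eq_same, one_pow]
    · rw [if_neg hij, Pi.single_eq_of_ne hij, zero_pow_q hF]
  have h2 := congrArg Matrix.transpose h1
  rwa [Matrix.transpose_mul, Matrix.transpose_transpose, Matrix.transpose_one] at h2

variable {k : Type*} [Field k] [Algebra F k]

/-- the eigenvalues of a unitary matrix are closed under `μ ↦ μ ^ (-q)` -/
theorem unitary_root (hF : Fintype.card F = q ^ 2) (g : SU n F q) {μ : k} (h : ((mat g).charpoly.map (algebraMap F k)).IsRoot μ) :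
    μ ≠ 0 ∧ ((mat g).charpoly.map (algebraMap F k)).IsRoot (μ ^ q)⁻¹ := by
  obtain ⟨r, e, hr, hchar, hq, he⟩ := exists_prime_pow hF
  have : Fact r.Prime := ⟨hr⟩
  have hck : CharP k r := charP_of_injective_algebraMap (algebraMap F k).injective r
  have : ExpChar k r := ExpChar.prime hr
  set A := algebraMap F k with hA
  let φ : k →+* k := iterateFrobenius k r e
  have hφ : ∀ x : k, φ x = x ^ q := fun x => by rw [hq]; exact iterateFrobenius_def _ _ _
  set N := ((mat g).map (conj hF))ᵀ with hN
  have hNM : N * mat g = 1 := conj_transpose_mul hF g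
  have hMN : mat g * N = 1 := mul_eq_one_comm.1 hNM
  have hroot : (N.charpoly.map A).IsRoot (μ ^ q) := by
    have h1 : N.charpoly = (mat g).charpoly.map (conj hF : F →+* F) := by
      rw [hN, Matrix.charpoly_transpose]
      exact Matrix.charpoly_map (mat g) (conj hF : F →+* F)
    have h2 : (N.charpoly.map A) = ((mat g).charpoly.map A).map φ := by
      rw [h1, Polynomial.map_map, Polynomial.map_map]
      congr 1
      ext x
      change A (x ^ q) = φ (A x)
      rw [map_pow, hφ]
    rw [h2, ← hφ]
    change eval (φ μ) (((mat g).charpoly.map A).map φ) = 0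
    rw [Polynomial.eval_map, Polynomial.eval₂_at_apply, h.eq_zero, map_zero]
  obtain ⟨w, hw0, hw⟩ := exists_eigen hroot
  have h1 : w = μ ^ q • ((mat g).map A *ᵥ w) := by
    have h2 : (mat g).map A *ᵥ ((N.map A) *ᵥ w) = w := by
      rw [Matrix.mulVec_mulVec, ← Matrix.map_mul, hMN, Matrix.map_one A (map_zero A) (map_one A), Matrix.one_mulVec]
    rw [hw, Matrix.mulVec_smul] at h2
    exact h2.symm
  have hμ : μ ^ q ≠ 0 := by
    intro h0
    rw [h0, zero_smul] at h1
    exact hw0 h1
  refine ⟨fun h0 => hμ (by rw [h0, zero_pow (q_pos hF).ne']), root_of_eigen hw0 ?_⟩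
  rw [eq_inv_smul_iff₀ hμ]
  exact h1.symm

/-- an eigenvalue `≠ 1` of a matrix of order `p` -/
theorem exists_root_ne [IsAlgClosed k] {m : ℕ} {p : ℕ} (hpk : (p : k) ≠ 0) {M : Matrix (Fin m) (Fin m) F}
    (hM : M ^ p = 1) (hM1 : M ≠ 1) :
    ∃ μ : k, (M.charpoly.map (algebraMap F k)).IsRoot μ ∧ μ ^ p = 1 ∧ μ ≠ 1 := by
  set A := algebraMap F k with hA
  let f : Module.End k (Fin m → k) := Matrix.toLin' (M.map A)
  have hfp : f ^ p = 1 := by
    have h1 : (M.map A) ^ p = 1 := by
      have h2 : (M ^ p).map A = (M.map A) ^ p := map_pow (A.mapMatrix) M _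
      rw [← h2, hM]
      exact Matrix.map_one A (map_zero A) (map_one A)
    have h3 : f ^ p = Matrix.toLin' ((M.map A) ^ p) := by
      exact (Matrix.toLin'_pow (M.map A) p).symm
    rw [h3, h1, Matrix.toLin'_one]
    rfl
  have hf1 : f ≠ 1 := by
    intro h
    apply hM1
    have h2 := congrArg LinearMap.toMatrix' h
    change LinearMap.toMatrix' (Matrix.toLin' (M.map A)) = LinearMap.toMatrix' LinearMap.id at h2
    rw [LinearMap.toMatrix'_toLin', LinearMap.toMatrix'_id] at h2
    have hinj : Function.Injective (fun M : Matrix (Fin m) (Fin m) F => M.map A) :=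
      Matrix.map_injective (algebraMap F k).injective
    apply hinj
    change M.map A = (1 : Matrix (Fin m) (Fin m) F).map A
    rw [h2, Matrix.map_one A (map_zero A) (map_one A)]
  let H : Module.End k (Fin m → k) := ∑ i ∈ Finset.range p, f ^ i
  have hH : H * (f - 1) = 0 := by
    change (∑ i ∈ Finset.range p, f ^ i) * (f - 1) = 0
    rw [geom_sum_mul, hfp, sub_self]
  have hcomm : Commute f H := Commute.sum_right _ _ _ fun i _ => (Commute.refl f).pow_right i
  let W : Submodule k (Fin m → k) := LinearMap.ker H
  have hW : ∀ w ∈ W, f w ∈ W := by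
    intro w hw
    change H (f w) = 0
    have h1 : H (f w) = f (H w) := by
      have := congrArg (fun g : Module.End k (Fin m → k) => g w) hcomm.eq
      exact this.symm
    rw [h1, show H w = 0 from hw, map_zero]
  have hWn : Nontrivial W := by
    obtain ⟨v, hv⟩ : ∃ v, (f - 1) v ≠ 0 := by
      by_contra hcon
      push Not at hcon
      apply hf1
      rw [← sub_eq_zero]
      exact LinearMap.ext hcon
    have h1 : (f - 1) v ∈ W := by
      change H ((f - 1) v) = 0
      exact congrArg (fun g : Module.End k (Fin m → k) => g v) hH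
    exact ⟨⟨⟨_, h1⟩, 0, fun h => hv (congrArg Subtype.val h)⟩⟩
  obtain ⟨μ, hμ⟩ := Module.End.exists_eigenvalue (f.restrict hW : Module.End k W)
  obtain ⟨w, hw⟩ := hμ.exists_hasEigenvector
  have hfw : f (w : Fin m → k) = μ • (w : Fin m → k) := congrArg Subtype.val hw.apply_eq_smul
  have hw0 : (w : Fin m → k) ≠ 0 := fun h => hw.2 (Subtype.ext h)
  have hpow : ∀ i : ℕ, (f ^ i) (w : Fin m → k) = μ ^ i • (w : Fin m → k) := by
    intro i
    induction i with
    | zero => rw [pow_zero, pow_zero, one_smul]; rfl
    | succ i ih => rw [pow_succ, Module.End.mul_apply, hfw, map_smul, ih, smul_smul, pow_succ, mul_comm]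
  have hsum : ∑ i ∈ Finset.range p, μ ^ i = 0 := by
    have h1 : H (w : Fin m → k) = 0 := w.2
    have h2 : H (w : Fin m → k) = (∑ i ∈ Finset.range p, μ ^ i) • (w : Fin m → k) := by
      change (∑ i ∈ Finset.range p, f ^ i) (w : Fin m → k) = _
      rw [LinearMap.sum_apply, Finset.sum_smul]
      exact Finset.sum_congr rfl fun i _ => hpow i
    rw [h2] at h1
    exact (smul_eq_zero.1 h1).resolve_right hw0
  refine ⟨μ, root_of_eigen hw0 (by rw [← Matrix.toLin'_apply]; exact hfw), ?_, ?_⟩
  · have h1 := hpow p
    rw [hfp, Module.End.one_apply] at h1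
    have h9 : (1 : k) • (w : Fin m → k) = μ ^ p • (w : Fin m → k) := by rw [one_smul]; exact h1
    exact (smul_left_injective k hw0 h9).symm
  · rintro rfl
    simp only [one_pow, Finset.sum_const, Finset.card_range, nsmul_eq_mul, mul_one] at hsum
    exact hpk hsum

/-- an element of prime order `p`, `-q` of order at least `n` modulo `p`: distinct eigenvalues -/
theorem distinct_of_order [IsAlgClosed k] (hF : Fintype.card F = q ^ 2) {p : ℕ} (hp : p.Prime) (hpq : ¬ p ∣ q)
    (hord : ∀ i, 0 < i → i < n → ¬ (p : ℤ) ∣ (-(q : ℤ)) ^ i - 1) {g : SU n F q} (hg : g ^ p = 1) (hg1 : g ≠ 1) :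
    ∃ S : Finset k, S.card = n ∧ ∀ μ ∈ S, ((mat g).charpoly.map (algebraMap F k)).IsRoot μ ∧ μ ≠ 1 := by
  classical
  have hpk : (p : k) ≠ 0 := by
    obtain ⟨r, e, hr, hchar, hq, he⟩ := exists_prime_pow hF
    have hck : CharP k r := charP_of_injective_algebraMap (algebraMap F k).injective r
    rw [Ne, CharP.cast_eq_zero_iff k r]
    intro h
    rw [Nat.prime_dvd_prime_iff_eq hr hp] at h
    subst h
    exact hpq (by rw [hq]; exact dvd_pow_self _ he.ne')
  have hmp : ∀ i : ℕ, mat (g ^ i) = mat g ^ i := by
    intro i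
    induction i with
    | zero => rw [pow_zero, pow_zero, mat_one]
    | succ i ih => rw [pow_succ, mat_mul, ih, pow_succ]
  obtain ⟨μ, hμ, hμp, hμ1⟩ := exists_root_ne (k := k) hpk (M := mat g) (by rw [← hmp, hg, mat_one])
    fun h => hg1 (mat_inj (by rw [h, mat_one]))
  have hμ0 := (unitary_root hF g hμ).1
  let u : kˣ := Units.mk0 μ hμ0
  have hup : u ^ p = 1 := Units.ext (by rw [Units.val_pow_eq_pow_val, Units.val_mk0, hμp, Units.val_one])
  have hu1 : u ≠ 1 := fun h => hμ1 (congrArg Units.val h)
  have : Fact p.Prime := ⟨hp⟩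
  have huo : orderOf u = p := orderOf_eq_prime hup hu1
  have hroot : ∀ i : ℕ, ((mat g).charpoly.map (algebraMap F k)).IsRoot ((u ^ ((-(q : ℤ)) ^ i) : kˣ) : k) := by
    intro i
    induction i with
    | zero => rw [pow_zero, zpow_one]; exact hμ
    | succ i ih =>
      have h1 := (unitary_root hF g ih).2
      have h2 : ((u ^ ((-(q : ℤ)) ^ (i + 1)) : kˣ) : k) = (((u ^ ((-(q : ℤ)) ^ i) : kˣ) : k) ^ q)⁻¹ := by
        rw [← Units.val_pow_eq_pow_val, ← Units.val_inv_eq_inv_val]
        congr 1
        rw [pow_succ, _root_.zpow_mul, _root_.zpow_neg, _root_.zpow_natCast]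
      rw [h2]
      exact h1
  have hinj : ∀ i j : ℕ, i < n → j < n → i < j → u ^ ((-(q : ℤ)) ^ i) ≠ u ^ ((-(q : ℤ)) ^ j) := by
    intro i j _ hj hij h
    rw [eq_comm, ← mul_inv_eq_one, ← _root_.zpow_neg, ← _root_.zpow_add, ← orderOf_dvd_iff_zpow_eq_one, huo] at h
    have h2 : (-(q : ℤ)) ^ j + -(-(q : ℤ)) ^ i = (-(q : ℤ)) ^ i * ((-(q : ℤ)) ^ (j - i) - 1) := by
      rw [mul_sub, ← pow_add, Nat.add_sub_cancel' hij.le, mul_one, sub_eq_add_neg]
    rw [h2] at h
    have hpi : Prime (p : ℤ) := Nat.prime_iff_prime_int.1 hp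
    rcases hpi.dvd_or_dvd h with h3 | h3
    · have h4 := hpi.dvd_of_dvd_pow h3
      rw [dvd_neg] at h4
      exact hpq (Int.natCast_dvd_natCast.1 h4)
    · exact hord (j - i) (by omega) (by omega) h3
  refine ⟨(Finset.range n).image fun i => ((u ^ ((-(q : ℤ)) ^ i) : kˣ) : k), ?_, ?_⟩
  · rw [Finset.card_image_of_injOn, Finset.card_range]
    intro i hi j hj hij
    rw [Finset.coe_range, Set.mem_Iio] at hi hj
    by_contra hne
    rcases lt_or_gt_of_ne hne with h | h
    · exact hinj i j hi hj h (Units.ext hij)
    · exact hinj j i hj hi h (Units.ext hij).symm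
  · intro ν hν
    obtain ⟨i, -, rfl⟩ := Finset.mem_image.1 hν
    refine ⟨hroot i, fun h => ?_⟩
    have h1 : u ^ ((-(q : ℤ)) ^ i) = 1 := Units.ext h
    rw [← orderOf_dvd_iff_zpow_eq_one, huo] at h1
    have hpi : Prime (p : ℤ) := Nat.prime_iff_prime_int.1 hp
    have h4 := hpi.dvd_of_dvd_pow h1
    rw [dvd_neg] at h4
    exact hpq (Int.natCast_dvd_natCast.1 h4)

/-- **the centraliser in `PSU n F q`** -/
theorem not_dvd_centralizer (hF : Fintype.card F = q ^ 2) (hn : 3 ≤ n) {r : ℕ} [Fact r.Prime] [CharP F r]
    {x : SU n F q} (hx : Dist k (mat x)) :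
    ¬ r ∣ Nat.card ↥(Subgroup.centralizer ({pr n F q x} : Set (PSU n F q))) := by
  intro hd
  have hck : CharP k r := charP_of_injective_algebraMap (algebraMap F k).injective r
  obtain ⟨⟨g', hg'⟩, hgr⟩ := exists_prime_orderOf_dvd_card' r hd
  have hgr' : g' ^ r ^ 1 = 1 := by
    rw [pow_one, ← hgr]
    have := pow_orderOf_eq_one (⟨g', hg'⟩ : ↥(Subgroup.centralizer ({pr n F q x} : Set (PSU n F q))))
    exact congrArg Subtype.val this
  obtain ⟨a, ha, l, hl⟩ := exists_lift hF hn hgr'
  have hcomm : pr n F q (a * x * a⁻¹ * x⁻¹) = 1 := by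
    have h1 := Subgroup.mem_centralizer_singleton_iff.1 hg'
    rw [map_mul, map_mul, map_mul, map_inv, map_inv, ha, h1]
    group
  set z := a * x * a⁻¹ * x⁻¹ with hz
  have hzc : z ∈ Subgroup.center (SU n F q) := (QuotientGroup.eq_one_iff z).1 hcomm
  have hzc' : ∀ b, b * z = z * b := Subgroup.mem_center_iff.1 hzc
  have hj : ∀ j : ℕ, a ^ j * x = z ^ j * x * a ^ j := by
    intro j
    induction j with
    | zero => simp
    | succ j ih =>
      have h1 : a * x = z * x * a := by rw [hz]; group
      have h2 : a ^ j * z = z * a ^ j := hzc' _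
      calc a ^ (j + 1) * x = a ^ j * (a * x) := by rw [pow_succ, mul_assoc]
        _ = (a ^ j * z) * x * a := by rw [h1]; group
        _ = z * (a ^ j * x) * a := by rw [h2]; group
        _ = z ^ (j + 1) * x * a ^ (j + 1) := by rw [ih, pow_succ' z, pow_succ a]; group
  have hz1 : z = 1 := by
    refine eq_one_of_center_of_pow hF hn (p := r) hzc (k := l) ?_
    have h1 := hj (r ^ l)
    rw [hl, one_mul, mul_one] at h1
    exact mul_right_cancel (b := x) (by rw [one_mul]; exact h1.symm)
  have hax : x * a = a * x := by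
    have h1 : a * x = z * x * a := by rw [hz]; group
    rw [h1, hz1, one_mul]
  have ha1 : mat a = 1 := by
    have hmp : ∀ i : ℕ, mat (a ^ i) = mat a ^ i := by
      intro i
      induction i with
      | zero => rw [pow_zero, pow_zero, mat_one]
      | succ i ih => rw [pow_succ, mat_mul, ih, pow_succ]
    refine eq_one_of_distinct (k := k) (r := r) (t := l) hx ?_ ?_
    · rw [← mat_mul, ← mat_mul, hax]
    · rw [← hmp, hl, mat_one]
  have ha2 : a = 1 := mat_inj (by rw [ha1, mat_one])
  have h3 : g' = 1 := by rw [← ha, ha2, map_one]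
  have h4 : orderOf (⟨g', hg'⟩ : ↥(Subgroup.centralizer ({pr n F q x} : Set (PSU n F q)))) = 1 := by
    rw [orderOf_eq_one_iff]
    exact Subtype.ext h3
  rw [h4] at hgr
  exact (Fact.out : r.Prime).one_lt.ne hgr

end SU

end Cfsg.Agent.H151.PQR
end

-- part: H151/PQR/Cyc
section
/-!
# The permutation matrix of an `n`-cycle, block diagonal elements (helper151)

* `exists_cycle` : `n` odd prime to the characteristic: an element `y` of `SU n F q` with `y ^ n = 1` and `n` distinct
  eigenvalues;
* `not_center_of_dist` : an element with `n ≥ 2` distinct eigenvalues is not central;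
* `dist_emb` : `diag(g, 1)`.
-/

set_option autoImplicit false
set_option linter.unusedSectionVars false

namespace Cfsg.Agent.H151.PQR

open Cfsg Matrix Polynomial
open Cfsg.Agent.LieClassical.HermBasic
open Cfsg.Agent.LieClassical.SUBasic (suPerm coe_suPerm)
open Cfsg.Agent.Phan (mat mat_mul mat_one mat_inj mat_isom emb sh sh_val emb_mulVec_sh emb_mulVec_lt)
open Cfsg.Agent.ClassicalGeometry.PSUAutBasic (pr exists_scalar_of_mem_center)

variable {F : Type*} [Field F] [Fintype F] {n q : ℕ} {k : Type*} [Field k] [Algebra F k]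

theorem not_center_of_dist (hF : Fintype.card F = q ^ 2) (hn : 3 ≤ n) {x : SU n F q} (hx : Dist k (mat x)) :
    x ∉ Subgroup.center (SU n F q) := by
  classical
  intro hc
  obtain ⟨c, -, -, h⟩ := exists_scalar_of_mem_center hF hn hc
  obtain ⟨S, hS, hroot⟩ := hx
  have hm : mat x = c • (1 : Matrix (Fin n) (Fin n) F) := by
    apply Matrix.toLin'.injective
    refine LinearMap.ext fun v => ?_
    rw [Matrix.toLin'_apply, map_smul, LinearMap.smul_apply, Matrix.toLin'_one]
    exact h v
  have h1 : ∀ μ ∈ S, μ = algebraMap F k c := by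
    intro μ hμ
    obtain ⟨v, hv0, hv⟩ := exists_eigen (hroot μ hμ)
    have h2 : (mat x).map (algebraMap F k) = algebraMap F k c • (1 : Matrix (Fin n) (Fin n) k) := by
      rw [hm]
      ext i j
      simp [Matrix.one_apply, apply_ite (algebraMap F k)]
    rw [h2, Matrix.smul_mulVec, Matrix.one_mulVec] at hv
    exact (smul_left_injective k hv0 hv).symm
  have h2 : S.card ≤ 1 := Finset.card_le_one.2 fun a ha b hb => by rw [h1 a ha, h1 b hb]
  omega

theorem finRotate_pow (m : ℕ) (j : ℕ) (i : Fin (m + 1)) :
    (((finRotate (m + 1)) ^ j) i : ℕ) = (i + j) % (m + 1) := by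
  induction j generalizing i with
  | zero => rw [pow_zero, Equiv.Perm.one_apply, add_zero, Nat.mod_eq_of_lt i.2]
  | succ j ih =>
    have h1 : ((i + 1 : Fin (m + 1)) : ℕ) = (i + 1) % (m + 1) := by
      rw [Fin.val_add_one]
      by_cases hi : i = Fin.last m
      · rw [if_pos hi, hi, Fin.val_last, Nat.mod_self]
      · rw [if_neg hi, Nat.mod_eq_of_lt]
        have := Fin.val_lt_last hi
        omega
    rw [pow_succ, Equiv.Perm.mul_apply, ih, finRotate_apply, h1, Nat.mod_add_mod]
    congr 1
    ring

/-- the permutation matrix of an `n`-cycle -/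
theorem exists_cycle [IsAlgClosed k] (hn : 3 ≤ n) (hodd : Odd n) (hnk : (n : k) ≠ 0) :
    ∃ y : SU n F q, y ^ n = 1 ∧ Dist k (mat y) := by
  classical
  obtain ⟨m, rfl⟩ : ∃ m, n = m + 1 := ⟨n - 1, by omega⟩
  have hm : Even m := by
    rcases hodd with ⟨a, ha⟩
    exact ⟨a, by omega⟩
  have hsign : Equiv.Perm.sign (finRotate (m + 1)) = 1 := by
    rw [sign_finRotate, Nat.add_sub_cancel, hm.neg_one_pow]
  have : NeZero ((m + 1 : ℕ) : k) := ⟨hnk⟩
  obtain ⟨ω, hω⟩ := HasEnoughRootsOfUnity.exists_primitiveRoot k (m + 1)
  refine ⟨suPerm q (finRotate (m + 1)) hsign, ?_, (Finset.range (m + 1)).image fun i => ω ^ i, ?_, ?_⟩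
  · have h1 : ∀ j : ℕ, ∀ v : Fin (m + 1) → F,
        mat ((suPerm q (finRotate (m + 1)) hsign : SU (m + 1) F q) ^ j) *ᵥ v = v ∘ ((finRotate (m + 1)) ^ j) := by
      intro j
      induction j with
      | zero => intro v; rw [pow_zero, mat_one, Matrix.one_mulVec, pow_zero]; rfl
      | succ j ih =>
        intro v
        have h2 : mat (suPerm q (finRotate (m + 1)) hsign : SU (m + 1) F q) *ᵥ v = v ∘ (finRotate (m + 1)) := by
          change (finRotate (m + 1)).permMatrix F *ᵥ v = _
          rw [Matrix.permMatrix_mulVec]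
        rw [pow_succ, mat_mul, ← Matrix.mulVec_mulVec, h2, ih, pow_succ']
        rfl
    apply mat_inj
    apply Matrix.toLin'.injective
    refine LinearMap.ext fun v => ?_
    rw [Matrix.toLin'_apply, h1, mat_one, Matrix.toLin'_one, LinearMap.id_apply]
    funext i
    rw [Function.comp_apply]
    congr 1
    apply Fin.ext
    rw [finRotate_pow, Nat.add_mod_right, Nat.mod_eq_of_lt i.2]
  · rw [Finset.card_image_of_injOn, Finset.card_range]
    intro i hi j hj hij
    rw [Finset.coe_range, Set.mem_Iio] at hi hj
    exact hω.pow_inj hi hj hij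
  · intro μ hμ
    obtain ⟨i, -, rfl⟩ := Finset.mem_image.1 hμ
    refine root_of_eigen (v := fun l : Fin (m + 1) => (ω ^ i) ^ (l : ℕ)) ?_ ?_
    · intro h
      have := congrFun h 0
      simp at this
    · have h1 : (mat (suPerm q (finRotate (m + 1)) hsign : SU (m + 1) F q)).map (algebraMap F k) =
          (finRotate (m + 1)).permMatrix k := by
        change ((finRotate (m + 1)).permMatrix F).map (algebraMap F k) = _
        ext a b
        rw [Matrix.map_apply, Equiv.Perm.permMatrix, Equiv.Perm.permMatrix, PEquiv.toMatrix_apply,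
          PEquiv.toMatrix_apply]
        split_ifs <;> simp
      rw [h1, Matrix.permMatrix_mulVec]
      funext l
      rw [Function.comp_apply, Pi.smul_apply, smul_eq_mul, finRotate_apply]
      have h2 : (ω ^ i) ^ (m + 1) = 1 := by rw [← pow_mul, mul_comm, pow_mul, hω.pow_eq_one, one_pow]
      by_cases hl : (l : ℕ) = m
      · have h3 : ((l + 1 : Fin (m + 1)) : ℕ) = 0 := by
          rw [Fin.val_add_one]
          rw [if_pos (Fin.ext hl)]
        rw [h3, pow_zero, hl, ← pow_succ', h2]
      · have h3 : ((l + 1 : Fin (m + 1)) : ℕ) = l + 1 := by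
          rw [Fin.val_add_one]
          rw [if_neg (fun h => hl (congrArg Fin.val h))]
        rw [h3, pow_succ']

/-- `diag(g, 1)` -/
theorem dist_emb (hF : Fintype.card F = q ^ 2) {m : ℕ} {g : SU m F q} (S : Finset k) (hS : S.card = m)
    (hroot : ∀ μ ∈ S, ((mat g).charpoly.map (algebraMap F k)).IsRoot μ ∧ μ ≠ 1) (h : 0 + m ≤ m + 1) :
    Dist k (mat (emb hF 0 h g : SU (m + 1) F q)) := by
  classical
  set M := mat (emb hF 0 h g : SU (m + 1) F q) with hM
  have hsh : ∀ i : Fin m, sh 0 h i = i.castSucc := fun i => Fin.ext (by rw [sh_val]; simp)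
  have hcol : ∀ (x : Fin (m + 1)) (a : Fin (m + 1)), M a x = (M *ᵥ Pi.single x 1) a := by
    intro x a
    rw [Matrix.mulVec_single_one]
    rfl
  have e1 : ∀ i j : Fin m, M i.castSucc j.castSucc = mat g i j := by
    intro i j
    rw [hcol, ← hsh i, hM, emb_mulVec_sh]
    have h1 : (Pi.single j.castSucc 1 : Fin (m + 1) → F) ∘ sh 0 h = Pi.single j 1 := by
      funext l
      rw [Function.comp_apply, hsh]
      by_cases hl : l = j
      · rw [hl, Pi.single_eq_same, Pi.single_eq_same]
      · rw [Pi.single_eq_of_ne hl, Pi.single_eq_of_ne (fun h => hl (Fin.castSucc_injective m h))]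
    rw [h1, Matrix.mulVec_single_one]
    rfl
  have e2 : ∀ i : Fin m, M i.castSucc (Fin.last m) = 0 := by
    intro i
    rw [hcol, ← hsh i, hM, emb_mulVec_sh]
    have h1 : (Pi.single (Fin.last m) 1 : Fin (m + 1) → F) ∘ sh 0 h = 0 := by
      funext l
      rw [Function.comp_apply, hsh, Pi.single_eq_of_ne (Fin.castSucc_lt_last l).ne]
      rfl
    rw [h1, Matrix.mulVec_zero]
    rfl
  have e3 : ∀ x : Fin (m + 1), M (Fin.last m) x = (Pi.single x 1 : Fin (m + 1) → F) (Fin.last m) := by
    intro x
    rw [hcol, hM]
    exact emb_mulVec_lt hF h g _ (Or.inr (by simp))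
  refine ⟨insert 1 S, ?_, ?_⟩
  · rw [Finset.card_insert_of_notMem (fun h => (hroot 1 h).2 rfl), hS]
  · intro μ hμ
    rcases Finset.mem_insert.1 hμ with rfl | hμ
    · refine root_of_eigen (v := Pi.single (Fin.last m) 1) ?_ ?_
      · intro h1
        have := congrFun h1 (Fin.last m)
        rw [Pi.single_eq_same] at this
        exact one_ne_zero this
      · rw [one_smul, Matrix.mulVec_single_one]
        funext a
        change algebraMap F k (M a (Fin.last m)) = _
        induction a using Fin.lastCases with
        | last => rw [e3, Pi.single_eq_same, Pi.single_eq_same, map_one]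
        | cast i => rw [e2, map_zero, Pi.single_eq_of_ne (Fin.castSucc_lt_last i).ne]
    · obtain ⟨w, hw0, hw⟩ := exists_eigen (hroot μ hμ).1
      refine root_of_eigen (v := Fin.snoc w 0) ?_ ?_
      · intro h1
        apply hw0
        funext i
        have := congrFun h1 i.castSucc
        rwa [Fin.snoc_castSucc] at this
      · funext a
        rw [Matrix.mulVec, dotProduct, Fin.sum_univ_castSucc, Pi.smul_apply]
        simp only [Fin.snoc_castSucc, Fin.snoc_last, mul_zero, add_zero, Matrix.map_apply]
        induction a using Fin.lastCases with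
        | last =>
          rw [Fin.snoc_last, smul_zero]
          refine Finset.sum_eq_zero fun j _ => ?_
          rw [e3, Pi.single_eq_of_ne (Fin.castSucc_lt_last j).ne', map_zero, zero_mul]
        | cast i =>
          rw [Fin.snoc_castSucc]
          have h1 := congrFun hw i
          rw [Matrix.mulVec, dotProduct, Pi.smul_apply] at h1
          rw [← h1]
          refine Finset.sum_congr rfl fun j _ => ?_
          rw [e1]
          rfl

end Cfsg.Agent.H151.PQR
end

-- part: H151/PQR/NM
section
/-!
# Proper subgroups of `PSU n F q` (helper151, for S3988)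

* `not_surj` : homomorphisms which are not surjective, comparing the powers of `q`;
* `notMin_rep` : a perfect group of isometries of an `n`-dimensional Hermitian space;
* `notMin_block` : `SU_{n-1}(q)`; `notMin_even` : `SL_m(q²)`, `n = 2 m`; `notMin_comp` : `SU_k(q ^ m)`, `n = k m` odd.
-/

set_option autoImplicit false
set_option linter.unusedSectionVars false

namespace Cfsg.Agent.H151.PQR

open Cfsg Matrix
open Cfsg.Agent.H948.UBase Cfsg.Agent.H948.UProd Cfsg.Agent.H948.UTorus
open Cfsg.Agent.LieClassical.HermBasic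
open Cfsg.Agent.ClassicalGeometry.PSUAutBasic (pr pr_eq_one_iff)
open Cfsg.Agent.H562.PQR (NotMin)

universe u

section card

variable {F : Type} [Field F] [Fintype F] {n q : ℕ}

theorem coprime_succ_pow (q j : ℕ) : Nat.Coprime q (q ^ (j + 1) + 1) := by
  rw [pow_succ', Nat.coprime_mul_left_add_right]
  exact Nat.coprime_one_right q

theorem coprime_pred_pow {q : ℕ} (hq : 1 ≤ q) (j : ℕ) : Nat.Coprime q (q ^ (j + 1) - 1) := by
  have h1 : 1 ≤ q ^ (j + 1) := Nat.one_le_pow _ _ hq
  have h2 : Nat.Coprime (q ^ (j + 1)) (q ^ (j + 1) - 1) := by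
    have := Nat.coprime_self_sub_right h1
    rw [this]
    exact Nat.coprime_one_right _
  exact Nat.Coprime.coprime_dvd_left (dvd_pow_self q (by omega)) h2

theorem pow_dvd_card (hF : Fintype.card F = q ^ 2) (hn : 2 ≤ n) : q ^ (n * (n - 1) / 2) ∣ Nat.card (PSU n F q) := by
  have h := Cfsg.Agent.H341.ThreeList.card_psu hF hn
  have h1 : Nat.Coprime (q ^ (n * (n - 1) / 2)) (Nat.gcd n (q + 1)) := by
    refine Nat.Coprime.pow_left _ ?_
    refine Nat.Coprime.coprime_dvd_right (Nat.gcd_dvd_right _ _) ?_
    have := coprime_succ_pow q 0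
    rwa [zero_add, pow_one] at this
  exact h1.dvd_of_dvd_mul_left (h ▸ Dvd.intro _ rfl)

theorem not_surj (hF : Fintype.card F = q ^ 2) (hn : 2 ≤ n) {K : Type u} [Group K] [Finite K] {b M : ℕ}
    (hK : Nat.card K = q ^ b * M) (hM : Nat.Coprime q M) (hb : b < n * (n - 1) / 2) (f : K →* PSU n F q) :
    ¬ Function.Surjective f := by
  intro hf
  have h1 := (pow_dvd_card hF hn).trans (Subgroup.card_dvd_of_surjective f hf)
  rw [hK] at h1
  have h2 := (Nat.Coprime.pow_left (n * (n - 1) / 2) hM).dvd_of_dvd_mul_right h1
  have h3 := (Nat.pow_dvd_pow_iff_le_right (two_le hF)).1 h2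
  omega

theorem coprime_ph (hF : Fintype.card F = q ^ 2) (i : ℕ) : Nat.Coprime q (ph q i) := by
  have hq := two_le hF
  unfold ph
  split_ifs
  · exact coprime_succ_pow q i
  · exact coprime_pred_pow (by omega) i

end card

section rep

variable {F : Type} [Field F] [Fintype F] {n q : ℕ}

/-- **a perfect group of isometries** -/
theorem notMin_rep {hF : Fintype.card F = q ^ 2} {V : Type*} [AddCommGroup V] [Module F V] [FiniteDimensional F V]
    {B : V →ₛₗ[cj hF] V →ₗ[F] F} (hB : IsHerm hF B) (hdim : Module.finrank F V = n) (hn : 3 ≤ n)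
    {K : Type u} [Group K] [Finite K] (hperf : commutator K = ⊤) (ρ : K →* Module.End F V)
    (hinj : Function.Injective ρ) (hiso : ∀ k, Iso B (ρ k)) [IsSimpleGroup (K ⧸ Subgroup.center K)]
    (hna : ∃ x y : K ⧸ Subgroup.center K, x * y ≠ y * x) {p : ℕ} (hp : p.Prime)
    (hd : p ∣ Nat.card (K ⧸ Subgroup.center K)) {b M : ℕ} (hK : Nat.card K = q ^ b * M) (hM : Nat.Coprime q M)
    (hb : b < n * (n - 1) / 2) : NotMin p (PSU n F q) := by
  obtain ⟨e, he⟩ := exists_coord hB hdim
  have hdet : ∀ k : K, LinearMap.det (ρ k) = 1 := by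
    intro k
    have h1 : k ∈ commutator K := by rw [hperf]; exact Subgroup.mem_top k
    have h2 := Abelianization.commutator_subset_ker ((LinearMap.det.comp ρ).toHomUnits) h1
    rw [MonoidHom.mem_ker] at h2
    exact congrArg Units.val h2
  let φ : K →* isoM B := ρ.codRestrict (isoM B) fun k => ⟨hiso k, hdet k⟩
  refine NotMin.of_hom hna hp hd ((pr n F q).comp ((suHom e he).comp φ)) (QuotientGroup.mk' (Subgroup.center K))
    (QuotientGroup.mk'_surjective _) ?_ (not_surj hF (by omega) hK hM hb _)
  intro k hk
  rw [MonoidHom.mem_ker] at hk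
  have h1 : IsScal (ρ k) := (pr_suHom_eq_one_iff hn e he (φ k)).1 hk
  obtain ⟨c, hc⟩ := h1
  rw [QuotientGroup.ker_mk', Subgroup.mem_center_iff]
  intro g
  apply hinj
  rw [map_mul, map_mul]
  refine LinearMap.ext fun v => ?_
  rw [Module.End.mul_apply, Module.End.mul_apply, hc, hc, map_smul]

end rep

section block

variable {F : Type} [Field F] [Fintype F] {n q : ℕ}

/-- `SU_{m}(q) → PSU_{m+1}(q)` -/
theorem notMin_block (hF : Fintype.card F = q ^ 2) {m : ℕ} (hm : 3 ≤ m) (h32 : ¬ (m = 3 ∧ q = 2))
    (hna : ∃ x y : PSU m F q, x * y ≠ y * x) {p : ℕ} (hp : p.Prime) (hd : p ∣ Nat.card (PSU m F q)) :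
    NotMin p (PSU (m + 1) F q) := by
  have : IsSimpleGroup (PSU m F q) := Cfsg.Agent.S0283.result hF m hm h32
  refine NotMin.of_hom hna hp hd (Cfsg.Agent.H341.ThreeElts.psuEmb hF 0 (by omega)) (QuotientGroup.mk' _)
    (QuotientGroup.mk'_surjective _) ?_ ?_
  · rw [(MonoidHom.ker_eq_bot_iff _).2 (Cfsg.Agent.H341.ThreeElts.psuEmb_injective hF 0 (by omega) (by omega) (by omega))]
    exact bot_le
  · refine not_surj hF (by omega) (card_SU hF (by omega)) ?_ ?_ _
    · exact Nat.Coprime.prod_right fun i _ => coprime_ph hF _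
    · have h1 : m * (m - 1) / 2 + m = (m + 1) * (m + 1 - 1) / 2 := by
        obtain ⟨k, rfl⟩ : ∃ k, m = k + 1 := ⟨m - 1, by omega⟩
        rw [Nat.add_sub_cancel, Nat.add_sub_cancel, show (k + 1 + 1) * (k + 1) = (k + 1) * k + (k + 1) * 2 by ring,
          Nat.add_mul_div_right _ _ (by norm_num)]
      omega

end block

end Cfsg.Agent.H151.PQR
end
end

-- part: H528/PQR/RankOne_mg
section
prune_inst 0x4300045010d80020000040080410000a1290000000000000040840800010020020000800000000008080020000004002815001884220000000a840400000104010080840060810011860098000008010000100000000000000000000000000000210000000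
set_option linter.all false
open scoped Cfsg.Agent.FastGrp

-- part: H528/PQR/RankOne
section
/-!
# S3988 (helper562), rows of `PSL₂(q)`, `Sz(q)`, `²G₂(q)` (helper528)
-/

set_option autoImplicit false

namespace Cfsg.Agent.H528.PQR

open Cfsg Subgroup
open Cfsg.Agent.H562.PQR
open Cfsg.Agent.H80.Fpf (IsCover MultDvd)

/-- no elements of order `a r`: the centraliser of an element of order `a` has order prime to `r` -/
theorem not_dvd_cent {G : Type*} [Group G] [Finite G] {a r : ℕ} (ha : a.Prime) (hr : r.Prime) (har : a ≠ r)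
    (h : ¬ ∃ g : G, orderOf g = a * r) {x : G} (hx : orderOf x = a) :
    ¬ r ∣ Nat.card ↥(centralizer ({x} : Set G)) := by
  intro hd
  have : Fact r.Prime := ⟨hr⟩
  obtain ⟨u, hu⟩ := exists_prime_orderOf_dvd_card' r hd
  have hu1 : orderOf (u : G) = r := by rw [Subgroup.orderOf_coe]; exact hu
  have hc : Commute x (u : G) := (mem_centralizer_singleton_iff.1 u.2).symm
  refine h ⟨x * (u : G), ?_⟩
  rw [hc.orderOf_mul_eq_mul_orderOf_of_coprime (by rw [hx, hu1]; exact (Nat.coprime_primes ha hr).2 har), hx, hu1]

/-- triples `(a, b, c)` from regular elements of order `a`, `b` -/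
theorem trip_reg {G : Type*} [Group G] [Finite G] {r : ℕ} (hr : r.Prime) (hG : IsLieTypeChar r G) {a b c : ℕ}
    (ha : a.Prime) (hb : b.Prime) (hc : c.Prime) (hab : a ≠ b) (har : a ≠ r) (hbr : b ≠ r)
    (haG : a ∣ Nat.card G) (hbG : b ∣ Nat.card G) (hcG : c ∣ Nat.card G) (h1 : ¬ ∃ g : G, orderOf g = a * r)
    (h2 : ¬ ∃ g : G, orderOf g = b * r) : ∃ x y z : G, PE a x ∧ PE b y ∧ PE c z ∧ x * y * z = 1 := by
  have : Fact a.Prime := ⟨ha⟩
  have : Fact b.Prime := ⟨hb⟩
  obtain ⟨x, hx⟩ := exists_prime_orderOf_dvd_card' a haG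
  obtain ⟨y, hy⟩ := exists_prime_orderOf_dvd_card' b hbG
  have hx1 := not_dvd_cent ha hr har h1 hx
  have hy1 := not_dvd_cent hb hr hbr h2 hy
  by_cases hcr : c = r
  · subst hcr
    exact tri_char hr hG ha hb hab (PE.of_orderOf ha hx) (PE.of_orderOf hb hy) hx1 hy1
  · exact tri_reg hr hG hc hcr hcG (PE.of_orderOf ha hx) (PE.of_orderOf hb hy) hx1 hy1

section PSL

variable {F : Type} [Field F] [Fintype F]

local notation "L2" => Matrix.ProjectiveSpecialLinearGroup (Fin 2) F

theorem psl_no (r : ℕ) [Fact r.Prime] [CharP F r] {a : ℕ} (ha : a.Prime) : ¬ ∃ g : L2, orderOf g = a * r := by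
  have hr : r.Prime := Fact.out
  have hrq : r ∣ Fintype.card F := by
    obtain ⟨n, -, hn⟩ := FiniteField.card F r
    rw [hn]
    exact dvd_pow_self r n.2.ne'
  have hq := Fintype.one_lt_card (α := F)
  have hd : ∀ m : ℕ, m ∣ Fintype.card F + 1 ∨ m ∣ Fintype.card F - 1 → ¬ a * r ∣ m := by
    rintro m hm h
    have h1 : r ∣ m := (Dvd.intro_left a rfl).trans h
    rcases hm with hm | hm
    · have h2 := (Nat.dvd_add_right hrq).1 (h1.trans hm)
      exact hr.one_lt.ne' (Nat.dvd_one.1 h2)
    · have h2 := Nat.dvd_sub hrq (h1.trans hm)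
      rw [Nat.sub_sub_self hq.le] at h2
      exact hr.one_lt.ne' (Nat.dvd_one.1 h2)
  rintro ⟨g, hg⟩
  rcases Cfsg.Agent.H153.PrimeGraphThree.psl2_orders r g with h | h | h
  · rw [hg] at h
    have h1 := Nat.le_of_dvd hr.pos h
    have h2 := ha.two_le
    nlinarith only [h1, h2, hr.pos]
  · rw [hg] at h
    exact hd _ (Or.inl (Nat.div_dvd_of_dvd (by
      rcases Nat.even_or_odd (Fintype.card F) with h3 | h3
      · have h4 : Nat.gcd 2 (Fintype.card F - 1) = 1 := by
          exact Nat.coprime_two_left.2 (Nat.Even.sub_odd hq.le h3 odd_one)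
        rw [h4]; exact one_dvd _
      · have h4 : Nat.gcd 2 (Fintype.card F - 1) = 2 := Nat.gcd_eq_left (Nat.Odd.sub_odd h3 odd_one).two_dvd
        rw [h4]; exact (h3.add_odd odd_one).two_dvd))) h
  · rw [hg] at h
    exact hd _ (Or.inr (Nat.div_dvd_of_dvd (Nat.gcd_dvd_right _ _))) h

theorem isLie_psl {r : ℕ} [CharP F r] (h4 : 4 ≤ Fintype.card F) : IsLieTypeChar r L2 :=
  Or.inl ⟨F, inferInstance, inferInstance, inferInstance, 2, le_rfl, fun _ => h4, ⟨MulEquiv.refl _⟩⟩

/-- the primes dividing the order -/
theorem dvd_card_psl {s : ℕ} (hs : s.Prime) (hs2 : s ≠ 2) :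
    s ∣ Nat.card L2 ↔ s ∣ Fintype.card F * (Fintype.card F ^ 2 - 1) := by
  rw [← Cfsg.Agent.ClassicalGeometry.PSL2Basic.card_PSL2_gcd]
  refine ⟨fun h => h.mul_right _, fun h => ((Nat.Prime.dvd_mul hs).1 h).resolve_right fun h1 => ?_⟩
  have h2 := (Nat.prime_dvd_prime_iff_eq hs Nat.prime_two).1 (h1.trans (Nat.gcd_dvd_left _ _))
  exact hs2 h2

theorem two_dvd_psl : 2 ∣ Nat.card L2 := by
  rcases Nat.even_or_odd (Fintype.card F) with h | h
  · rw [Cfsg.Agent.ClassicalGeometry.PSL2Basic.card_PSL2_even F h]
    exact h.two_dvd.mul_right _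
  · have h1 := Cfsg.Agent.ClassicalGeometry.PSL2Basic.card_PSL2_odd (F := F) h
    obtain ⟨k, hk⟩ := h
    rw [hk] at h1
    have h2 : (2 * k + 1) ^ 2 - 1 = 4 * (k * (k + 1)) := by
      have : (2 * k + 1) ^ 2 = 4 * (k * (k + 1)) + 1 := by ring
      rw [this, Nat.add_sub_cancel]
    rw [h2] at h1
    obtain ⟨j, hj⟩ := (Nat.even_mul_succ_self k).two_dvd
    rw [hj] at h1
    refine ⟨(2 * k + 1) * (2 * j), ?_⟩
    have h3 : (2 * k + 1) * (4 * (2 * j)) = (2 * ((2 * k + 1) * (2 * j))) * 2 := by ring
    rw [h3] at h1
    exact Nat.eq_of_mul_eq_mul_right (by norm_num) h1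

/-- **the triples of `PSL₂(q)`** -/
theorem tripABC_psl (r : ℕ) [Fact r.Prime] [CharP F r] (h4 : 4 ≤ Fintype.card F) {a b : ℕ}
    (ha : a.Prime) (hb : b.Prime) (hab : a ≠ b) (har : a ≠ r) (hbr : b ≠ r)
    (haG : a ∣ Nat.card L2) (hbG : b ∣ Nat.card L2) : TripABC a b r L2 := by
  have hr : r.Prime := Fact.out
  have hG : IsLieTypeChar r L2 := isLie_psl h4
  have hrq : r ∣ Fintype.card F := by
    obtain ⟨n, -, hn⟩ := FiniteField.card F r
    rw [hn]
    exact dvd_pow_self r n.2.ne'
  have hrG : r ∣ Nat.card L2 := by
    by_cases hr2 : r = 2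
    · rw [hr2]; exact two_dvd_psl
    · exact (dvd_card_psl hr hr2).2 (hrq.mul_right _)
  obtain ⟨x, y, z, hx, hy, hz, h1⟩ := trip_reg hr hG ha hb hr hab har hbr haG hbG hrG
    (psl_no r ha) (psl_no r hb)
  by_cases hq : Fintype.card F = 4 ∨ Fintype.card F = 9
  · refine ⟨ha, hb, hr, hab, har, hbr, x, y, z, hx, hy, hz, h1, fun s hs hs2 h3 h4' h5 h6 => ?_⟩
    exfalso
    have key : ∀ t : ℕ, t.Prime → t ∣ Nat.card L2 → t = 2 ∨ t = 3 ∨ t = 5 := by
      intro t ht htG
      by_cases ht2 : t = 2
      · exact Or.inl ht2
      rw [dvd_card_psl ht ht2] at htG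
      rcases hq with hq | hq
      · rw [hq] at htG
        have h7 : t ∣ 2 ^ 2 * 3 * 5 := by
          have : 4 * (4 ^ 2 - 1) = 2 ^ 2 * 3 * 5 := by norm_num
          rwa [this] at htG
        rcases (Nat.Prime.dvd_mul ht).1 h7 with h8 | h8
        · rcases (Nat.Prime.dvd_mul ht).1 h8 with h9 | h9
          · exact Or.inl ((Nat.prime_dvd_prime_iff_eq ht Nat.prime_two).1 (ht.dvd_of_dvd_pow h9))
          · exact Or.inr (Or.inl ((Nat.prime_dvd_prime_iff_eq ht Nat.prime_three).1 h9))
        · exact Or.inr (Or.inr ((Nat.prime_dvd_prime_iff_eq ht Nat.prime_five).1 h8))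
      · rw [hq] at htG
        have h7 : t ∣ 3 ^ 2 * 2 ^ 4 * 5 := by
          have : 9 * (9 ^ 2 - 1) = 3 ^ 2 * 2 ^ 4 * 5 := by norm_num
          rwa [this] at htG
        rcases (Nat.Prime.dvd_mul ht).1 h7 with h8 | h8
        · rcases (Nat.Prime.dvd_mul ht).1 h8 with h9 | h9
          · exact Or.inr (Or.inl ((Nat.prime_dvd_prime_iff_eq ht Nat.prime_three).1 (ht.dvd_of_dvd_pow h9)))
          · exact Or.inl ((Nat.prime_dvd_prime_iff_eq ht Nat.prime_two).1 (ht.dvd_of_dvd_pow h9))
        · exact Or.inr (Or.inr ((Nat.prime_dvd_prime_iff_eq ht Nat.prime_five).1 h8))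
    have hr23 : r = 2 ∨ r = 3 := by
      rcases hq with hq | hq
      · rw [hq] at hrq
        exact Or.inl ((Nat.prime_dvd_prime_iff_eq hr Nat.prime_two).1 (hr.dvd_of_dvd_pow (show r ∣ 2 ^ 2 from hrq)))
      · rw [hq] at hrq
        exact Or.inr ((Nat.prime_dvd_prime_iff_eq hr Nat.prime_three).1 (hr.dvd_of_dvd_pow (show r ∣ 3 ^ 2 from hrq)))
    have k1 := key a ha haG
    have k2 := key b hb hbG
    have k3 := key s hs h6
    (clear * - hab har hbr h3 h4' h5 hr23 k1 k2 k3; (solve | lia | omega))
  · push Not at hq
    have hm : MultDvd L2 (Nat.gcd 2 (Fintype.card F - 1)) :=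
      Cfsg.Agent.H80.Fpf.multDvd_of_cyclic (Nat.gcd_pos_of_pos_left _ (by norm_num)).ne'
        (Cfsg.Agent.S2086.result rfl 2 le_rfl (fun _ => h4) (by
          simp only [Set.mem_insert_iff, Set.mem_singleton_iff, Prod.mk.injEq, not_or, not_and]
          refine ⟨fun _ => hq.1, fun _ => hq.2, ?_, ?_, ?_⟩ <;> intro h <;> omega))
    refine TripABC.of_mult hm (fun s hs hsm => ?_) ha hb hr hab har hbr hx hy hz h1
    exact Or.inl ((Nat.prime_dvd_prime_iff_eq hs Nat.prime_two).1 (hsm.trans (Nat.gcd_dvd_left _ _)))

/-- **S3988, the row `PSL₂(q)`** -/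
theorem row_psl2 (F : Type) [Field F] [Fintype F] (hF : 4 ≤ Fintype.card F) :
    Row (Matrix.ProjectiveSpecialLinearGroup (Fin 2) F) := by
  intro p hp hpG
  right
  obtain ⟨r, hchar⟩ := CharP.exists F
  have hr : r.Prime := CharP.char_is_prime F r
  have : Fact r.Prime := ⟨hr⟩
  have : Fact p.Prime := ⟨hp⟩
  have hrq : r ∣ Fintype.card F := by
    obtain ⟨n, -, hn⟩ := FiniteField.card F r
    rw [hn]
    exact dvd_pow_self r n.2.ne'
  have hq2 : Fintype.card F ^ 2 - 1 = (Fintype.card F + 1) * (Fintype.card F - 1) := by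
    have := Nat.sq_sub_sq (Fintype.card F) 1
    simpa only [_root_.one_pow] using this
  have hnr : ∀ s : ℕ, s.Prime → s ∣ Fintype.card F ^ 2 - 1 → s ≠ r := by
    rintro s hs hd rfl
    have h1 : s ∣ Fintype.card F ^ 2 := dvd_pow hrq two_ne_zero
    have h2 := Nat.dvd_sub h1 hd
    rw [Nat.sub_sub_self (Nat.one_le_pow _ _ (by omega))] at h2
    exact hs.one_lt.ne' (Nat.dvd_one.1 h2)
  by_cases hr2 : r = 2
  · -- even
    subst hr2
    have hev : Even (Fintype.card F) := even_iff_two_dvd.2 hrq
    have hm1 : Odd (Fintype.card F - 1) := Nat.Even.sub_odd (by omega) hev odd_one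
    have hp1 : Odd (Fintype.card F + 1) := hev.add_odd odd_one
    have hex : ∀ n : ℕ, n = Fintype.card F - 1 ∨ n = Fintype.card F + 1 → ∃ t : ℕ, t.Prime ∧ t ∣ n ∧ t ≠ 2 := by
      intro n hn
      refine ⟨n.minFac, Nat.minFac_prime (by omega), Nat.minFac_dvd n, fun h => ?_⟩
      have h1 : 2 ∣ n := by rw [← h]; exact Nat.minFac_dvd n
      rcases hn with rfl | rfl
      · exact (Nat.not_even_iff_odd.2 hm1) (even_iff_two_dvd.2 h1)
      · exact (Nat.not_even_iff_odd.2 hp1) (even_iff_two_dvd.2 h1)
    have hcop : ∀ s t : ℕ, s.Prime → s ∣ Fintype.card F - 1 → t ∣ Fintype.card F + 1 → s ≠ 2 → s ≠ t := by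
      rintro s t hs h1 h2 h3 rfl
      have h4 := Nat.dvd_sub h2 h1
      have h5 : Fintype.card F + 1 - (Fintype.card F - 1) = 2 := by omega
      rw [h5] at h4
      exact h3 ((Nat.prime_dvd_prime_iff_eq hs Nat.prime_two).1 h4)
    have hdv : ∀ s : ℕ, s.Prime → s ≠ 2 → (s ∣ Fintype.card F - 1 ∨ s ∣ Fintype.card F + 1) →
        s ∣ Nat.card (Matrix.ProjectiveSpecialLinearGroup (Fin 2) F) := by
      intro s hs hs2 h
      rw [dvd_card_psl hs hs2, hq2]
      rcases h with h | h
      · exact Dvd.dvd.mul_left (Dvd.dvd.mul_left h _) _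
      · exact Dvd.dvd.mul_left (Dvd.dvd.mul_right h _) _
    have main : ∀ s t : ℕ, s.Prime → t.Prime → s ∣ Fintype.card F - 1 → t ∣ Fintype.card F + 1 → s ≠ 2 → t ≠ 2 →
        TripABC s t 2 (Matrix.ProjectiveSpecialLinearGroup (Fin 2) F) := fun s t hs ht h1 h2 h3 h4 =>
      tripABC_psl 2 hF hs ht (hcop s t hs h1 h2 h3) h3 h4 (hdv s hs h3 (Or.inl h1)) (hdv t ht h4 (Or.inr h2))
    obtain ⟨s, hs, hs1, hs2⟩ := hex _ (Or.inl rfl)
    obtain ⟨t, ht, ht1, ht2⟩ := hex _ (Or.inr rfl)
    by_cases hp2 : p = 2
    · exact ⟨s, t, 2, Or.inr (Or.inr hp2), Or.inr (Or.inr rfl), main s t hs ht hs1 ht1 hs2 ht2⟩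
    rw [dvd_card_psl hp hp2, hq2] at hpG
    rcases (Nat.Prime.dvd_mul hp).1 hpG with h | h
    · obtain ⟨n, -, hn⟩ := FiniteField.card F 2
      rw [hn] at h
      exact absurd ((Nat.prime_dvd_prime_iff_eq hp Nat.prime_two).1 (hp.dvd_of_dvd_pow h)) hp2
    rcases (Nat.Prime.dvd_mul hp).1 h with h | h
    · exact ⟨s, p, 2, Or.inr (Or.inl rfl), Or.inr (Or.inr rfl), main s p hs hp hs1 h hs2 hp2⟩
    · exact ⟨p, t, 2, Or.inl rfl, Or.inr (Or.inr rfl), main p t hp ht h ht1 hp2 ht2⟩
  · -- odd
    have hodd : Odd (Fintype.card F) := by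
      obtain ⟨n, -, hn⟩ := FiniteField.card F r
      rw [hn]
      exact (hr.odd_of_ne_two hr2).pow
    have main : ∀ b : ℕ, b.Prime → b ≠ 2 → b ∣ Fintype.card F ^ 2 - 1 →
        TripABC 2 b r (Matrix.ProjectiveSpecialLinearGroup (Fin 2) F) := fun b hb hb2 hd =>
      tripABC_psl r hF Nat.prime_two hb hb2.symm (Ne.symm hr2) (hnr b hb hd) two_dvd_psl
        ((dvd_card_psl hb hb2).2 (hd.mul_left _))
    by_cases hpb : p ≠ 2 ∧ p ∣ Fintype.card F ^ 2 - 1
    · exact ⟨2, p, r, Or.inr (Or.inl rfl), Or.inl rfl, main p hp hpb.1 hpb.2⟩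
    have hpr : p = 2 ∨ p = r := by
      by_cases hp2 : p = 2
      · exact Or.inl hp2
      right
      rw [dvd_card_psl hp hp2] at hpG
      rcases (Nat.Prime.dvd_mul hp).1 hpG with h | h
      · obtain ⟨n, -, hn⟩ := FiniteField.card F r
        rw [hn] at h
        exact (Nat.prime_dvd_prime_iff_eq hp hr).1 (hp.dvd_of_dvd_pow h)
      · exact absurd ⟨hp2, h⟩ hpb
    -- an odd prime dividing `q² - 1`
    obtain ⟨b, hb, hb2, hbd⟩ : ∃ b : ℕ, b.Prime ∧ b ≠ 2 ∧ b ∣ Fintype.card F ^ 2 - 1 := by
      by_contra hcon
      push Not at hcon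
      have hpow : ∀ n : ℕ, n ∣ Fintype.card F ^ 2 - 1 → n ≠ 0 → ∃ k : ℕ, n = 2 ^ k := by
        intro n hn hn0
        refine ⟨_, Nat.eq_prime_pow_of_unique_prime_dvd hn0 fun {d} hd hdn => ?_⟩
        by_contra h
        exact hcon d hd h (hdn.trans hn)
      obtain ⟨i, hi⟩ := hpow (Fintype.card F - 1) (by rw [hq2]; exact dvd_mul_left _ _) (by omega)
      obtain ⟨j, hj⟩ := hpow (Fintype.card F + 1) (by rw [hq2]; exact dvd_mul_right _ _) (by omega)
      have h4 : ¬ 4 ∣ Fintype.card F - 1 ∨ ¬ 4 ∣ Fintype.card F + 1 := by omega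
      have h5 : ∀ k n : ℕ, n = 2 ^ k → ¬ 4 ∣ n → n ≤ 2 := by
        intro k n hn h
        rcases Nat.lt_or_ge k 2 with hk | hk
        · interval_cases k <;> omega
        · exfalso
          apply h
          rw [hn, show (4 : ℕ) = 2 ^ 2 by norm_num]
          exact pow_dvd_pow 2 hk
      rcases h4 with h4 | h4
      · have := h5 i _ hi h4; omega
      · have := h5 j _ hj h4; omega
    refine ⟨2, b, r, ?_, Or.inl rfl, main b hb hb2 hbd⟩
    rcases hpr with h | h
    · exact Or.inl h
    · exact Or.inr (Or.inr h)

end PSL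

section Sz

theorem sz_no {S : Type} [Group S] [Finite S] (h : Cfsg.Lie.IsoSuzuki S) {a : ℕ} (ha : a.Prime) (ha2 : a ≠ 2) :
    ¬ ∃ g : S, orderOf g = a * 2 := by
  rintro ⟨g, hg⟩
  have h1 : orderOf (g ^ a) = 2 := by
    rw [orderOf_pow_of_dvd ha.ne_zero (by rw [hg]; exact dvd_mul_right _ _), hg, Nat.mul_div_cancel_left _ ha.pos]
  have h2 := Cfsg.Agent.SignalizersComponents.BalEndSz.isPGroup_centralizer_suzuki h h1
  have h3 : g ∈ centralizer ({g ^ a} : Set S) := by
    rw [mem_centralizer_singleton_iff]
    exact (Commute.pow_right (Commute.refl g) a).eq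
  obtain ⟨k, hk⟩ := h2 ⟨g, h3⟩
  have h4 : g ^ 2 ^ k = 1 := congrArg Subtype.val hk
  have h5 := orderOf_dvd_of_pow_eq_one h4
  rw [hg] at h5
  exact ha2 ((Nat.prime_dvd_prime_iff_eq ha Nat.prime_two).1 (ha.dvd_of_dvd_pow ((dvd_mul_right a 2).trans h5)))

/-- **S3988, the row of the Suzuki groups** -/
theorem row_sz {S : Type} [Group S] (h : Cfsg.Lie.IsoSuzuki S) : Row S := by
  obtain ⟨F, iF, iF', m, hm, hF, ⟨e⟩⟩ := h
  refine Row.congr e.symm ?_
  have hiso : Cfsg.Lie.IsoSuzuki ↥(Cfsg.Lie.Sz F (2 ^ (m + 1))) := ⟨F, iF, iF', m, hm, hF, ⟨MulEquiv.refl _⟩⟩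
  have hG : IsLieTypeChar 2 ↥(Cfsg.Lie.Sz F (2 ^ (m + 1))) := by
    unfold IsLieTypeChar
    (clear * - hiso; tauto)
  have hcard := (Cfsg.Agent.S1163.result hm hF).1
  generalize hQ : 2 ^ (2 * m + 1) = q at hcard
  have hq8 : 8 ≤ q := by
    rw [← hQ]
    calc 8 = 2 ^ 3 := by norm_num
      _ ≤ 2 ^ (2 * m + 1) := Nat.pow_le_pow_right (by norm_num) (by omega)
  have hev : Even q := by rw [← hQ]; exact Nat.even_pow.2 ⟨even_two, by omega⟩
  have hm1 : Odd (q - 1) := Nat.Even.sub_odd (by omega) hev odd_one
  have hp1 : Odd (q ^ 2 + 1) := (hev.pow_of_ne_zero two_ne_zero).add_odd odd_one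
  have hmult : ∃ n : ℕ, (∀ s : ℕ, s.Prime → s ∣ n → s = 2) ∧ MultDvd ↥(Cfsg.Lie.Sz F (2 ^ (m + 1))) n := by
    rcases Nat.lt_or_ge m 2 with h2 | h2
    · obtain rfl : m = 1 := by omega
      refine ⟨Nat.card (Multiplicative (ZMod 2 × ZMod 2)), fun s hs hd => ?_,
        Cfsg.Agent.H80.Fpf.multDvd_of (Cfsg.Agent.S2112.result (by rw [hF]; norm_num))⟩
      rw [Nat.card_congr Multiplicative.toAdd, Nat.card_prod, Nat.card_zmod] at hd
      exact (Nat.prime_dvd_prime_iff_eq hs Nat.prime_two).1 (hs.dvd_of_dvd_pow (show s ∣ 2 ^ 2 from hd))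
    · exact ⟨1, fun s hs hd => absurd (Nat.dvd_one.1 hd) hs.one_lt.ne',
        Cfsg.Agent.H80.Fpf.multDvd_of_cyclic one_ne_zero (Cfsg.Agent.S2111.result h2 hF)⟩
  obtain ⟨n, hn, hM⟩ := hmult
  have main : ∀ a b : ℕ, a.Prime → b.Prime → a ∣ q - 1 → b ∣ q ^ 2 + 1 →
      TripABC a b 2 ↥(Cfsg.Lie.Sz F (2 ^ (m + 1))) := by
    intro a b ha hb ha1 hb1
    have ha2 : a ≠ 2 := by
      rintro rfl
      exact (Nat.not_even_iff_odd.2 hm1) (even_iff_two_dvd.2 ha1)
    have hb2 : b ≠ 2 := by
      rintro rfl
      exact (Nat.not_even_iff_odd.2 hp1) (even_iff_two_dvd.2 hb1)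
    have hab : a ≠ b := by
      rintro rfl
      have h1 : q ^ 2 + 1 = (q - 1) * (q + 1) + 2 := by
        obtain ⟨k, rfl⟩ : ∃ k, q = k + 1 := ⟨q - 1, by omega⟩
        rw [Nat.add_sub_cancel]; ring
      rw [h1] at hb1
      have h2 := (Nat.dvd_add_right (ha1.mul_right (q + 1))).1 hb1
      exact ha2 ((Nat.prime_dvd_prime_iff_eq ha Nat.prime_two).1 h2)
    have haG : a ∣ Nat.card ↥(Cfsg.Lie.Sz F (2 ^ (m + 1))) := by
      rw [hcard]; exact (ha1.mul_left _).mul_right _
    have hbG : b ∣ Nat.card ↥(Cfsg.Lie.Sz F (2 ^ (m + 1))) := by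
      rw [hcard]; exact hb1.mul_left _
    have h2G : 2 ∣ Nat.card ↥(Cfsg.Lie.Sz F (2 ^ (m + 1))) := by
      rw [hcard]; exact ((dvd_pow hev.two_dvd two_ne_zero).mul_right _).mul_right _
    obtain ⟨x, y, z, hx, hy, hz, h1⟩ := trip_reg Nat.prime_two hG ha hb Nat.prime_two hab ha2 hb2
      haG hbG h2G (sz_no hiso ha ha2) (sz_no hiso hb hb2)
    exact TripABC.of_mult hM (fun s hs hsm => Or.inl (hn s hs hsm)) ha hb Nat.prime_two hab ha2 hb2 hx hy hz h1
  intro p hp hpG
  right
  have ha := Nat.minFac_prime (n := q - 1) (by omega)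
  have hb := Nat.minFac_prime (n := q ^ 2 + 1) (by
    have : 0 < q ^ 2 := by positivity
    omega)
  rw [hcard] at hpG
  rcases (Nat.Prime.dvd_mul hp).1 hpG with h | h
  · rcases (Nat.Prime.dvd_mul hp).1 h with h | h
    · rw [← hQ] at h
      have hp2 : p = 2 := (Nat.prime_dvd_prime_iff_eq hp Nat.prime_two).1 (hp.dvd_of_dvd_pow (hp.dvd_of_dvd_pow h))
      exact ⟨_, _, 2, Or.inr (Or.inr hp2), Or.inr (Or.inr rfl),
        main _ _ ha hb (Nat.minFac_dvd _) (Nat.minFac_dvd _)⟩
    · exact ⟨p, _, 2, Or.inl rfl, Or.inr (Or.inr rfl), main _ _ hp hb h (Nat.minFac_dvd _)⟩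
  · exact ⟨_, p, 2, Or.inr (Or.inl rfl), Or.inr (Or.inr rfl), main _ _ ha hp (Nat.minFac_dvd _) h⟩

end Sz

section Ree

/-- **S3988, the row of the small Ree groups** -/
theorem row_ree {S : Type} [Group S] (h : Cfsg.Lie.IsoRee S) : RowOdd S := by
  obtain ⟨K, iK, iK', m, hm, hK, ⟨e⟩⟩ := h
  refine RowOdd.congr e.symm ?_
  have hG : IsLieTypeChar 3 ↥(Cfsg.Lie.twistedG2 K (3 ^ m)) := by
    have : Cfsg.Lie.IsoRee ↥(Cfsg.Lie.twistedG2 K (3 ^ m)) := ⟨K, iK, iK', m, hm, hK, ⟨MulEquiv.refl _⟩⟩
    unfold IsLieTypeChar
    (clear * - this; tauto)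
  have hfin : Finite ↥(Cfsg.Lie.twistedG2 K (3 ^ m)) := Cfsg.Agent.H57.TTRee.finite_ree hK
  have hcard := Cfsg.Agent.ChevalleyStructure.ReeCount.card_twistedG2 (m := m) hK
  have hM : MultDvd ↥(Cfsg.Lie.twistedG2 K (3 ^ m)) 1 :=
    Cfsg.Agent.H80.Fpf.multDvd_of_cyclic one_ne_zero (Cfsg.Agent.S2113.result hm hK)
  have hq27 : 27 ≤ 3 ^ (2 * m + 1) := by
    calc 27 = 3 ^ 3 := by norm_num
      _ ≤ 3 ^ (2 * m + 1) := Nat.pow_le_pow_right (by norm_num) (by omega)
  have h3q : 3 ∣ 3 ^ (2 * m + 1) := dvd_pow_self 3 (by omega)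
  have h3r : 3 ∣ 3 ^ (m + 1) := dvd_pow_self 3 (by omega)
  have hr_le : 3 ^ (m + 1) ≤ 3 ^ (2 * m + 1) := Nat.pow_le_pow_right (by norm_num) (by omega)
  have hmod : 3 ^ (2 * m + 1) % 4 = 3 := by
    rw [pow_succ, pow_mul, Nat.mul_mod, Nat.pow_mod]
    norm_num
  have hno : ∀ a : ℕ, a.Prime → a ≠ 2 → a ≠ 3 → ¬ ∃ g : ↥(Cfsg.Lie.twistedG2 K (3 ^ m)), orderOf g = a * 3 := by
    intro a ha ha2 ha3 h1
    rw [Cfsg.Agent.S1159.result hm hK] at h1
    rcases h1 with h1 | h1 | h1 | h1 | h1 | h1
    · have h2 : a ∣ 2 := Nat.dvd_of_mul_dvd_mul_right (k := 3) (by norm_num) (by simpa only [_root_.Nat.reduceMul] using h1)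
      exact ha2 ((Nat.prime_dvd_prime_iff_eq ha Nat.prime_two).1 h2)
    · have h2 : a ∣ 3 := Nat.dvd_of_mul_dvd_mul_right (k := 3) (by norm_num) (by simpa only [_root_.Nat.reduceMul] using h1)
      exact ha3 ((Nat.prime_dvd_prime_iff_eq ha Nat.prime_three).1 h2)
    · have h2 : 3 ∣ 3 ^ (2 * m + 1) - 1 := (dvd_mul_left 3 a).trans h1
      (clear * - hq27 h2; omega)
    · have h2 : 3 ∣ 3 ^ (2 * m + 1) + 1 :=
        ((dvd_mul_left 3 a).trans h1).trans (Nat.div_dvd_of_dvd (by (clear * - hmod; omega)))
      omega
    · have h2 : 3 ∣ 3 ^ (2 * m + 1) - 3 ^ (m + 1) + 1 := (dvd_mul_left 3 a).trans h1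
      (clear * - h2; omega)
    · have h2 : 3 ∣ 3 ^ (2 * m + 1) + 3 ^ (m + 1) + 1 := (dvd_mul_left 3 a).trans h1
      (clear * - h2; omega)
  generalize hQ : 3 ^ (2 * m + 1) = q at hcard hq27 h3q hmod
  clear hr_le h3r
  have h3 : q ^ 3 + 1 = (q + 1) * (q * (q - 1) + 1) := by
    obtain ⟨k, rfl⟩ : ∃ k, q = k + 1 := ⟨q - 1, by (clear * - hmod; omega)⟩
    rw [Nat.add_sub_cancel]; ring
  have main : ∀ a b : ℕ, a.Prime → b.Prime → a ≠ b → a ≠ 2 → a ≠ 3 → b ≠ 2 → b ≠ 3 →
      a ∣ Nat.card ↥(Cfsg.Lie.twistedG2 K (3 ^ m)) → b ∣ Nat.card ↥(Cfsg.Lie.twistedG2 K (3 ^ m)) →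
      TripABC a b 2 ↥(Cfsg.Lie.twistedG2 K (3 ^ m)) := by
    intro a b ha hb hab ha2 ha3 hb2 hb3 haG hbG
    have h2G : 2 ∣ Nat.card ↥(Cfsg.Lie.twistedG2 K (3 ^ m)) := by
      rw [hcard]
      have h1 : 2 ∣ q - 1 := by (clear * - hmod; omega)
      exact (h1.mul_left _).mul_right _
    obtain ⟨x, y, z, hx, hy, hz, h1⟩ := trip_reg Nat.prime_three hG ha hb Nat.prime_two hab ha3 hb3
      haG hbG h2G (hno a ha ha2 ha3) (hno b hb hb2 hb3)
    exact TripABC.of_mult hM (fun s hs hsm => absurd (Nat.dvd_one.1 hsm) hs.one_lt.ne') ha hb Nat.prime_two hab ha2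
      hb2 hx hy hz h1
  intro p hp hp2 hpG
  by_cases hp3 : p = 3
  · -- `PSL₂(q)`
    left
    subst hp3
    have : Fact (Nat.Prime 3) := ⟨Nat.prime_three⟩
    obtain ⟨t, ht⟩ : ∃ t : ↥(Cfsg.Lie.twistedG2 K (3 ^ m)), orderOf t = 2 := by
      have : Fact (Nat.Prime 2) := ⟨Nat.prime_two⟩
      apply exists_prime_orderOf_dvd_card' 2
      rw [hcard]
      have h1 : 2 ∣ q - 1 := by (clear * - hmod; omega)
      exact (h1.mul_left _).mul_right _
    obtain ⟨f⟩ := Cfsg.Agent.H57.TTRee.ree_cent hm hK t ht
    have hKq : Fintype.card K = q := by rw [hK, hQ]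
    have hodd : Odd (Fintype.card K) := by rw [hKq, Nat.odd_iff]; (clear * - hmod; omega)
    have hP := Cfsg.Agent.ClassicalGeometry.PSL2Basic.card_PSL2_odd (F := K) hodd
    let g : Matrix.ProjectiveSpecialLinearGroup (Fin 2) K →* ↥(Cfsg.Lie.twistedG2 K (3 ^ m)) :=
      (Subgroup.subtype _).comp (f.symm.toMonoidHom.comp (MonoidHom.inl _ _))
    have hg : Function.Injective g := by
      intro x y hxy
      have h1 := f.symm.injective (Subtype.val_injective hxy)
      exact (Prod.mk.inj h1).1
    have hPf : Finite (Matrix.ProjectiveSpecialLinearGroup (Fin 2) K) := Finite.of_injective g hg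
    have hd : 3 ∣ Nat.card (Matrix.ProjectiveSpecialLinearGroup (Fin 2) K) := by
      rw [dvd_card_psl Nat.prime_three (by norm_num), hKq]
      exact h3q.mul_right _
    have hsim : IsSimpleGroup (Matrix.ProjectiveSpecialLinearGroup (Fin 2) K) :=
      Cfsg.Agent.TwoFusion.SLTwoFacts.isSimpleGroup_psl (by (clear * - hK hQ hq27; omega))
    have hna : ∃ x y : Matrix.ProjectiveSpecialLinearGroup (Fin 2) K, x * y ≠ y * x := by
      by_contra hcon
      push Not at hcon
      exact Cfsg.Agent.ClassicalGeometry.PSL2Solvable.not_isSolvable_psl K (by (clear * - hK hQ hq27; omega)) (Group.isSolvable_of_comm hcon)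
    refine NotMin.of_injective g hg (not_isPSolvable_of_simple hna Nat.prime_three hd) ?_
    rw [hcard]
    have h1 : Nat.card (Matrix.ProjectiveSpecialLinearGroup (Fin 2) K) ≤ q * (q ^ 2 - 1) := by
      rw [hKq] at hP; omega
    have h2 : q * (q ^ 2 - 1) < q ^ 3 := by
      have : q * (q ^ 2 - 1) + q = q ^ 3 := by
        have h4 : 1 ≤ q ^ 2 := Nat.one_le_pow _ _ (by (clear * - hmod; omega))
        obtain ⟨k, hk⟩ : ∃ k, q ^ 2 = k + 1 := ⟨q ^ 2 - 1, by omega⟩
        rw [hk, Nat.add_sub_cancel, pow_succ, hk]; ring
      (clear * - hmod this; omega)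
    have h4 : q ^ 3 ≤ q ^ 3 * (q - 1) * (q ^ 3 + 1) := by
      rw [mul_assoc]
      exact Nat.le_mul_of_pos_right _ (Nat.mul_pos (by (clear * - hmod; omega)) (by positivity))
    omega
  · right
    have hb1 := Nat.minFac_prime (n := (q - 1) / 2) (by (clear * - hq27; omega))
    have hb2 := Nat.minFac_prime (n := q * (q - 1) + 1) (by
      have : 0 < q * (q - 1) := Nat.mul_pos (by omega) (by (clear * - hmod; omega))
      omega)
    have hd1 := Nat.minFac_dvd ((q - 1) / 2)
    have hd2 := Nat.minFac_dvd (q * (q - 1) + 1)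
    generalize ((q - 1) / 2).minFac = b1 at hb1 hd1
    generalize (q * (q - 1) + 1).minFac = b2 at hb2 hd2
    have hd1' : b1 ∣ q - 1 := hd1.trans (Nat.div_dvd_of_dvd (by (clear * - hmod; omega)))
    have h12 : b1 ≠ 2 := by
      rintro rfl
      (clear * - hmod hd1; omega)
    have h13 : b1 ≠ 3 := by
      rintro rfl
      (clear * - hQ hmod hd1'; omega)
    have h22 : b2 ≠ 2 := by
      rintro rfl
      have h1 : 2 ∣ q * (q - 1) := (by (clear * - hmod; omega) : 2 ∣ q - 1).mul_left _
      omega
    have h23 : b2 ≠ 3 := by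
      rintro rfl
      have h1 : 3 ∣ q * (q - 1) := h3q.mul_right _
      omega
    have h12' : b1 ≠ b2 := by
      rintro rfl
      have h1 := (Nat.dvd_add_right (hd1'.mul_left q)).1 hd2
      exact hb1.one_lt.ne' (Nat.dvd_one.1 h1)
    have hG1 : b1 ∣ Nat.card ↥(Cfsg.Lie.twistedG2 K (3 ^ m)) := by
      rw [hcard]; exact (hd1'.mul_left _).mul_right _
    have hG2 : b2 ∣ Nat.card ↥(Cfsg.Lie.twistedG2 K (3 ^ m)) := by
      rw [hcard, h3]; exact (hd2.mul_left _).mul_left _
    by_cases hpb : p = b1
    · exact ⟨p, b2, 2, Or.inl rfl, Or.inr (Or.inr rfl), main p b2 hp hb2 (by rw [hpb]; exact h12') hp2 hp3 h22 h23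
        hpG hG2⟩
    · exact ⟨p, b1, 2, Or.inl rfl, Or.inr (Or.inr rfl), main p b1 hp hb1 hpb hp2 hp3 h12 h13 hpG hG1⟩

end Ree

end Cfsg.Agent.H528.PQR
end

-- part: H151/PQR/Comp
section
/-!
# `SU_k(q ^ m)` in `PSU_{km}(q)`, `m` odd (helper151, for S3988)
-/

set_option autoImplicit false
set_option linter.unusedSectionVars false

namespace Cfsg.Agent.H151.PQR

open Cfsg Matrix
open Cfsg.Agent.H948.UBase Cfsg.Agent.H948.UProd Cfsg.Agent.H948.UTorus
open Cfsg.Agent.LieClassical.HermBasic
open Cfsg.Agent.Phan (mat mat_mul mat_one mat_inj mat_isom)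
open Cfsg.Agent.ClassicalGeometry.PSUAutBasic (pr pr_eq_one_iff)
open Cfsg.Agent.H562.PQR (NotMin)

variable {F : Type} [Field F] [Fintype F] {q k m : ℕ} {L : Type} [Field L] [Fintype L] [Algebra F L]

/-- the form -/
noncomputable def trB (k : ℕ) (L : Type) [Field L] [Fintype L] [Algebra F L] (hF : Fintype.card F = q ^ 2) (hm : Odd m) :
    (Fin k → L) →ₛₗ[cj hF] (Fin k → L) →ₗ[F] F :=
  LinearMap.mk₂'ₛₗ (cj hF) (RingHom.id F)
    (fun x y => ∑ i, Algebra.trace F L (x i ^ q ^ m * y i))
    (fun x y z => by
      rw [← Finset.sum_add_distrib]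
      exact Finset.sum_congr rfl fun i _ => by rw [Pi.add_apply, add_pow_qe hF, add_mul, map_add])
    (fun c x y => by
      rw [Finset.smul_sum]
      refine Finset.sum_congr rfl fun i _ => ?_
      rw [Pi.smul_apply, Algebra.smul_def, mul_pow, ← map_pow, pow_odd hF _ hm, mul_assoc, ← Algebra.smul_def, map_smul]
      rfl)
    (fun x y z => by
      rw [← Finset.sum_add_distrib]
      exact Finset.sum_congr rfl fun i _ => by rw [Pi.add_apply, mul_add, map_add])
    (fun c x y => by
      rw [Finset.smul_sum]
      refine Finset.sum_congr rfl fun i _ => ?_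
      rw [Pi.smul_apply, mul_smul_comm, map_smul]
      rfl)

theorem trB_apply (hF : Fintype.card F = q ^ 2) (hm : Odd m) (x y : Fin k → L) :
    trB k L hF hm x y = ∑ i, Algebra.trace F L (x i ^ q ^ m * y i) := rfl

theorem trB_eq (hF : Fintype.card F = q ^ 2) (hm : Odd m) (x y : Fin k → L) :
    trB k L hF hm x y = Algebra.trace F L (hermForm k L (q ^ m) y x) := by
  rw [trB_apply, hermForm, map_sum]
  exact Finset.sum_congr rfl fun i _ => by rw [mul_comm]

theorem isHerm_trB (hF : Fintype.card F = q ^ 2) (hm : Odd m) (hL : Fintype.card L = (q ^ m) ^ 2) :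
    IsHerm hF (trB k L hF hm) where
  symm := ⟨fun x y => by
    rw [trB_apply, trB_apply, map_sum]
    refine Finset.sum_congr rfl fun i _ => ?_
    rw [trace_odd hF hm, mul_pow, pow_q_pow_q hL, mul_comm]⟩
  sep := fun x h => by
    funext i
    have h1 := eq_zero_of_trace (F := F) (x := x i ^ q ^ m) (fun y => by
      have h2 := h (Pi.single i y)
      rw [trB_apply, Finset.sum_eq_single i] at h2
      · rwa [Pi.single_eq_same] at h2
      · intro j _ hj
        rw [Pi.single_eq_of_ne hj, mul_zero, map_zero]
      · intro h3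
        exact absurd (Finset.mem_univ i) h3)
    exact (pow_eq_zero_iff (q_pos hL).ne').1 h1

/-- the representation of `SU_k(q ^ m)` -/
noncomputable def resρ (k : ℕ) (F : Type) [Field F] (L : Type) [Field L] [Algebra F L] (Q : ℕ) :
    SU k L Q →* Module.End F (Fin k → L) where
  toFun g := (Matrix.toLin' (mat g)).restrictScalars F
  map_one' := by rw [mat_one, Matrix.toLin'_one]; rfl
  map_mul' g h := by rw [mat_mul, Matrix.toLin'_mul]; rfl

theorem resρ_apply (Q : ℕ) (g : SU k L Q) (x : Fin k → L) : resρ k F L Q g x = mat g *ᵥ x := rfl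

theorem resρ_injective (Q : ℕ) : Function.Injective (resρ k F L Q) := by
  intro g h hgh
  apply mat_inj
  apply Matrix.toLin'.injective
  refine LinearMap.ext fun v => ?_
  exact LinearMap.congr_fun hgh v

theorem iso_resρ (hF : Fintype.card F = q ^ 2) (hm : Odd m) (g : SU k L (q ^ m)) :
    Iso (trB k L hF hm) (resρ k F L (q ^ m) g) := by
  intro x y
  rw [trB_eq, trB_eq, resρ_apply, resρ_apply]
  exact congrArg _ ((Cfsg.Agent.LieClassical.SUBasic.mem_SU_iff _).1 g.2 y x)

/-- **`SU_k(q ^ m)`** -/
theorem notMin_comp (hF : Fintype.card F = q ^ 2) (hk : 3 ≤ k) (hm : Odd m) (hm3 : 3 ≤ m)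
    (hL : Fintype.card L = (q ^ m) ^ 2) (hdim : Module.finrank F L = m)
    (hna : ∃ x y : PSU k L (q ^ m), x * y ≠ y * x) {p : ℕ} (hp : p.Prime)
    (hd : p ∣ Nat.card (PSU k L (q ^ m))) : NotMin p (PSU (k * m) F q) := by
  have hq := two_le hF
  have h32 : ¬ (k = 3 ∧ q ^ m = 2) := by
    rintro ⟨-, h⟩
    have h1 : 2 ^ 3 ≤ q ^ m := (Nat.pow_le_pow_left hq 3).trans (Nat.pow_le_pow_right (by omega) hm3)
    omega
  have : IsSimpleGroup (SU k L (q ^ m) ⧸ Subgroup.center (SU k L (q ^ m))) := Cfsg.Agent.S0283.result hL k hk h32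
  have hfin : Module.Finite F L := Module.finite_of_finrank_pos (by omega)
  refine notMin_rep (isHerm_trB (k := k) (L := L) hF hm hL) ?_ (by nlinarith only [hk, hm3])
    (Cfsg.Agent.LieClassical.HermPerfect.commutator_SU_eq_top hL hk h32) (resρ k F L (q ^ m))
    (resρ_injective _) (iso_resρ hF hm) hna hp hd (b := m * (k * (k - 1) / 2))
    (M := ∏ i ∈ Finset.range (k - 1), ph (q ^ m) (i + 1)) ?_ ?_ ?_
  · rw [Module.finrank_pi_fintype, Finset.sum_const, hdim, Finset.card_univ, Fintype.card_fin, smul_eq_mul]
  · rw [card_SU hL (by omega), ← pow_mul]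
  · refine Nat.Coprime.prod_right fun i _ => ?_
    exact Nat.Coprime.coprime_dvd_left (dvd_pow_self q (by omega)) (coprime_ph hL _)
  · obtain ⟨j, rfl⟩ : ∃ j, k = j + 1 := ⟨k - 1, by omega⟩
    rw [Nat.add_sub_cancel]
    have h1 : 2 * ((j + 1) * j / 2) = (j + 1) * j := Nat.mul_div_cancel' (by rw [mul_comm]; exact (Nat.even_mul_succ_self j).two_dvd)
    have h2 : 2 * ((j + 1) * m * ((j + 1) * m - 1) / 2) = (j + 1) * m * ((j + 1) * m - 1) := by
      refine Nat.mul_div_cancel' ?_
      have := Nat.even_mul_pred_self ((j + 1) * m)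
      exact this.two_dvd
    have h3 : (j + 1) * m * j < (j + 1) * m * ((j + 1) * m - 1) := by
      refine Nat.mul_lt_mul_of_pos_left ?_ (by positivity)
      have : (j + 1) * 3 ≤ (j + 1) * m := Nat.mul_le_mul_left _ hm3
      omega
    have h4 : 2 * (m * ((j + 1) * j / 2)) = (j + 1) * m * j := by
      rw [mul_left_comm, h1]; ring
    omega

end Cfsg.Agent.H151.PQR
end

-- part: H151/PQR/Even
section
/-!
# `SL_m(q²)` in `PSU_{2m}(q)` (helper151, for S3988)
-/

set_option autoImplicit false
set_option linter.unusedSectionVars false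

namespace Cfsg.Agent.H151.PQR

open Cfsg Matrix
open Cfsg.Agent.H948.UBase Cfsg.Agent.H948.UProd Cfsg.Agent.H948.UTorus
open Cfsg.Agent.LieClassical.HermBasic
open Cfsg.Agent.ClassicalGeometry.PSUAutBasic (pr pr_eq_one_iff)
open Cfsg.Agent.H562.PQR (NotMin)

variable {F : Type} [Field F] [Fintype F] {m q : ℕ}

/-- conjugate inverse transpose -/
def ct (hF : Fintype.card F = q ^ 2) : _root_.Matrix.SpecialLinearGroup (Fin m) F →* Matrix (Fin m) (Fin m) F where
  toFun A := ((A⁻¹).1.map (cj hF))ᵀ
  map_one' := by
    rw [inv_one]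
    show ((1 : Matrix (Fin m) (Fin m) F).map (cj hF))ᵀ = 1
    rw [Matrix.map_one _ (map_zero _) (map_one _), Matrix.transpose_one]
  map_mul' A B := by
    rw [_root_.mul_inv_rev]
    show ((B⁻¹.1 * A⁻¹.1).map (cj hF))ᵀ = _
    rw [Matrix.map_mul, Matrix.transpose_mul]

theorem map_cj_cj (hF : Fintype.card F = q ^ 2) (M : Matrix (Fin m) (Fin m) F) : (M.map (cj hF)).map (cj hF) = M := by
  ext i j
  rw [Matrix.map_apply, Matrix.map_apply, cj_cj]

theorem transpose_mul_ct (hF : Fintype.card F = q ^ 2) (A : _root_.Matrix.SpecialLinearGroup (Fin m) F) :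
    (A.1.map (cj hF))ᵀ * ct hF A = 1 := by
  show (A.1.map (cj hF))ᵀ * ((A⁻¹).1.map (cj hF))ᵀ = 1
  rw [← Matrix.transpose_mul, ← Matrix.map_mul]
  have h : (A⁻¹).1 * A.1 = 1 := congrArg Subtype.val (inv_mul_cancel A)
  rw [h, Matrix.map_one _ (map_zero _) (map_one _), Matrix.transpose_one]

theorem ct_mul (hF : Fintype.card F = q ^ 2) (A : _root_.Matrix.SpecialLinearGroup (Fin m) F) :
    ((ct hF A).map (cj hF))ᵀ * A.1 = 1 := by
  show ((((A⁻¹).1.map (cj hF))ᵀ).map (cj hF))ᵀ * A.1 = 1
  rw [Matrix.transpose_map, Matrix.transpose_transpose, map_cj_cj]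
  exact congrArg Subtype.val (inv_mul_cancel A)

/-- the form -/
def evB (m : ℕ) (hF : Fintype.card F = q ^ 2) : ((Fin m → F) × (Fin m → F)) →ₛₗ[cj hF] ((Fin m → F) × (Fin m → F)) →ₗ[F] F :=
  LinearMap.mk₂'ₛₗ (cj hF) (RingHom.id F)
    (fun x y => (cj hF ∘ x.1) ⬝ᵥ y.2 + (cj hF ∘ x.2) ⬝ᵥ y.1)
    (fun x y z => by
      have h : ∀ u v : Fin m → F, cj hF ∘ (u + v) = cj hF ∘ u + cj hF ∘ v := fun u v => by
        funext i; exact map_add _ _ _
      rw [Prod.fst_add, Prod.snd_add, h, h, add_dotProduct, add_dotProduct]; abel)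
    (fun c x y => by
      have h : ∀ u : Fin m → F, cj hF ∘ (c • u) = cj hF c • (cj hF ∘ u) := fun u => by
        funext i; exact map_mul _ _ _
      rw [Prod.smul_fst, Prod.smul_snd, h, h, smul_dotProduct, smul_dotProduct, smul_add])
    (fun x y z => by rw [Prod.fst_add, Prod.snd_add, dotProduct_add, dotProduct_add]; abel)
    (fun c x y => by rw [Prod.smul_fst, Prod.smul_snd, dotProduct_smul, dotProduct_smul, ← smul_add]; rfl)

theorem evB_apply (hF : Fintype.card F = q ^ 2) (x y : (Fin m → F) × (Fin m → F)) :
    evB m hF x y = (cj hF ∘ x.1) ⬝ᵥ y.2 + (cj hF ∘ x.2) ⬝ᵥ y.1 := rfl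

theorem isHerm_evB (hF : Fintype.card F = q ^ 2) : IsHerm hF (evB m hF) where
  symm := ⟨fun x y => by
    have h : ∀ u v : Fin m → F, cj hF ((cj hF ∘ u) ⬝ᵥ v) = (cj hF ∘ v) ⬝ᵥ u := by
      intro u v
      rw [dotProduct_comm]
      unfold dotProduct
      rw [map_sum]
      refine Finset.sum_congr rfl fun i _ => ?_
      rw [map_mul]
      show cj hF (v i) * cj hF (cj hF (u i)) = _
      rw [cj_cj]
      rfl
    rw [evB_apply, evB_apply, map_add, h, h, add_comm]⟩
  sep := fun x h => by
    have h0 : ∀ u : Fin m → F, (∀ i, cj hF (u i) = 0) → u = 0 := fun u hu => by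
      funext i
      have h1 := congrArg (cj hF) (hu i)
      rwa [cj_cj, map_zero] at h1
    apply Prod.ext
    · refine h0 _ fun i => ?_
      have h1 := h (0, Pi.single i 1)
      rw [evB_apply] at h1
      simpa only [_root_.Cfsg.Agent.H948.UBase.cj_apply, _root_.pow_eq_zero_iff', _root_.ne_eq, _root_.dotProduct_single, _root_.Function.comp_apply, _root_.mul_one, _root_.dotProduct_zero, _root_.add_zero] using h1
    · refine h0 _ fun i => ?_
      have h1 := h (Pi.single i 1, 0)
      rw [evB_apply] at h1
      simpa only [_root_.Cfsg.Agent.H948.UBase.cj_apply, _root_.pow_eq_zero_iff', _root_.ne_eq, _root_.dotProduct_zero, _root_.dotProduct_single, _root_.Function.comp_apply, _root_.mul_one, _root_.zero_add] using h1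

/-- the representation of `SL_m(q²)` -/
noncomputable def evρ (m : ℕ) (hF : Fintype.card F = q ^ 2) :
    _root_.Matrix.SpecialLinearGroup (Fin m) F →* Module.End F ((Fin m → F) × (Fin m → F)) where
  toFun A := (Matrix.toLin' A.1).prodMap (Matrix.toLin' (ct hF A))
  map_one' := by
    rw [map_one, Matrix.toLin'_one]
    show (Matrix.toLin' (1 : Matrix (Fin m) (Fin m) F)).prodMap _ = _
    rw [Matrix.toLin'_one]
    exact LinearMap.prodMap_id
  map_mul' A B := by
    rw [map_mul, Matrix.toLin'_mul]
    show (Matrix.toLin' (A.1 * B.1)).prodMap _ = _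
    rw [Matrix.toLin'_mul]
    exact (LinearMap.prodMap_comp _ _ _ _).symm

theorem evρ_apply (hF : Fintype.card F = q ^ 2) (A : _root_.Matrix.SpecialLinearGroup (Fin m) F) (x : (Fin m → F) × (Fin m → F)) :
    evρ m hF A x = (A.1 *ᵥ x.1, ct hF A *ᵥ x.2) := rfl

theorem cj_comp_mulVec (hF : Fintype.card F = q ^ 2) (M : Matrix (Fin m) (Fin m) F) (v : Fin m → F) :
    cj hF ∘ (M *ᵥ v) = (M.map (cj hF)) *ᵥ (cj hF ∘ v) := by
  funext i
  exact RingHom.map_mulVec (cj hF) M v i

theorem iso_evρ (hF : Fintype.card F = q ^ 2) (A : _root_.Matrix.SpecialLinearGroup (Fin m) F) : Iso (evB m hF) (evρ m hF A) := by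
  intro x y
  rw [evB_apply, evB_apply, evρ_apply, evρ_apply]
  show (cj hF ∘ (A.1 *ᵥ x.1)) ⬝ᵥ (ct hF A *ᵥ y.2) + (cj hF ∘ (ct hF A *ᵥ x.2)) ⬝ᵥ (A.1 *ᵥ y.1) = _
  rw [cj_comp_mulVec, cj_comp_mulVec, Matrix.dotProduct_mulVec, Matrix.vecMul_mulVec, transpose_mul_ct,
    Matrix.dotProduct_mulVec, Matrix.vecMul_mulVec, ct_mul, Matrix.vecMul_one, Matrix.vecMul_one]

theorem evρ_injective (hF : Fintype.card F = q ^ 2) : Function.Injective (evρ m hF) := by
  intro A B h
  apply Subtype.ext
  apply Matrix.toLin'.injective
  refine LinearMap.ext fun v => ?_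
  have h1 := congrArg Prod.fst (LinearMap.congr_fun h (v, 0))
  exact h1

/-- **`SL_m(q²)`** -/
theorem notMin_even (hF : Fintype.card F = q ^ 2) (hm : 2 ≤ m)
    [IsSimpleGroup (ProjectiveSpecialLinearGroup (Fin m) F)]
    (hna : ∃ x y : ProjectiveSpecialLinearGroup (Fin m) F, x * y ≠ y * x) {p : ℕ} (hp : p.Prime)
    (hd : p ∣ Nat.card (ProjectiveSpecialLinearGroup (Fin m) F)) : NotMin p (PSU (2 * m) F q) := by
  have hq := two_le hF
  have h4 : 4 ≤ Fintype.card F := by rw [hF]; nlinarith only [hq]
  have h1 : m * (m - 1) + m * m = 2 * m * (2 * m - 1) / 2 := by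
    obtain ⟨k, rfl⟩ : ∃ k, m = k + 1 := ⟨m - 1, by omega⟩
    rw [mul_assoc, Nat.mul_div_cancel_left _ (by norm_num), Nat.add_sub_cancel,
      show 2 * (k + 1) - 1 = 2 * k + 1 by omega]
    ring
  refine notMin_rep (isHerm_evB hF) ?_ (by omega) (Cfsg.Agent.H982.TWModel.perfect_sl hm fun _ => h4) (evρ m hF)
    (evρ_injective hF) (iso_evρ hF) hna hp hd (b := m * (m - 1)) (M := ∏ j ∈ Finset.Icc 2 m, (Fintype.card F ^ j - 1)) ?_ ?_ ?_
  · rw [Module.finrank_prod, Module.finrank_fin_fun, two_mul]
  · rw [Cfsg.Agent.H953.card_SL m (by omega), hF, ← pow_mul, ← Finset.sum_range_id_mul_two, mul_comm 2]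
  · refine Nat.Coprime.prod_right fun j hj => ?_
    rw [hF, ← pow_mul]
    have := coprime_pred_pow (q := q) (by omega) (2 * j - 1)
    rwa [show 2 * j - 1 + 1 = 2 * j by have := (Finset.mem_Icc.1 hj).1; omega] at this
  · have : 0 < m * m := by positivity
    omega

end Cfsg.Agent.H151.PQR
end

-- part: H151/PQR/Arith
section
/-!
# The primes dividing `|PSU n F q|`; regular elements of `PSU n F q` (helper151, for S3988)
-/

set_option autoImplicit false
set_option linter.unusedSectionVars false

namespace Cfsg.Agent.H151.PQR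

open Cfsg Matrix
open Cfsg.Agent.H948.UProd
open Cfsg.Agent.LieClassical.HermBasic
open Cfsg.Agent.LieClassical.SUBasic (suDiag coe_suDiag)
open Cfsg.Agent.Phan (mat mat_mul mat_one mat_inj mat_isom emb)
open Cfsg.Agent.ClassicalGeometry.PSUAutBasic (pr pr_eq_one_iff)
open Cfsg.Agent.H562.PQR (PE)

theorem dvd_ph_iff {q : ℕ} (hq : 1 ≤ q) (p i : ℕ) : (p : ℤ) ∣ (-(q : ℤ)) ^ (i + 1) - 1 ↔ p ∣ ph q i := by
  unfold ph
  split_ifs with h
  · have h1 : (-(q : ℤ)) ^ (i + 1) - 1 = -((q ^ (i + 1) + 1 : ℕ) : ℤ) := by
      rw [(h.add_one).neg_pow]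
      push_cast
      ring
    rw [h1, dvd_neg, Int.natCast_dvd_natCast]
  · have h2 : Even (i + 1) := by rw [Nat.even_add_one]; exact h
    have h1 : (-(q : ℤ)) ^ (i + 1) - 1 = ((q ^ (i + 1) - 1 : ℕ) : ℤ) := by
      rw [h2.neg_pow, Nat.cast_sub (Nat.one_le_pow _ _ hq)]
      push_cast
      ring
    rw [h1, Int.natCast_dvd_natCast]

/-- the order of `-q` modulo `p` is at least `n` -/
def Ord (n q p : ℕ) : Prop := ∀ i, 0 < i → i < n → ¬ (p : ℤ) ∣ (-(q : ℤ)) ^ i - 1

section card

variable {F : Type} [Field F] [Fintype F] {m n q p : ℕ}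

theorem dvd_psu_of_su (hF : Fintype.card F = q ^ 2) (hm : 3 ≤ m) (hp : p.Prime) (hd : p ∣ Nat.card (SU m F q)) :
    p ∣ Nat.card (PSU m F q) := by
  have h := Cfsg.Agent.H341.ThreeList.card_psu hF (n := m) (by omega)
  have h1 : ∏ j ∈ Finset.range (m - 1), (if Even j then q ^ (j + 2) - 1 else q ^ (j + 2) + 1) =
      ∏ i ∈ Finset.range (m - 1), ph q (i + 1) := by
    refine Finset.prod_congr rfl fun j _ => ?_
    unfold ph
    by_cases hj : Even j
    · rw [if_pos hj, if_neg (by rw [Nat.even_add_one]; exact not_not.2 hj)]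
    · rw [if_neg hj, if_pos (by rw [Nat.even_add_one]; exact hj)]
  rw [h1, ← card_SU hF (by omega)] at h
  rw [← h] at hd
  rcases (Nat.Prime.dvd_mul hp).1 hd with h2 | h2
  · exact Cfsg.Agent.H254.PSUn.dvd_card hF hm (h2.trans (Nat.gcd_dvd_right _ _))
  · exact h2

theorem card_psu_dvd : Nat.card (PSU n F q) ∣ Nat.card (SU n F q) := Subgroup.card_quotient_dvd_card _

theorem dichotomy (hF : Fintype.card F = q ^ 2) (hn : 3 ≤ n) (hp : p.Prime) (hd : p ∣ Nat.card (PSU n F q)) :
    p ∣ Nat.card (SU (n - 1) F q) ∨ (¬ p ∣ q ∧ Ord n q p ∧ p ∣ ph q (n - 1)) := by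
  have hq := two_le hF
  by_cases h1 : p ∣ q
  · left
    rw [card_SU hF (by omega)]
    refine Dvd.dvd.mul_right (h1.trans (dvd_pow_self q ?_)) _
    intro h2
    have h3 : 2 * 1 ≤ (n - 1) * (n - 1 - 1) := Nat.mul_le_mul (by omega) (by omega)
    omega
  by_cases h2 : ∃ i, i < n - 1 ∧ p ∣ ph q i
  · obtain ⟨i, hi, h3⟩ := h2
    exact Or.inl (dvd_card_SU hF (by omega) hi h3)
  push Not at h2
  right
  refine ⟨h1, fun i hi0 hi h3 => ?_, ?_⟩
  · obtain ⟨j, rfl⟩ : ∃ j, i = j + 1 := ⟨i - 1, by omega⟩
    rw [dvd_ph_iff (by omega)] at h3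
    exact h2 j (by omega) h3
  · rcases prime_dvd_card_PSU hF (by omega) hp hd with h3 | ⟨i, hi, h3⟩
    · exact absurd h3 h1
    · have : i = n - 1 := by
        by_contra h4
        exact h2 i (by omega) h3
      rwa [this] at h3

/-- `p ≠ n` -/
theorem Ord.ne (hn : 2 ≤ n) (hp : p.Prime) (ho : Ord n q p) (hd : (p : ℤ) ∣ (-(q : ℤ)) ^ n - 1) : p ≠ n := by
  rintro rfl
  have := Fact.mk hp
  apply ho 1 one_pos (by omega)
  rw [← ZMod.intCast_zmod_eq_zero_iff_dvd] at hd ⊢
  push_cast at hd ⊢
  rw [ZMod.pow_card] at hd
  rw [pow_one]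
  exact hd

/-- a prime `b` for which `-q` has order `2 h`, `q` a multiple of ... -/
theorem exists_ord {q N : ℕ} (hq : 3 ≤ q) (hN : Even N) (hN4 : 4 ≤ N) :
    ∃ b : ℕ, b.Prime ∧ b ≠ 2 ∧ ¬ b ∣ q ∧ Ord N q b ∧ (b : ℤ) ∣ (-(q : ℤ)) ^ N - 1 := by
  have key : ∀ (b i : ℕ), (b : ℤ) ∣ (-(q : ℤ)) ^ i - 1 ↔ (-(q : ZMod b)) ^ i = 1 := by
    intro b i
    rw [← ZMod.intCast_zmod_eq_zero_iff_dvd]
    push_cast
    exact sub_eq_zero
  have hnq : ∀ (b h : ℕ), b.Prime → orderOf (q : ZMod b) = h → 2 ≤ h → ¬ b ∣ q := by
    intro b h hb hbo hh hd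
    have h1 : (q : ZMod b) = 0 := (ZMod.natCast_eq_zero_iff _ _).2 hd
    have := Fact.mk hb
    have h2 : orderOf (0 : ZMod b) = 0 := by
      rw [orderOf_eq_zero_iff']
      intro k hk h3
      rw [zero_pow hk.ne'] at h3
      exact zero_ne_one h3
    rw [h1, h2] at hbo
    omega
  have hb2 : ∀ (b h : ℕ), b.Prime → orderOf (q : ZMod b) = h → 2 ≤ h → b ≠ 2 := by
    intro b h hb hbo hh h2
    have h3 := Cfsg.Agent.Lib.Zsigmondy.orderOf_dvd_pred hb (hnq b h hb hbo hh)
    rw [hbo, h2] at h3
    have := Nat.le_of_dvd (by norm_num) h3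
    omega
  obtain ⟨h, rfl⟩ : ∃ h, N = 2 * h := hN.two_dvd
  rcases Nat.even_or_odd h with he | ho
  · -- order of `q` is `2 h`
    obtain ⟨b, hb, hbo⟩ := Cfsg.Agent.Lib.Zsigmondy.exists_prime_orderOf (a := q) (n := 2 * h) (by omega) (by omega)
      (by intro h1; omega) (by rintro ⟨h1, -⟩; omega)
    have := Fact.mk hb
    refine ⟨b, hb, hb2 b _ hb hbo (by omega), hnq b _ hb hbo (by omega), fun i hi0 hi h1 => ?_, ?_⟩
    · rw [key] at h1
      have h2 : (q : ZMod b) ^ (i * 2) = 1 := by
        have h3 : ((-(q : ZMod b)) ^ i) ^ 2 = 1 := by rw [h1, one_pow]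
        rw [← pow_mul, (even_two.mul_left i).neg_pow] at h3
        exact h3
      have h3 := orderOf_dvd_of_pow_eq_one h2
      rw [hbo, mul_comm i 2] at h3
      have h4 := Nat.dvd_of_mul_dvd_mul_left (by norm_num) h3
      obtain ⟨t, rfl⟩ := h4
      have ht : t = 1 := by
        have h5 : h * t < h * 2 := by omega
        have h6 := lt_of_mul_lt_mul_left h5 (Nat.zero_le h)
        have h7 : 0 < t := Nat.pos_of_mul_pos_left (by omega : 0 < h * t)
        omega
      rw [ht, mul_one, he.neg_pow] at h1
      have h5 := orderOf_dvd_of_pow_eq_one h1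
      rw [hbo] at h5
      have := Nat.le_of_dvd (by omega) h5
      omega
    · rw [key, (even_two_mul h).neg_pow, ← hbo]
      exact pow_orderOf_eq_one _
  · obtain ⟨b, hb, hbo⟩ := Cfsg.Agent.Lib.Zsigmondy.exists_prime_orderOf (a := q) (n := h) (by omega) (by omega)
      (by rintro rfl; exact absurd ho (by decide)) (by rintro ⟨h1, -⟩; omega)
    have := Fact.mk hb
    have hbne := hb2 b _ hb hbo (by omega)
    refine ⟨b, hb, hbne, hnq b _ hb hbo (by omega), fun i hi0 hi h1 => ?_, ?_⟩
    · rw [key] at h1
      have h2 : (q : ZMod b) ^ (2 * i) = 1 := by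
        have h3 : ((-(q : ZMod b)) ^ i) ^ 2 = 1 := by rw [h1, one_pow]
        rw [← pow_mul, (even_two.mul_left i).neg_pow, mul_comm] at h3
        exact h3
      have h3 := orderOf_dvd_of_pow_eq_one h2
      rw [hbo] at h3
      have h4 : h ∣ i := (Nat.Coprime.dvd_of_dvd_mul_left (Nat.coprime_two_right.2 ho) h3)
      obtain ⟨t, rfl⟩ := h4
      have ht : t = 1 := by
        have h5 : h * t < h * 2 := by omega
        have h6 := lt_of_mul_lt_mul_left h5 (Nat.zero_le h)
        have h7 : 0 < t := Nat.pos_of_mul_pos_left (by omega : 0 < h * t)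
        omega
      rw [ht, mul_one, ho.neg_pow] at h1
      have h5 : (q : ZMod b) ^ h = 1 := by rw [← hbo]; exact pow_orderOf_eq_one _
      rw [h5] at h1
      have h6 : ((2 : ℕ) : ZMod b) = 0 := by
        push_cast
        linear_combination -h1
      rw [ZMod.natCast_eq_zero_iff] at h6
      exact hbne ((Nat.prime_dvd_prime_iff_eq hb Nat.prime_two).1 h6)
    · rw [key, (even_two_mul h).neg_pow, mul_comm, pow_mul]
      have h5 : (q : ZMod b) ^ h = 1 := by rw [← hbo]; exact pow_orderOf_eq_one _
      rw [h5, one_pow]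

/-- an odd prime dividing `3 ^ f + 1`, `f ≥ 2` -/
theorem exists_odd_dvd {f : ℕ} (hf : 2 ≤ f) : ∃ b : ℕ, b.Prime ∧ b ≠ 2 ∧ b ∣ 3 ^ f + 1 := by
  by_contra hcon
  push Not at hcon
  have h8 : ∀ i : ℕ, 3 ^ i % 8 = 1 ∨ 3 ^ i % 8 = 3 := by
    intro i
    induction i with
    | zero => left; rfl
    | succ i ih => rw [pow_succ, Nat.mul_mod]; rcases ih with h | h <;> rw [h] <;> simp
  have h1 : ∃ k, 3 ^ f + 1 = 2 ^ k := by
    refine ⟨_, (Nat.eq_prime_pow_of_unique_prime_dvd (p := 2) (Nat.succ_ne_zero (3 ^ f)) ?_)⟩
    intro b hb hd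
    by_contra h
    exact hcon b hb h hd
  obtain ⟨k, hk⟩ := h1
  have h3 : 3 ^ 2 ≤ 3 ^ f := Nat.pow_le_pow_right (by norm_num) hf
  have h4 : 4 ≤ k := by
    by_contra h4
    have : 2 ^ k ≤ 2 ^ 3 := Nat.pow_le_pow_right (by norm_num) (by omega)
    omega
  obtain ⟨j, rfl⟩ := Nat.exists_eq_add_of_le h4
  rw [pow_add] at hk
  rcases h8 f with h5 | h5 <;> omega

end card

section elts

variable {F : Type} [Field F] [Fintype F] {n q p r : ℕ}

theorem pe_of_dist {k : Type*} [Field k] [Algebra F k] (hF : Fintype.card F = q ^ 2) (hn : 3 ≤ n) (hp : p.Prime)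
    {g : SU n F q} (hg : g ^ p = 1) (hd : Dist k (mat g)) : PE p (pr n F q g) := by
  have := Fact.mk hp
  apply PE.of_orderOf hp
  apply orderOf_eq_prime
  · rw [← map_pow, hg, map_one]
  · rw [Ne, pr_eq_one_iff]
    exact not_center_of_dist hF hn hd

/-- elements of order `p`, the order of `-q` modulo `p` is `n` -/
theorem exists_top [Fact r.Prime] [CharP F r] (hF : Fintype.card F = q ^ 2) (hn : 3 ≤ n) (hp : p.Prime)
    (hpq : ¬ p ∣ q) (ho : Ord n q p) (hd : p ∣ Nat.card (SU n F q)) :
    ∃ x : PSU n F q, PE p x ∧ ¬ r ∣ Nat.card (Subgroup.centralizer ({x} : Set (PSU n F q))) := by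
  have := Fact.mk hp
  obtain ⟨g, hg⟩ := exists_prime_orderOf_dvd_card' p hd
  have hgp : g ^ p = 1 := by rw [← hg]; exact pow_orderOf_eq_one g
  have hg1 : g ≠ 1 := by
    rintro rfl
    rw [orderOf_one] at hg
    exact hp.one_lt.ne hg
  obtain ⟨S, hS, hr⟩ := distinct_of_order (k := AlgebraicClosure F) hF hp hpq ho hgp hg1
  have hdist : Dist (AlgebraicClosure F) (mat g) := ⟨S, hS.ge, fun μ hμ => (hr μ hμ).1⟩
  exact ⟨pr n F q g, pe_of_dist hF hn hp hgp hdist, not_dvd_centralizer hF hn hdist⟩

/-- `n` an odd prime, not the characteristic: the `n`-cycle -/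
theorem exists_cyc [Fact r.Prime] [CharP F r] (hF : Fintype.card F = q ^ 2) (hn : 3 ≤ n) (hp : n.Prime) (hnr : n ≠ r) :
    ∃ x : PSU n F q, PE n x ∧ ¬ r ∣ Nat.card (Subgroup.centralizer ({x} : Set (PSU n F q))) := by
  have hr : r.Prime := Fact.out
  have hck : CharP (AlgebraicClosure F) r :=
    charP_of_injective_algebraMap (algebraMap F (AlgebraicClosure F)).injective r
  have hnk : (n : AlgebraicClosure F) ≠ 0 := by
    rw [Ne, CharP.cast_eq_zero_iff (AlgebraicClosure F) r]
    intro h
    exact hnr ((Nat.prime_dvd_prime_iff_eq hr hp).1 h).symm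
  obtain ⟨y, hy, hdist⟩ := exists_cycle (F := F) (q := q) (k := AlgebraicClosure F) hn (hp.odd_of_ne_two (by omega)) hnk
  exact ⟨pr n F q y, pe_of_dist hF hn hp hy hdist, not_dvd_centralizer hF hn hdist⟩

/-- elements `diag(y, 1)` of order `p`, the order of `-q` modulo `p` is `m` -/
theorem exists_emb [Fact r.Prime] [CharP F r] {m : ℕ} (hF : Fintype.card F = q ^ 2) (hm : 2 ≤ m) (hp : p.Prime)
    (hpq : ¬ p ∣ q) (ho : Ord m q p) (hd : p ∣ Nat.card (SU m F q)) :
    ∃ x : PSU (m + 1) F q, PE p x ∧ ¬ r ∣ Nat.card (Subgroup.centralizer ({x} : Set (PSU (m + 1) F q))) := by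
  have := Fact.mk hp
  obtain ⟨g, hg⟩ := exists_prime_orderOf_dvd_card' p hd
  have hgp : g ^ p = 1 := by rw [← hg]; exact pow_orderOf_eq_one g
  have hg1 : g ≠ 1 := by
    rintro rfl
    rw [orderOf_one] at hg
    exact hp.one_lt.ne hg
  obtain ⟨S, hS, hr⟩ := distinct_of_order (k := AlgebraicClosure F) hF hp hpq ho hgp hg1
  have h0 : 0 + m ≤ m + 1 := by omega
  have hdist := dist_emb hF S hS hr h0
  refine ⟨pr (m + 1) F q (emb hF 0 h0 g), pe_of_dist hF (by omega) hp ?_ hdist, not_dvd_centralizer hF (by omega) hdist⟩
  rw [← map_pow, hgp, map_one]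

/-- `diag(ζ, ζ⁻¹, 1)`, `p` an odd prime dividing `q + 1` -/
theorem exists_diag [Fact r.Prime] [CharP F r] (hF : Fintype.card F = q ^ 2) (hp : p.Prime) (hp2 : p ≠ 2)
    (hd : p ∣ q + 1) :
    ∃ x : PSU 3 F q, PE p x ∧ ¬ r ∣ Nat.card (Subgroup.centralizer ({x} : Set (PSU 3 F q))) := by
  classical
  have := Fact.mk hp
  have hq := two_le hF
  have hcard : Nat.card Fˣ = (q + 1) * (q - 1) := by
    rw [Nat.card_units, Nat.card_eq_fintype_card, hF]
    obtain ⟨a, rfl⟩ : ∃ a, q = a + 1 := ⟨q - 1, by omega⟩
    rw [Nat.add_sub_cancel]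
    have : (a + 1) ^ 2 = (a + 1 + 1) * a + 1 := by ring
    omega
  obtain ⟨z, hz⟩ := exists_prime_orderOf_dvd_card' (G := Fˣ) p (hcard ▸ Dvd.dvd.mul_right hd _)
  have hzp : z ^ p = 1 := by rw [← hz]; exact pow_orderOf_eq_one z
  have hz1 : z ≠ 1 := by
    rintro rfl
    rw [orderOf_one] at hz
    exact hp.one_lt.ne hz
  have hz2 : z ^ 2 ≠ 1 := by
    intro h
    have h1 := orderOf_dvd_of_pow_eq_one h
    rw [hz] at h1
    exact hp2 ((Nat.prime_dvd_prime_iff_eq hp Nat.prime_two).1 h1)
  have hzq : z ^ (q + 1) = 1 := by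
    obtain ⟨t, ht⟩ := hd
    rw [ht, pow_mul, hzp, one_pow]
  let a : Fin 3 → F := ![(z : F), ((z⁻¹ : Fˣ) : F), 1]
  have hprod : ∏ i, a i = 1 := by
    rw [Fin.prod_univ_three]
    simp [a]
  have hnorm : ∀ i, a i ^ (q + 1) = 1 := by
    intro i
    fin_cases i
    · show (z : F) ^ (q + 1) = 1
      rw [← Units.val_pow_eq_pow_val, hzq, Units.val_one]
    · show ((z⁻¹ : Fˣ) : F) ^ (q + 1) = 1
      rw [← Units.val_pow_eq_pow_val, inv_pow, hzq, inv_one, Units.val_one]
    · show (1 : F) ^ (q + 1) = 1
      exact one_pow _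
  have hane : Function.Injective a := by
    have h01 : (z : F) ≠ ((z⁻¹ : Fˣ) : F) := fun h => hz2 (by
      have h1 : z = z⁻¹ := Units.ext h
      rw [pow_two]
      nth_rewrite 2 [h1]
      exact mul_inv_cancel z)
    have h02 : (z : F) ≠ 1 := fun h => hz1 (Units.ext h)
    have h12 : ((z⁻¹ : Fˣ) : F) ≠ 1 := fun h => hz1 (inv_eq_one.1 (Units.ext h))
    intro i j hij
    fin_cases i <;> fin_cases j
    · rfl
    · exact absurd hij h01
    · exact absurd hij h02
    · exact absurd hij.symm h01
    · rfl
    · exact absurd hij h12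
    · exact absurd hij.symm h02
    · exact absurd hij.symm h12
    · rfl
  let g : SU 3 F q := suDiag q a hprod hnorm
  have hg : g ^ p = 1 := by
    apply mat_inj
    have hmp : ∀ i : ℕ, mat (g ^ i) = mat g ^ i := by
      intro i
      induction i with
      | zero => rw [pow_zero, pow_zero, mat_one]
      | succ i ih => rw [pow_succ, mat_mul, ih, pow_succ]
    rw [hmp, mat_one]
    show (Matrix.diagonal a) ^ p = 1
    rw [Matrix.diagonal_pow, ← Matrix.diagonal_one]
    congr 1
    funext i
    rw [Pi.pow_apply]
    fin_cases i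
    · show (z : F) ^ p = 1
      rw [← Units.val_pow_eq_pow_val, hzp, Units.val_one]
    · show ((z⁻¹ : Fˣ) : F) ^ p = 1
      rw [← Units.val_pow_eq_pow_val, inv_pow, hzp, inv_one, Units.val_one]
    · show (1 : F) ^ p = 1
      exact one_pow _
  have hdist : Dist F (mat g) := by
    refine ⟨Finset.univ.image a, ?_, fun μ hμ => ?_⟩
    · rw [Finset.card_image_of_injective _ hane, Finset.card_univ, Fintype.card_fin]
    · obtain ⟨i, -, rfl⟩ := Finset.mem_image.1 hμ
      have h1 : mat g = Matrix.diagonal a := rfl
      rw [h1, Algebra.algebraMap_self, Polynomial.map_id, Matrix.charpoly_diagonal, Polynomial.IsRoot,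
        Polynomial.eval_prod]
      refine Finset.prod_eq_zero (Finset.mem_univ i) ?_
      simp
  exact ⟨pr 3 F q g, pe_of_dist hF le_rfl hp hg hdist, not_dvd_centralizer hF le_rfl hdist⟩

end elts

end Cfsg.Agent.H151.PQR
end

-- part: H900/PQR/Psl
section
/-!
# The rows `PSL_n(F)`, `n ≥ 3`, of S3988 (helper900)

`row_psl`, `row_psl33`.
-/

set_option autoImplicit false

namespace Cfsg.Agent.H900.PQR

open Matrix Subgroup Cfsg
open Cfsg.Agent.H562.PQR
open Cfsg.Agent.H80.Fpf (MultDvd)
open Cfsg.Agent.H330 Cfsg.Agent.H330.Gow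

section prep

theorem nonab {r : ℕ} (hr : r.Prime) {G : Type*} [Group G] [Finite G] (hG : IsLieTypeChar r G) :
    ∃ x y : G, x * y ≠ y * x := by
  have : Fact r.Prime := ⟨hr⟩
  have hsim : IsSimpleGroup G := H400.LieSimple.isSimple_of_lie hG
  have hS := H716.SplitAb.hasSplitAb_of_lie hr hG
  have hc := H400.LieLocal.center_eq_bot (hasSplit_of_ab hS)
  by_contra h
  push Not at h
  have h1 : center G = ⊤ := by
    rw [eq_top_iff]
    intro x _
    exact mem_center_iff.2 fun y => h y x
  rw [hc] at h1
  exact bot_ne_top h1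

variable {F : Type} [Field F] [Fintype F]

theorem dvd_psl_of_dvd_q {m p : ℕ} (hm : 2 ≤ m) (h : p ∣ Fintype.card F) :
    p ∣ Nat.card (ProjectiveSpecialLinearGroup (Fin m) F) := by
  have hq : 2 ≤ Fintype.card F := Fintype.one_lt_card
  have h1 := Cfsg.Agent.H968.TwoCyc.dvd_card_psl (F := F) rfl m hm hq
  refine h.trans ((dvd_pow_self _ ?_).trans h1)
  intro h2
  have h3 := (Finset.sum_eq_zero_iff.1 h2) ⟨1, by omega⟩ (Finset.mem_univ _)
  simp at h3

theorem dvd_psl {m p : ℕ} (hm : 2 ≤ m) (hp : p.Prime) (hp2 : 3 ≤ m ∨ p ≠ 2) {k : ℕ} (hk1 : 1 ≤ k) (hkm : k ≤ m)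
    (h : p ∣ Fintype.card F ^ k - 1) : p ∣ Nat.card (ProjectiveSpecialLinearGroup (Fin m) F) := by
  have hq : 2 ≤ Fintype.card F := Fintype.one_lt_card
  have hcard := H277.ClsPsl.card_psl (F := F) rfl hm
  set q := Fintype.card F with hqdef
  by_cases hp1 : p ∣ q - 1
  · rcases hp2 with hm3 | hp2
    · have h1 : (q - 1) ^ (m - 1) ∣ ∏ i ∈ Finset.range (m - 1), (q ^ (i + 2) - 1) := by
        rw [← Finset.card_range (m - 1), ← Finset.prod_const]
        rw [Finset.card_range]
        exact Finset.prod_dvd_prod_of_dvd _ _ fun i _ => Nat.sub_one_dvd_pow_sub_one q (i + 2)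
      obtain ⟨s, hs⟩ := h1.mul_left (q ^ (m * (m - 1) / 2))
      obtain ⟨t, ht⟩ := Nat.gcd_dvd_right m (q - 1)
      rw [hs] at hcard
      have hg : 0 < Nat.gcd m (q - 1) := Nat.gcd_pos_of_pos_left _ (by omega)
      have h2 : (q - 1) ^ (m - 1) = Nat.gcd m (q - 1) * (t * (q - 1) ^ (m - 2)) := by
        rw [← mul_assoc, ← ht, ← pow_succ']
        congr 1
        omega
      rw [h2, mul_assoc] at hcard
      have h3 := Nat.eq_of_mul_eq_mul_left hg hcard
      rw [h3]
      refine Dvd.dvd.mul_right ?_ _
      refine Dvd.dvd.mul_left ?_ _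
      exact hp1.trans (dvd_pow_self _ (by omega))
    · by_cases hm3 : 3 ≤ m
      · have h1 : (q - 1) ^ (m - 1) ∣ ∏ i ∈ Finset.range (m - 1), (q ^ (i + 2) - 1) := by
          rw [← Finset.card_range (m - 1), ← Finset.prod_const]
          rw [Finset.card_range]
          exact Finset.prod_dvd_prod_of_dvd _ _ fun i _ => Nat.sub_one_dvd_pow_sub_one q (i + 2)
        obtain ⟨s, hs⟩ := h1.mul_left (q ^ (m * (m - 1) / 2))
        obtain ⟨t, ht⟩ := Nat.gcd_dvd_right m (q - 1)
        rw [hs] at hcard
        have hg : 0 < Nat.gcd m (q - 1) := Nat.gcd_pos_of_pos_left _ (by omega)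
        have h2 : (q - 1) ^ (m - 1) = Nat.gcd m (q - 1) * (t * (q - 1) ^ (m - 2)) := by
          rw [← mul_assoc, ← ht, ← pow_succ']
          congr 1
          omega
        rw [h2, mul_assoc] at hcard
        have h3 := Nat.eq_of_mul_eq_mul_left hg hcard
        rw [h3]
        refine Dvd.dvd.mul_right ?_ _
        refine Dvd.dvd.mul_left ?_ _
        exact hp1.trans (dvd_pow_self _ (by omega))
      · obtain rfl : m = 2 := by omega
        have h1 : p ∣ Nat.gcd 2 (q - 1) * Nat.card (ProjectiveSpecialLinearGroup (Fin 2) F) := by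
          rw [hcard]
          refine Dvd.dvd.mul_left ?_ _
          refine hp1.trans ((Nat.sub_one_dvd_pow_sub_one q 2).trans ?_)
          simp only [_root_.Nat.add_one_sub_one, _root_.Finset.range_one, _root_.Finset.prod_singleton, _root_.zero_add, _root_.dvd_refl]
        refine ((Nat.Prime.dvd_mul hp).1 h1).resolve_left fun h2 => hp2 ?_
        exact (Nat.prime_dvd_prime_iff_eq hp Nat.prime_two).1 (h2.trans (Nat.gcd_dvd_left _ _))
  · have hk2 : 2 ≤ k := by
      by_contra h2
      obtain rfl : k = 1 := by omega
      rw [pow_one] at h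
      exact hp1 h
    have h1 : p ∣ Nat.gcd m (q - 1) * Nat.card (ProjectiveSpecialLinearGroup (Fin m) F) := by
      rw [hcard]
      refine Dvd.dvd.mul_left ?_ _
      refine Dvd.dvd.trans ?_ (Finset.dvd_prod_of_mem (fun i => q ^ (i + 2) - 1) (Finset.mem_range.2 (show k - 2 < m - 1 by omega)))
      rw [show k - 2 + 2 = k by omega]
      exact h
    exact ((Nat.Prime.dvd_mul hp).1 h1).resolve_left fun h2 => hp1 (h2.trans (Nat.gcd_dvd_right _ _))

/-- the multiplier -/
theorem exists_mult {n : ℕ} (hn : n.Prime) (hn3 : 3 ≤ n) :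
    ∃ m, MultDvd (ProjectiveSpecialLinearGroup (Fin n) F) m ∧
      ∀ s : ℕ, s.Prime → s ∣ m → s = 2 ∨ (s = n ∧ s ∣ Fintype.card F - 1) := by
  by_cases h1 : n = 3 ∧ Fintype.card F = 2
  · obtain ⟨rfl, h2⟩ := h1
    refine ⟨2, H80.Fpf.multDvd_of_cyclic (by norm_num) (Cfsg.Agent.S2087.result h2), fun s hs hd => Or.inl ?_⟩
    exact (Nat.prime_dvd_prime_iff_eq hs Nat.prime_two).1 hd
  by_cases h2 : n = 3 ∧ Fintype.card F = 4
  · obtain ⟨rfl, h4⟩ := h2
    refine ⟨_, H80.Fpf.multDvd_of (Cfsg.Agent.S2088.result h4), fun s hs hd => ?_⟩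
    have h5 : Nat.card (Multiplicative (ZMod 3 × ZMod 4 × ZMod 4)) = 48 := by
      rw [Nat.card_congr Multiplicative.toAdd, Nat.card_prod, Nat.card_prod, Nat.card_zmod, Nat.card_zmod]
    rw [h5, show (48 : ℕ) = 2 ^ 4 * 3 by norm_num] at hd
    rcases (Nat.Prime.dvd_mul hs).1 hd with h6 | h6
    · exact Or.inl ((Nat.prime_dvd_prime_iff_eq hs Nat.prime_two).1 (hs.dvd_of_dvd_pow h6))
    · right
      have h7 := (Nat.prime_dvd_prime_iff_eq hs Nat.prime_three).1 h6
      refine ⟨h7, ?_⟩
      rw [h7, h4]
  · have h3 : Nat.gcd n (Fintype.card F - 1) ≠ 0 := (Nat.gcd_pos_of_pos_left _ (by omega)).ne'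
    refine ⟨_, H80.Fpf.multDvd_of_cyclic h3 (Cfsg.Agent.S2086.result (F := F) rfl n (by omega) (by omega) ?_),
      fun s hs hd => Or.inr ⟨?_, hd.trans (Nat.gcd_dvd_right _ _)⟩⟩
    · simp only [Set.mem_insert_iff, Set.mem_singleton_iff, Prod.mk.injEq, not_or]
      have hn4 : n ≠ 4 := by
        rintro rfl
        exact absurd hn (by norm_num)
      exact ⟨by omega, by omega, h1, h2, by omega⟩
    · exact (Nat.prime_dvd_prime_iff_eq hs hn).1 (hd.trans (Nat.gcd_dvd_left _ _))

end prep

section cases

variable {F : Type} [Field F] [Fintype F] {n : ℕ}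

theorem lie {r : ℕ} [CharP F r] (hn : 3 ≤ n) : IsLieTypeChar r (ProjectiveSpecialLinearGroup (Fin n) F) :=
  Or.inl ⟨F, inferInstance, inferInstance, inferInstance, n, by omega, by omega, ⟨MulEquiv.refl _⟩⟩

theorem ne_char {r p : ℕ} [hr : Fact r.Prime] [CharP F r] (_ : p.Prime)
    (ho : orderOf ((Fintype.card F : ℕ) : ZMod p) = n) (hn : n ≠ 0) : p ≠ r := by
  rintro rfl
  obtain ⟨f, -, hf⟩ := FiniteField.card F p
  rw [hf, Nat.cast_pow, ZMod.natCast_self, zero_pow f.ne_zero] at ho
  have h1 : orderOf (0 : ZMod p) = 0 := by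
    rw [orderOf_eq_zero_iff']
    intro k hk h2
    rw [zero_pow hk.ne'] at h2
    exact zero_ne_one h2
  rw [h1] at ho
  exact hn ho.symm

/-- the irreducible element -/
theorem exists_irr_elt {r p : ℕ} [hr : Fact r.Prime] [CharP F r] (hp : p.Prime) (hn : 2 ≤ n)
    (ho : orderOf ((Fintype.card F : ℕ) : ZMod p) = n) :
    ∃ x : ProjectiveSpecialLinearGroup (Fin n) F, PE p x ∧
      ¬ r ∣ Nat.card (centralizer ({x} : Set (ProjectiveSpecialLinearGroup (Fin n) F))) := by
  have hq : 1 ≤ Fintype.card F := Fintype.card_pos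
  have hpr := ne_char (F := F) hp ho (by omega)
  obtain ⟨g, hg, -, hdeg, hdvd⟩ := exists_irred (F := F) (n := n) hp (by omega) (by rwa [Nat.card_eq_fintype_card])
  have hp1 : ¬ p ∣ Nat.card F - 1 := by
    rw [Nat.card_eq_fintype_card]
    intro h
    have h1 : p ∣ Fintype.card F ^ 1 - 1 := by rwa [pow_one]
    rw [Cfsg.Agent.Lib.Zsigmondy.dvd_pow_sub_one_iff hq, ho] at h1
    have := Nat.le_of_dvd one_pos h1
    omega
  have hpF : (p : F) ≠ 0 := by
    intro h
    rw [CharP.cast_eq_zero_iff F r] at h
    exact hpr ((Nat.prime_dvd_prime_iff_eq hr.out hp).1 h).symm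
  refine exists_reg hn hp hpr (k := 1) hg hdeg (coeff_zero hp hpF hp1 hg hdeg hdvd) ?_
  rwa [pow_one]

/-- from two regular elements to the triple -/
theorem trip_of {r : ℕ} [hr : Fact r.Prime] [CharP F r] (hn : n.Prime) (hn3 : 3 ≤ n) {a b : ℕ} (ha : a.Prime) (hb : b.Prime)
    (hab : a ≠ b) (ha2 : a ≠ 2) (hb2 : b ≠ 2) (hmul : b = n ∨ ¬ n ∣ Fintype.card F - 1)
    {x y : ProjectiveSpecialLinearGroup (Fin n) F} (hx : PE a x) (hy : PE b y)
    (hxc : ¬ r ∣ Nat.card (centralizer ({x} : Set (ProjectiveSpecialLinearGroup (Fin n) F))))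
    (hyc : ¬ r ∣ Nat.card (centralizer ({y} : Set (ProjectiveSpecialLinearGroup (Fin n) F)))) :
    TripABC a b 2 (ProjectiveSpecialLinearGroup (Fin n) F) := by
  have hG : IsLieTypeChar r (ProjectiveSpecialLinearGroup (Fin n) F) := lie hn3
  obtain ⟨m, hm, hm'⟩ := exists_mult (F := F) hn hn3
  have key : ∃ x y z : ProjectiveSpecialLinearGroup (Fin n) F, PE a x ∧ PE b y ∧ PE 2 z ∧ x * y * z = 1 := by
    by_cases h2 : r = 2
    · subst h2
      exact tri_char hr.out hG ha hb hab hx hy hxc hyc
    · refine tri_reg hr.out hG Nat.prime_two (Ne.symm h2) ?_ hx hy hxc hyc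
      refine dvd_psl (F := F) (by omega) Nat.prime_two (Or.inl hn3) le_rfl (by omega) ?_
      rw [pow_one]
      have hodd : ¬ 2 ∣ Fintype.card F := by
        obtain ⟨f, -, hf⟩ := FiniteField.card F r
        rw [hf]
        intro h
        exact h2 ((Nat.prime_dvd_prime_iff_eq Nat.prime_two hr.out).1 (Nat.prime_two.dvd_of_dvd_pow h)).symm
      have : 1 < Fintype.card F := Fintype.one_lt_card
      omega
  obtain ⟨x', y', z', h1, h2, h3, h4⟩ := key
  refine TripABC.of_mult hm (fun s hs hd => ?_) ha hb Nat.prime_two hab ha2 hb2 h1 h2 h3 h4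
  rcases hm' s hs hd with h5 | ⟨h5, h6⟩
  · exact Or.inl h5
  · rcases hmul with h7 | h7
    · exact Or.inr (Or.inr (Or.inl (h5.trans h7.symm)))
    · exact absurd (h5 ▸ h6) h7

open Polynomial in
/-- `n` prime, `n ≠ r`: the triple `(p, n, 2)` -/
theorem case_c {r : ℕ} [hr : Fact r.Prime] [CharP F r] (hn : n.Prime) (hn3 : 3 ≤ n) (hnr : n ≠ r) {p : ℕ}
    (hp : p.Prime) (ho : orderOf ((Fintype.card F : ℕ) : ZMod p) = n) :
    TripABC p n 2 (ProjectiveSpecialLinearGroup (Fin n) F) := by
  have hpr := ne_char (F := F) hp ho (by omega)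
  obtain ⟨x, hx, hxc⟩ := exists_irr_elt (F := F) (r := r) hp (by omega) ho
  have hnodd : Odd n := hn.odd_of_ne_two (by omega)
  have hpn : n + 1 ≤ p := by
    have hpq : ¬ p ∣ Fintype.card F := by
      intro h
      obtain ⟨f, -, hf⟩ := FiniteField.card F r
      rw [hf] at h
      exact hpr ((Nat.prime_dvd_prime_iff_eq hp hr.out).1 (hp.dvd_of_dvd_pow h))
    have h1 := Cfsg.Agent.Lib.Zsigmondy.orderOf_dvd_pred hp hpq
    rw [ho] at h1
    have := Nat.le_of_dvd (by have := hp.two_le; omega) h1
    omega
  have hf : (X ^ n - 1 : F[X]).Monic := monic_X_pow_sub_C (1 : F) (by omega)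
  have hdeg : (X ^ n - 1 : F[X]).natDegree = n := natDegree_X_pow_sub_C
  obtain ⟨y, hy, hyc⟩ := exists_reg (F := F) (n := n) (r := r) (by omega) hn hnr (k := 1) hf hdeg (by
    rw [hnodd.neg_one_pow, coeff_sub, coeff_X_pow, coeff_one]
    simp [show (0 : ℕ) ≠ n by omega]) (by rw [pow_one])
  exact trip_of hn hn3 hp hn (by omega) (by omega) (by omega) (Or.inl rfl) hx hy hxc hyc

open Polynomial in
/-- `n = r` prime: the triple `(p, b, 2)` -/
theorem case_d [hn : Fact n.Prime] [CharP F n] (hn3 : 3 ≤ n) (h33 : ¬ (n = 3 ∧ Fintype.card F = 3)) {p : ℕ}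
    (hp : p.Prime) (hp2 : p ≠ 2) (ho : orderOf ((Fintype.card F : ℕ) : ZMod p) = n) :
    ∃ b, TripABC p b 2 (ProjectiveSpecialLinearGroup (Fin n) F) := by
  have hq : 2 ≤ Fintype.card F := Fintype.one_lt_card
  obtain ⟨f0, -, hf0⟩ := FiniteField.card F n
  obtain ⟨b, hb, hob⟩ := Cfsg.Agent.Lib.Zsigmondy.exists_prime_orderOf (a := Fintype.card F) (n := n - 1) hq (by omega)
    (by
      intro h1
      obtain rfl : n = 3 := by omega
      rintro ⟨k, hk⟩
      have h8 : ∀ i : ℕ, 3 ^ i % 8 = 1 ∨ 3 ^ i % 8 = 3 := by
        intro i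
        induction i with
        | zero => left; rfl
        | succ i ih => rw [pow_succ, Nat.mul_mod]; rcases ih with h | h <;> rw [h] <;> simp
      have h2 := h8 (f0 : ℕ)
      rw [← hf0] at h2
      have h3 : k < 3 := by
        by_contra h3
        obtain ⟨j, rfl⟩ := Nat.exists_eq_add_of_le (not_lt.1 h3)
        rw [pow_add] at hk
        omega
      apply h33
      refine ⟨rfl, ?_⟩
      interval_cases k
      · omega
      · omega
      · omega)
    (by
      rintro ⟨h1, h2⟩
      rw [h1] at hf0
      have h3 : n ∣ 2 := by rw [hf0]; exact dvd_pow_self n f0.ne_zero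
      have := Nat.le_of_dvd (by norm_num) h3
      omega)
  have hbr := ne_char (F := F) (r := n) hb hob (by omega)
  have hb1 : ¬ b ∣ Nat.card F - 1 := by
    rw [Nat.card_eq_fintype_card]
    intro h
    have h1 : b ∣ Fintype.card F ^ 1 - 1 := by rwa [pow_one]
    rw [Cfsg.Agent.Lib.Zsigmondy.dvd_pow_sub_one_iff (by omega), hob] at h1
    have := Nat.le_of_dvd one_pos h1
    omega
  have hb2 : b ≠ 2 := by
    rintro rfl
    apply hb1
    rw [Nat.card_eq_fintype_card, hf0]
    have h1 : Odd (n ^ (f0 : ℕ)) := (hn.out.odd_of_ne_two (by omega)).pow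
    exact (Nat.Odd.sub_odd h1 odd_one).two_dvd
  have hbF : (b : F) ≠ 0 := by
    intro h
    rw [CharP.cast_eq_zero_iff F n] at h
    exact hbr ((Nat.prime_dvd_prime_iff_eq hn.out hb).1 h).symm
  obtain ⟨g, hg, hirr, hdeg, hdvd⟩ := exists_irred (F := F) (n := n - 1) hb (by omega) (by rwa [Nat.card_eq_fintype_card])
  have hc0 := coeff_zero hb hbF hb1 hg hdeg hdvd
  have hcop : IsCoprime g (X - C 1) := by
    rw [hirr.coprime_iff_not_dvd]
    intro h
    have := natDegree_le_of_dvd h (X_sub_C_ne_zero 1)
    rw [hdeg, natDegree_X_sub_C] at this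
    omega
  have hXb : (X - C 1 : F[X]) ∣ X ^ b - 1 := by
    have := sub_dvd_pow_sub_pow (X : F[X]) (C 1) b
    rwa [← C_pow, one_pow, map_one] at this
  obtain ⟨y, hy, hyc⟩ := exists_reg (F := F) (n := n) (r := n) (by omega) hb hbr (k := 1) (f := g * (X - C 1))
    (hg.mul (monic_X_sub_C 1)) (by rw [hg.natDegree_mul (monic_X_sub_C 1), hdeg, natDegree_X_sub_C]; omega) (by
      rw [mul_coeff_zero]
      have h1 : (X - C 1 : F[X]).coeff 0 = -1 := by simp
      rw [h1]
      obtain ⟨m, hm⟩ : ∃ m, n = m + 1 := ⟨n - 1, by omega⟩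
      rw [hm, Nat.add_sub_cancel] at hc0
      rw [hm, pow_succ]
      linear_combination hc0) (by rw [pow_one]; exact hcop.mul_dvd hdvd hXb)
  obtain ⟨x, hx, hxc⟩ := exists_irr_elt (F := F) (r := n) hp (by omega) ho
  refine ⟨b, trip_of hn.out hn3 hp hb ?_ hp2 hb2 (Or.inr ?_) hx hy hxc hyc⟩
  · rintro rfl
    rw [ho] at hob
    omega
  · intro h
    have h1 : n ∣ Fintype.card F := by rw [hf0]; exact dvd_pow_self n f0.ne_zero
    have h2 := (Nat.dvd_sub_iff_right (by omega) h1).1 h
    have := Nat.le_of_dvd one_pos h2
    omega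

open Polynomial in
/-- `PSL_3(3)` -/
theorem case_e (hF : Fintype.card F = 3) : TripABC 13 2 3 (ProjectiveSpecialLinearGroup (Fin 3) F) := by
  have : Fact (Nat.Prime 3) := ⟨Nat.prime_three⟩
  have : CharP F 3 := by
    obtain ⟨p, hp⟩ := CharP.exists F
    have hpr := CharP.char_is_prime F p
    have : Fact p.Prime := ⟨hpr⟩
    obtain ⟨f, -, hf⟩ := FiniteField.card F p
    rw [hF] at hf
    have h1 : p ∣ 3 := by rw [hf]; exact dvd_pow_self p f.ne_zero
    rwa [(Nat.prime_dvd_prime_iff_eq hpr Nat.prime_three).1 h1] at hp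
  have h13 : Nat.Prime 13 := by norm_num
  have ho : orderOf ((Fintype.card F : ℕ) : ZMod 13) = 3 := by
    rw [hF]
    have : Fact (Nat.Prime 3) := ⟨Nat.prime_three⟩
    exact orderOf_eq_prime (by decide) (by decide)
  obtain ⟨x, hx, hxc⟩ := exists_irr_elt (F := F) (n := 3) (r := 3) h13 (by norm_num) ho
  have h3 : (3 : F[X]) = 0 := by
    have h : ((3 : ℕ) : F) = 0 := CharP.cast_eq_zero F 3
    have h1 : (C ((3 : ℕ) : F) : F[X]) = 0 := by rw [h, C_0]
    rw [C_eq_natCast] at h1
    exact_mod_cast h1
  have hdeg : (X ^ 3 - X ^ 2 - 1 : F[X]).natDegree = 3 := by compute_degree!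
  have hmon : (X ^ 3 - X ^ 2 - 1 : F[X]).Monic := by monicity!
  obtain ⟨y, hy, hyc⟩ := exists_reg (F := F) (n := 3) (r := 3) (by norm_num) Nat.prime_two (by norm_num) (k := 3) hmon hdeg (by
    simp only [coeff_X_pow, coeff_one, _root_.Polynomial.coeff_sub, _root_.Polynomial.coeff_X_pow, _root_.OfNat.zero_ne_ofNat, ↓ _root_.reduceIte, _root_.sub_self, _root_.Polynomial.coeff_one, _root_.zero_sub, _root_.mul_neg, _root_.mul_one]
    norm_num) (by
      refine ⟨X ^ 5 + X ^ 4 + X ^ 3 + 2 * X ^ 2 + 1, ?_⟩
      linear_combination (X ^ 2 + X ^ 4) * h3)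
  have hG : IsLieTypeChar 3 (ProjectiveSpecialLinearGroup (Fin 3) F) := lie le_rfl
  obtain ⟨x', y', z', h1, h2, h4, h5⟩ := tri_char Nat.prime_three hG h13 Nat.prime_two (by norm_num) hx hy hxc hyc
  have hm : MultDvd (ProjectiveSpecialLinearGroup (Fin 3) F) (Nat.gcd 3 (3 - 1)) := by
    refine H80.Fpf.multDvd_of_cyclic (by norm_num) (Cfsg.Agent.S2086.result hF 3 (by norm_num) (by norm_num) ?_)
    simp
  refine TripABC.of_mult hm (fun s hs hd => ?_) h13 Nat.prime_two Nat.prime_three (by norm_num) (by norm_num)
    (by norm_num) h1 h2 h4 h5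
  have h6 : Nat.gcd 3 (3 - 1) = 1 := by norm_num
  rw [h6] at hd
  exact absurd (Nat.dvd_one.1 hd) hs.one_lt.ne'

end cases

section main

variable {F : Type} [Field F] [Fintype F] {n : ℕ}

/-- **`PSL_3(3)`, all primes** -/
theorem row_psl33 {F : Type} [Field F] [Fintype F] (hF : Fintype.card F = 3) :
    Row (ProjectiveSpecialLinearGroup (Fin 3) F) := by
  intro p hp hd
  right
  have h := case_e hF
  have hp' : p = 2 ∨ p = 3 ∨ p = 13 := by
    rcases H371.Psl.dvd_card (F := F) (by norm_num) hp hd with h1 | ⟨k, hk1, hk2, hk⟩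
    · rw [Nat.card_eq_fintype_card, hF] at h1
      exact Or.inr (Or.inl ((Nat.prime_dvd_prime_iff_eq hp Nat.prime_three).1 h1))
    · rw [Nat.card_eq_fintype_card, hF] at hk
      interval_cases k
      · exact Or.inl ((Nat.prime_dvd_prime_iff_eq hp Nat.prime_two).1 (by simpa using hk))
      · left
        have h2 : p ∣ 2 ^ 3 := by simpa using hk
        exact (Nat.prime_dvd_prime_iff_eq hp Nat.prime_two).1 (hp.dvd_of_dvd_pow h2)
      · have h2 : p ∣ 2 * 13 := by simpa using hk
        rcases (Nat.Prime.dvd_mul hp).1 h2 with h3 | h3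
        · exact Or.inl ((Nat.prime_dvd_prime_iff_eq hp Nat.prime_two).1 h3)
        · exact Or.inr (Or.inr ((Nat.prime_dvd_prime_iff_eq hp (by norm_num)).1 h3))
  refine ⟨13, 2, 3, ?_, Or.inr (Or.inl rfl), h⟩
  omega

theorem row_psl32 (hF : Fintype.card F = 2) : RowOdd (ProjectiveSpecialLinearGroup (Fin 3) F) := by
  intro p hp hp2 hd
  right
  have : Fact (Nat.Prime 2) := ⟨Nat.prime_two⟩
  have : CharP F 2 := by
    obtain ⟨p, hp⟩ := CharP.exists F
    have hpr := CharP.char_is_prime F p
    have : Fact p.Prime := ⟨hpr⟩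
    obtain ⟨f, -, hf⟩ := FiniteField.card F p
    rw [hF] at hf
    have h1 : p ∣ 2 := by rw [hf]; exact dvd_pow_self p f.ne_zero
    rwa [(Nat.prime_dvd_prime_iff_eq hpr Nat.prime_two).1 h1] at hp
  have h7 : Nat.Prime 7 := by norm_num
  have ho : orderOf ((Fintype.card F : ℕ) : ZMod 7) = 3 := by
    rw [hF]
    have : Fact (Nat.Prime 3) := ⟨Nat.prime_three⟩
    exact orderOf_eq_prime (by decide) (by decide)
  have h := case_c (F := F) (n := 3) (r := 2) Nat.prime_three le_rfl (by norm_num) h7 ho
  have hp' : p = 3 ∨ p = 7 := by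
    rcases H371.Psl.dvd_card (F := F) (by norm_num) hp hd with h1 | ⟨k, hk1, hk2, hk⟩
    · rw [Nat.card_eq_fintype_card, hF] at h1
      exact absurd ((Nat.prime_dvd_prime_iff_eq hp Nat.prime_two).1 h1) hp2
    · rw [Nat.card_eq_fintype_card, hF] at hk
      interval_cases k
      · have h2 : p ∣ 1 := by simpa using hk
        exact absurd (Nat.dvd_one.1 h2) hp.one_lt.ne'
      · have h2 : p ∣ 3 := by simpa using hk
        exact Or.inl ((Nat.prime_dvd_prime_iff_eq hp Nat.prime_three).1 h2)
      · have h2 : p ∣ 7 := by simpa using hk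
        exact Or.inr ((Nat.prime_dvd_prime_iff_eq hp h7).1 h2)
  refine ⟨7, 3, 2, ?_, Or.inr (Or.inr rfl), h⟩
  omega

/-- **`PSL_n(F)`, `n ≥ 3`** -/
theorem row_psl {n : ℕ} (hn : 3 ≤ n) (F : Type) [Field F] [Fintype F] :
    RowOdd (ProjectiveSpecialLinearGroup (Fin n) F) := by
  by_cases h32 : n = 3 ∧ Fintype.card F = 2
  · obtain ⟨rfl, h2⟩ := h32
    exact row_psl32 h2
  by_cases h33 : n = 3 ∧ Fintype.card F = 3
  · obtain ⟨rfl, h3⟩ := h33
    exact (row_psl33 h3).odd
  have hq : 2 ≤ Fintype.card F := Fintype.one_lt_card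
  obtain ⟨r, hrF⟩ := CharP.exists F
  have hr : Fact r.Prime := ⟨CharP.char_is_prime F r⟩
  intro p hp hp2 hd
  obtain ⟨m, rfl⟩ : ∃ m, n = m + 1 := ⟨n - 1, by omega⟩
  have hG : IsLieTypeChar r (ProjectiveSpecialLinearGroup (Fin m) F) :=
    Or.inl ⟨F, inferInstance, inferInstance, inferInstance, m, by omega, by omega, ⟨MulEquiv.refl _⟩⟩
  have hsim : IsSimpleGroup (ProjectiveSpecialLinearGroup (Fin m) F) := H400.LieSimple.isSimple_of_lie hG
  by_cases h1 : p ∣ Nat.card (ProjectiveSpecialLinearGroup (Fin m) F)
  · exact Or.inl (notMin_block (by omega) hp (nonab hr.out hG) h1)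
  have ho : orderOf ((Fintype.card F : ℕ) : ZMod p) = m + 1 := by
    rcases H371.Psl.dvd_card (F := F) (by omega) hp hd with h2 | ⟨k, hk1, hk2, hk⟩
    · rw [Nat.card_eq_fintype_card] at h2
      exact absurd (dvd_psl_of_dvd_q (by omega) h2) h1
    · rw [Nat.card_eq_fintype_card] at hk
      have h3 := hk
      rw [Cfsg.Agent.Lib.Zsigmondy.dvd_pow_sub_one_iff (by omega)] at h3
      set e := orderOf ((Fintype.card F : ℕ) : ZMod p) with he
      have he1 : e ≤ k := Nat.le_of_dvd (by omega) h3
      have he0 : 0 < e := Nat.pos_of_dvd_of_pos h3 (by omega)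
      by_contra hne
      apply h1
      refine dvd_psl (by omega) hp (Or.inr hp2) (k := e) he0 (by omega) ?_
      rw [Cfsg.Agent.Lib.Zsigmondy.dvd_pow_sub_one_iff (by omega)]
  by_cases hprime : (m + 1).Prime
  · right
    by_cases hnr : m + 1 = r
    · have : CharP F (m + 1) := by rw [hnr]; exact hrF
      have : Fact (m + 1).Prime := ⟨hprime⟩
      obtain ⟨b, hb⟩ := case_d (F := F) (n := m + 1) (by omega) (by omega) hp hp2 ho
      exact ⟨p, b, 2, Or.inl rfl, Or.inr (Or.inr rfl), hb⟩
    · exact ⟨p, m + 1, 2, Or.inl rfl, Or.inr (Or.inr rfl), case_c (r := r) hprime (by omega) hnr hp ho⟩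
  · left
    obtain ⟨k, hk, hk1, hk2⟩ := Nat.exists_dvd_of_not_prime2 (n := m + 1) (by omega) hprime
    obtain ⟨l, hl⟩ := hk
    have hl2 : 2 ≤ l := by
      rcases Nat.lt_or_ge l 2 with h2 | h2
      · interval_cases l <;> omega
      · exact h2
    obtain ⟨K, _, _, _, hcard, hfin⟩ := H749.exists_ext F l (by omega)
    have : Fintype K := Fintype.ofFinite K
    have hmod : Module.Finite F K := Module.finite_of_finrank_pos (by omega)
    have hK4 : 4 ≤ Fintype.card K := by
      rw [← Nat.card_eq_fintype_card, hcard, Nat.card_eq_fintype_card]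
      calc 4 = 2 ^ 2 := by norm_num
        _ ≤ 2 ^ l := Nat.pow_le_pow_right (by norm_num) hl2
        _ ≤ _ := Nat.pow_le_pow_left hq l
    have : CharP K r := charP_of_injective_algebraMap (algebraMap F K).injective r
    have hGK : IsLieTypeChar r (ProjectiveSpecialLinearGroup (Fin k) K) :=
      Or.inl ⟨K, inferInstance, inferInstance, inferInstance, k, hk1, fun _ => hK4, ⟨MulEquiv.refl _⟩⟩
    have hsK : IsSimpleGroup (ProjectiveSpecialLinearGroup (Fin k) K) := H400.LieSimple.isSimple_of_lie hGK
    refine notMin_res (F := F) (K := K) (k := k) (by rw [hfin, hl, mul_comm]) (by omega) (by omega) hp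
      (nonab hr.out hGK) ?_
    refine dvd_psl hk1 hp (Or.inr hp2) (k := k) (by omega) le_rfl ?_
    rw [← Nat.card_eq_fintype_card, hcard, Nat.card_eq_fintype_card, ← pow_mul, mul_comm, ← hl,
      Cfsg.Agent.Lib.Zsigmondy.dvd_pow_sub_one_iff (by omega), ho]

end main

end Cfsg.Agent.H900.PQR
end

-- part: H151/PQR/U33
section
/-!
# `U_3(3)` : the triple `(7, 2, 3)` (helper151, for S3988)
-/

set_option autoImplicit false

namespace Cfsg.Agent.H151.PQR

open Cfsg Matrix
open Cfsg.Agent.H562.PQR
open Cfsg.Agent.H80.Fpf (MultDvd IsCover)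
open Cfsg.Agent.H424.U33Classes Cfsg.Agent.Classification.RTwo.UThreeThree

theorem MultDvd.congr {S T : Type*} [Group S] [Group T] {m : ℕ} (e : S ≃* T) (h : MultDvd T m) : MultDvd S m := by
  intro G _ _ π hπ
  have h0 := h G _ (hπ.equiv_comp e)
  have h1 : (e.toMonoidHom.comp π).ker = π.ker := by
    ext g
    rw [MonoidHom.mem_ker, MonoidHom.mem_ker]
    constructor
    · intro hg
      apply e.injective
      rw [map_one]
      exact hg
    · intro hg
      show e (π g) = 1
      rw [hg, map_one]
  rwa [h1] at h0

/-- the centraliser of an element of order `m`, if of order at most `m` -/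
theorem card_centralizer_eq {G : Type*} [Group G] [Finite G] {x : G} {m : ℕ} (ho : orderOf x = m)
    (h : Nat.card (Subgroup.centralizer ({x} : Set G)) ≤ m) : Nat.card (Subgroup.centralizer ({x} : Set G)) = m := by
  apply le_antisymm h
  have h1 : Subgroup.zpowers x ≤ Subgroup.centralizer ({x} : Set G) := by
    rw [Subgroup.zpowers_le]
    exact Subgroup.mem_centralizer_singleton_iff.2 rfl
  have h2 := Subgroup.card_dvd_of_le h1
  rw [Nat.card_zpowers, ho] at h2
  exact Nat.le_of_dvd Nat.card_pos h2

theorem x8_four : good8.su ^ 2 ^ 2 ≠ 1 := by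
  intro h
  have h0 : good8.su * good8.su * good8.su * good8.su = 1 := by
    rw [← h, show 2 ^ 2 = 4 by norm_num]
    simp only [pow_succ, pow_zero, one_mul]
  have h1 : x8 * x8 * x8 * x8 = 1 := (congrArg Classification.RTwo.UThreeThree.mt h0 :)
  revert h1
  decide +kernel

/-- **the triple of `U_3(3)`** -/
theorem trip_u33 {F : Type} [Field F] [Fintype F] (hF : Fintype.card F = 9) : TripABC 7 2 3 (PSU 3 F 3) := by
  let e1 : F ≃+* K9 := (FiniteField.ringEquivOfCardEq (K := F) (K' := K9) (by rw [hF, card_k9]))
  let e : SU 3 K9 3 ≃* PSU 3 F 3 := (psuEquiv card_k9).symm.trans (LieClassical.FieldTransfer.psuCongr 3 3 e1).symm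
  have h3 : Fact (Nat.Prime 3) := ⟨Nat.prime_three⟩
  have h7 : Fact (Nat.Prime 7) := ⟨by norm_num⟩
  have h2 : Fact (Nat.Prime 2) := ⟨Nat.prime_two⟩
  have hcF : CharP K9 3 := by
    obtain ⟨p, k, hp, hchar, hk, hk0⟩ := LieClassical.HermBasic.exists_prime_pow card_k9'
    have h1 : p ∣ 3 := by rw [hk]; exact dvd_pow_self p hk0.ne'
    rw [(Nat.prime_dvd_prime_iff_eq hp Nat.prime_three).1 h1] at hchar
    exact hchar
  have hG : IsLieTypeChar 3 (SU 3 K9 3) :=
    Or.inr (Or.inr (Or.inl ⟨K9, inferInstance, inferInstance, inferInstance, 3, 3, card_k9', le_rfl, by norm_num,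
      ⟨(psuEquiv card_k9).symm⟩⟩))
  have ho7 : orderOf good7.su = 7 := orderOf_eq_prime x7_pow x7_ne
  have ho8 : orderOf good8.su = 2 ^ 3 := orderOf_eq_prime_pow x8_four x8_pow
  have hc7 := card_centralizer_eq ho7 card_x7
  have hc8 := card_centralizer_eq ho8 card_x8
  have hx : PE 7 good7.su := PE.of_orderOf h7.out ho7
  have hy : PE 2 good8.su := ⟨fun h => by rw [h, orderOf_one] at ho8; norm_num at ho8, 3, ho8⟩
  obtain ⟨x, y, z, hx', hy', hz', hxyz⟩ := tri_char Nat.prime_three hG h7.out Nat.prime_two (by norm_num) hx hy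
    (by rw [hc7]; norm_num) (by rw [hc8]; norm_num)
  have hm : MultDvd (SU 3 K9 3) (Nat.gcd 3 (3 + 1)) := by
    refine MultDvd.congr (psuEquiv card_k9).symm (Cfsg.Agent.H80.Fpf.multDvd_of_cyclic (by norm_num)
      (Cfsg.Agent.S2089.result 3 3 card_k9' le_rfl (by norm_num) ?_))
    simp
  refine TripABC.congr e (TripABC.of_mult hm (fun s hs hd => ?_) h7.out Nat.prime_two Nat.prime_three (by norm_num)
    (by norm_num) (by norm_num) hx' hy' hz' hxyz)
  have h6 : Nat.gcd 3 (3 + 1) = 1 := by norm_num
  rw [h6] at hd
  exact absurd (Nat.dvd_one.1 hd) hs.one_lt.ne'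

/-- **`U_3(3)`** -/
theorem row_u33 {F : Type} [Field F] [Fintype F] (hF : Fintype.card F = 9) : RowOdd (PSU 3 F 3) := by
  intro p hp hp2 hd
  right
  have hF' : Fintype.card F = 3 ^ 2 := by rw [hF]; norm_num
  have h := Cfsg.Agent.S0280.result (F := F) hF' 3 (by norm_num)
  have h0 : (3 : ℕ) ^ (3 * (3 - 1) / 2) * ∏ i ∈ Finset.range 3, (if Even i then 3 ^ (i + 1) + 1 else 3 ^ (i + 1) - 1) =
      4 * 6048 := by decide
  rw [h0] at h
  have h1 : Nat.card (PSU 3 F 3) = 6048 := by
    have h2 : Nat.gcd 3 (3 + 1) = 1 := by norm_num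
    rw [h2] at h
    omega
  rw [h1, show 6048 = 2 ^ 5 * (3 ^ 3 * 7) by norm_num] at hd
  have hp' : p = 3 ∨ p = 7 := by
    rcases (Nat.Prime.dvd_mul hp).1 hd with h2 | h2
    · exact absurd ((Nat.prime_dvd_prime_iff_eq hp Nat.prime_two).1 (hp.dvd_of_dvd_pow h2)) hp2
    rcases (Nat.Prime.dvd_mul hp).1 h2 with h3 | h3
    · exact Or.inl ((Nat.prime_dvd_prime_iff_eq hp Nat.prime_three).1 (hp.dvd_of_dvd_pow h3))
    · exact Or.inr ((Nat.prime_dvd_prime_iff_eq hp (by norm_num)).1 h3)
  refine ⟨7, 2, 3, ?_, Or.inr (Or.inl rfl), trip_u33 hF⟩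
  omega

end Cfsg.Agent.H151.PQR
end

-- part: H151/PQR/Row
section
/-!
# The rows `PSU n F q` of S3988 (helper151)
-/

set_option autoImplicit false
set_option linter.unusedSectionVars false

namespace Cfsg.Agent.H151.PQR

open Cfsg Matrix
open Cfsg.Agent.H948.UProd
open Cfsg.Agent.LieClassical.HermBasic
open Cfsg.Agent.ClassicalGeometry.PSUAutBasic (pr)
open Cfsg.Agent.H562.PQR
open Cfsg.Agent.H900.PQR (nonab dvd_psl dvd_psl_of_dvd_q)
open Cfsg.Agent.H80.Fpf (MultDvd)

section trip

variable {F : Type} [Field F] [Fintype F] {n q p r : ℕ}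

theorem lie_psu [CharP F r] (hF : Fintype.card F = q ^ 2) (hn : 3 ≤ n) (h32 : ¬ (n = 3 ∧ q = 2)) :
    IsLieTypeChar r (PSU n F q) :=
  Or.inr (Or.inr (Or.inl ⟨F, inferInstance, inferInstance, inferInstance, n, q, hF, hn, h32, ⟨MulEquiv.refl _⟩⟩))

theorem lie_psl [CharP F r] {m : ℕ} (hm : 2 ≤ m) (h4 : 4 ≤ Fintype.card F) :
    IsLieTypeChar r (ProjectiveSpecialLinearGroup (Fin m) F) :=
  Or.inl ⟨F, inferInstance, inferInstance, inferInstance, m, hm, fun _ => h4, ⟨MulEquiv.refl _⟩⟩

/-- from two regular elements to the triple -/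
theorem trip_of [hr : Fact r.Prime] [CharP F r] (hF : Fintype.card F = q ^ 2) (hn : n.Prime) (hn3 : 3 ≤ n)
    (h32 : ¬ (n = 3 ∧ q = 2)) {a b : ℕ} (ha : a.Prime) (hb : b.Prime) (hab : a ≠ b) (ha2 : a ≠ 2) (hb2 : b ≠ 2)
    (hmul : b = n ∨ ¬ n ∣ q + 1) {x y : PSU n F q} (hx : PE a x) (hy : PE b y)
    (hxc : ¬ r ∣ Nat.card (Subgroup.centralizer ({x} : Set (PSU n F q))))
    (hyc : ¬ r ∣ Nat.card (Subgroup.centralizer ({y} : Set (PSU n F q)))) :
    TripABC a b 2 (PSU n F q) := by
  have hG : IsLieTypeChar r (PSU n F q) := lie_psu hF hn3 h32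
  have hm : MultDvd (PSU n F q) (Nat.gcd n (q + 1)) := by
    refine Cfsg.Agent.H80.Fpf.multDvd_of_cyclic (Nat.gcd_pos_of_pos_left _ (by omega)).ne'
      (Cfsg.Agent.S2089.result n q hF hn3 h32 ?_)
    have hodd : Odd n := hn.odd_of_ne_two (by omega)
    simp only [Set.mem_insert_iff, Set.mem_singleton_iff, Prod.mk.injEq, not_or]
    refine ⟨?_, ?_, ?_⟩ <;> rintro ⟨h, -⟩ <;> subst h <;> revert hodd <;> decide
  have key : ∃ x y z : PSU n F q, PE a x ∧ PE b y ∧ PE 2 z ∧ x * y * z = 1 := by
    by_cases h2 : r = 2
    · subst h2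
      exact tri_char hr.out hG ha hb hab hx hy hxc hyc
    · refine tri_reg hr.out hG Nat.prime_two (Ne.symm h2) ?_ hx hy hxc hyc
      refine Cfsg.Agent.H254.PSUn.dvd_card hF hn3 ?_
      obtain ⟨r', e, hr', hchar, hqr, he⟩ := exists_prime_pow hF
      have hrr : r' = r := CharP.eq F hchar ‹CharP F r›
      have hodd : Odd q := by
        rw [hqr, hrr]
        exact (hr.out.odd_of_ne_two h2).pow
      exact (hodd.add_odd odd_one).two_dvd
  obtain ⟨x', y', z', h1, h2, h3, h4⟩ := key
  refine TripABC.of_mult hm (fun s hs hd => ?_) ha hb Nat.prime_two hab ha2 hb2 h1 h2 h3 h4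
  have h5 : s = n := (Nat.prime_dvd_prime_iff_eq hs hn).1 (hd.trans (Nat.gcd_dvd_left _ _))
  rcases hmul with h7 | h7
  · exact Or.inr (Or.inr (Or.inl (h5.trans h7.symm)))
  · exact absurd (h5 ▸ hd.trans (Nat.gcd_dvd_right _ _)) h7

end trip

section low

variable {F : Type} [Field F] [Fintype F] {q p : ℕ}

/-- `SL_2(q)` in `PSU_3(q)`, `q ≥ 4` -/
theorem notMin_two (hF : Fintype.card F = q ^ 2) (hq4 : 4 ≤ q) (hp : p.Prime) (hp2 : p ≠ 2)
    (hd : p ∣ Nat.card (SU 2 F q)) : NotMin p (PSU 3 F q) := by
  obtain ⟨K, _, _, hK, ⟨e⟩⟩ := Cfsg.Agent.H322.Cent.su_two hF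
  obtain ⟨s, hs⟩ := CharP.exists K
  have hsp : s.Prime := CharP.char_is_prime K s
  have hG : IsLieTypeChar s (ProjectiveSpecialLinearGroup (Fin 2) K) := lie_psl le_rfl (by rw [hK]; exact hq4)
  have : Fact s.Prime := ⟨hsp⟩
  have hsim : IsSimpleGroup (ProjectiveSpecialLinearGroup (Fin 2) K) := H400.LieSimple.isSimple_of_lie hG
  rw [Cfsg.Agent.H322.Cent.card_su_two hF] at hd
  have hdK : p ∣ Nat.card (ProjectiveSpecialLinearGroup (Fin 2) K) := by
    rcases (Nat.Prime.dvd_mul hp).1 hd with h1 | h1
    · exact dvd_psl_of_dvd_q le_rfl (by rwa [hK])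
    · exact dvd_psl le_rfl hp (Or.inr hp2) (k := 2) (by norm_num) le_rfl (by rwa [hK])
  refine NotMin.of_hom (nonab hsp hG) hp hdK
    ((Cfsg.Agent.H341.ThreeElts.psuEmb hF 0 (by norm_num) : SU 2 F q →* PSU 3 F q).comp e.symm.toMonoidHom)
    (QuotientGroup.mk' _) (QuotientGroup.mk'_surjective _) ?_ ?_
  · rw [(MonoidHom.ker_eq_bot_iff _).2]
    · exact bot_le
    · exact (Cfsg.Agent.H341.ThreeElts.psuEmb_injective hF 0 (by norm_num) (by norm_num) (by norm_num)).comp e.symm.injective
  · refine not_surj hF (by norm_num) (b := 1) (M := q ^ 2 - 1) ?_ ?_ (by norm_num) _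
    · rw [← Nat.card_congr e.toEquiv, Cfsg.Agent.H322.Cent.card_su_two hF, pow_one]
    · exact coprime_pred_pow (by omega) 1

/-- `U_4(2)`, the prime 3 -/
theorem notMin_u42 (hF : Fintype.card F = 2 ^ 2) (hp : p.Prime) (hp2 : p ≠ 2)
    (hd : p ∣ Nat.card (SU 3 F 2)) : NotMin p (PSU 4 F 2) := by
  obtain ⟨s, hs⟩ := CharP.exists F
  have hsp : s.Prime := CharP.char_is_prime F s
  have hG : IsLieTypeChar s (ProjectiveSpecialLinearGroup (Fin 2) F) := lie_psl le_rfl (by rw [hF]; norm_num)
  have : Fact s.Prime := ⟨hsp⟩
  have hsim : IsSimpleGroup (ProjectiveSpecialLinearGroup (Fin 2) F) := H400.LieSimple.isSimple_of_lie hG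
  have h3 : p = 3 := by
    rw [card_SU hF (by norm_num)] at hd
    have h1 : (2 : ℕ) ^ (3 * (3 - 1) / 2) * ∏ i ∈ Finset.range (3 - 1), ph 2 (i + 1) = 2 ^ 3 * 3 ^ 3 := by decide
    rw [h1] at hd
    rcases (Nat.Prime.dvd_mul hp).1 hd with h2 | h2
    · exact absurd ((Nat.prime_dvd_prime_iff_eq hp Nat.prime_two).1 (hp.dvd_of_dvd_pow h2)) hp2
    · exact (Nat.prime_dvd_prime_iff_eq hp Nat.prime_three).1 (hp.dvd_of_dvd_pow h2)
  refine notMin_even (m := 2) hF le_rfl (nonab hsp hG) hp ?_
  refine dvd_psl le_rfl hp (Or.inr hp2) (k := 1) le_rfl (by norm_num) ?_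
  rw [h3, hF]
  norm_num

end low

/-- **`PSU_n(q)`** -/
theorem row_psu (F : Type) [Field F] [Fintype F] (n q : ℕ) (hF : Fintype.card F = q ^ 2) (hn : 3 ≤ n)
    (h32 : ¬ (n = 3 ∧ q = 2)) : RowOdd (PSU n F q) := by
  have hq := two_le hF
  obtain ⟨r, e, hr, hchar, hqr, he⟩ := exists_prime_pow hF
  have : Fact r.Prime := ⟨hr⟩
  by_cases h33 : n = 3 ∧ q = 3
  · obtain ⟨rfl, rfl⟩ := h33
    exact row_u33 (by rw [hF]; norm_num)
  intro p hp hp2 hd
  have h4F : 4 ≤ Fintype.card F := by rw [hF]; nlinarith only [hq]
  rcases dichotomy hF hn hp hd with h1 | ⟨hpq, ho, hph⟩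
  · left
    by_cases hn3 : n = 3
    · subst hn3
      exact notMin_two hF (by omega) hp hp2 h1
    by_cases h42 : n = 4 ∧ q = 2
    · obtain ⟨rfl, rfl⟩ := h42
      exact notMin_u42 hF hp hp2 h1
    obtain ⟨m, rfl⟩ : ∃ m, n = m + 1 := ⟨n - 1, by omega⟩
    rw [Nat.add_sub_cancel] at h1
    have h32' : ¬ (m = 3 ∧ q = 2) := by omega
    exact notMin_block hF (by omega) h32' (nonab hr (lie_psu (r := r) hF (by omega) h32')) hp
      (dvd_psu_of_su hF (by omega) hp h1)
  · rcases Nat.even_or_odd n with hev | hodd
    · left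
      obtain ⟨m, rfl⟩ : ∃ m, n = 2 * m := hev.two_dvd
      have hG : IsLieTypeChar r (ProjectiveSpecialLinearGroup (Fin m) F) := lie_psl (by omega) h4F
      have hsim : IsSimpleGroup (ProjectiveSpecialLinearGroup (Fin m) F) := H400.LieSimple.isSimple_of_lie hG
      refine notMin_even hF (by omega) (nonab hr hG) hp ?_
      refine dvd_psl (by omega) hp (Or.inr hp2) (k := m) (by omega) le_rfl ?_
      unfold ph at hph
      rw [if_neg (by rw [Nat.not_even_iff_odd]; exact ⟨m - 1, by omega⟩), Nat.sub_add_cancel (by omega), pow_mul] at hph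
      rwa [hF]
    by_cases hprime : n.Prime
    · right
      have hdi : (p : ℤ) ∣ (-(q : ℤ)) ^ n - 1 := by
        have := (dvd_ph_iff (q := q) (by omega) p (n - 1)).2 hph
        rwa [Nat.sub_add_cancel (by omega)] at this
      have hpn : p ≠ n := ho.ne (by omega) hp hdi
      obtain ⟨x, hx, hxc⟩ := exists_top (r := r) hF hn hp hpq ho (hd.trans card_psu_dvd)
      by_cases hnr : n = r
      · have hnq : n ∣ q := by rw [hqr, hnr]; exact dvd_pow_self r he.ne'
        have hmul : ¬ n ∣ q + 1 := by
          intro h
          have h1 := (Nat.dvd_add_right hnq).1 h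
          have := Nat.le_of_dvd one_pos h1
          omega
        by_cases hn3 : n = 3
        · have he2 : 2 ≤ e := by
            by_contra h2
            have : e = 1 := by omega
            rw [this, pow_one, ← hnr] at hqr
            exact h33 ⟨hn3, hqr.trans hn3⟩
          obtain ⟨b, hb, hb2, hbd⟩ := exists_odd_dvd he2
          have hbq : b ∣ q + 1 := by rw [hqr, ← hnr, hn3]; exact hbd
          subst hn3
          obtain ⟨y, hy, hyc⟩ := exists_diag (r := r) hF hb hb2 hbq
          have hpb : p ≠ b := by
            rintro rfl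
            apply ho 1 one_pos (by norm_num)
            rw [pow_one]
            have : (-(q : ℤ)) - 1 = -((q + 1 : ℕ) : ℤ) := by push_cast; ring
            rw [this, dvd_neg, Int.natCast_dvd_natCast]
            exact hbq
          exact ⟨p, b, 2, Or.inl rfl, Or.inr (Or.inr rfl),
            trip_of (r := r) hF hprime le_rfl h32 hp hb hpb hp2 hb2 (Or.inr hmul) hx hy hxc hyc⟩
        · have hn5 : 5 ≤ n := by
            rcases hodd with ⟨j, rfl⟩
            omega
          have hq5 : 5 ≤ q := hn5.trans (Nat.le_of_dvd (by omega) hnq)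
          obtain ⟨m, rfl⟩ : ∃ m, n = m + 1 := ⟨n - 1, by omega⟩
          have hm : Even m := by
            rcases hodd with ⟨j, hj⟩
            exact ⟨j, by omega⟩
          obtain ⟨b, hb, hb2, hbq, hbo, hbd⟩ := exists_ord (q := q) (N := m) (by omega) hm (by omega)
          have hbd' : b ∣ Nat.card (SU m F q) := by
            refine dvd_card_SU hF (by omega) (i := m - 1) (by omega) ?_
            rw [← dvd_ph_iff (by omega), Nat.sub_add_cancel (by omega)]
            exact hbd
          obtain ⟨y, hy, hyc⟩ := exists_emb (r := r) hF (by omega) hb hbq hbo hbd'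
          have hpb : p ≠ b := by
            rintro rfl
            exact ho m (by omega) (by omega) hbd
          exact ⟨p, b, 2, Or.inl rfl, Or.inr (Or.inr rfl),
            trip_of (r := r) hF hprime hn h32 hp hb hpb hp2 hb2 (Or.inr hmul) hx hy hxc hyc⟩
      · obtain ⟨y, hy, hyc⟩ := exists_cyc (r := r) hF hn hprime hnr
        exact ⟨p, n, 2, Or.inl rfl, Or.inr (Or.inr rfl),
          trip_of (r := r) hF hprime hn h32 hp hprime hpn hp2 (by omega) (Or.inl rfl) hx hy hxc hyc⟩
    · left
      obtain ⟨k, hk, hk1, hk2⟩ := Nat.exists_dvd_of_not_prime2 (n := n) (by omega) hprime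
      obtain ⟨m, rfl⟩ := hk
      obtain ⟨hko, hmo⟩ := Nat.odd_mul.1 hodd
      have hk3 : 3 ≤ k := by
        rcases hko with ⟨j, rfl⟩
        omega
      have hm3 : 3 ≤ m := by
        rcases hmo with ⟨j, rfl⟩
        rcases Nat.eq_zero_or_pos j with h | h
        · subst h
          omega
        · omega
      obtain ⟨L, _, _, _, hcard, hfin⟩ := H749.exists_ext F m (by omega)
      have : Fintype L := Fintype.ofFinite L
      have hL : Fintype.card L = (q ^ m) ^ 2 := by
        rw [← Nat.card_eq_fintype_card, hcard, Nat.card_eq_fintype_card, hF]; ring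
      have hcL : CharP L r := charP_of_injective_algebraMap (algebraMap F L).injective r
      have h32' : ¬ (k = 3 ∧ q ^ m = 2) := by
        rintro ⟨-, h⟩
        have h1 : 2 ^ 3 ≤ q ^ m := (Nat.pow_le_pow_left hq 3).trans (Nat.pow_le_pow_right (by omega) hm3)
        omega
      refine notMin_comp hF hk3 hmo hm3 hL hfin (nonab hr (lie_psu (r := r) hL hk3 h32')) hp
        (dvd_psu_of_su hL hk3 hp (dvd_card_SU hL (by omega) (i := k - 1) (by omega) ?_))
      have hev1 : Even (k * m - 1) := by
        rcases hodd with ⟨j, hj⟩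
        exact ⟨j, by omega⟩
      have hev2 : Even (k - 1) := by
        rcases hko with ⟨j, hj⟩
        exact ⟨j, by omega⟩
      unfold ph at hph ⊢
      rw [if_pos hev1, Nat.sub_add_cancel (by omega)] at hph
      rw [if_pos hev2, Nat.sub_add_cancel (by omega), ← pow_mul, mul_comm m k]
      exact hph

end Cfsg.Agent.H151.PQR
end

-- part: H206/PQR/AltTri
section
/-!
# A product of an involution and an element of order three which is an `n`-cycle (helper206; S3988)

For `n` not divisible by `3`: `a = (0 1)(3 4)(6 7)…`, `b = (1 2 3)(4 5 6)…` on `Fin n`; `a b` is an `n`-cycle.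
-/

set_option autoImplicit false

namespace Cfsg.Agent.H206.PQR.AltTri

open Equiv Equiv.Perm

/-- the involution -/
def af (n x : ℕ) : ℕ := if x % 3 = 0 then (if x + 1 < n then x + 1 else x) else if x % 3 = 1 then x - 1 else x

/-- the element of order three -/
def bf (n x : ℕ) : ℕ :=
  if x % 3 = 0 then (if x = 0 then 0 else x - 2) else if x % 3 = 1 then (if x + 2 < n then x + 1 else x) else x + 1

variable {n : ℕ}

theorem af_lt {x : ℕ} (hx : x < n) : af n x < n := by
  unfold af
  split_ifs <;> omega

theorem bf_lt (h3 : n % 3 ≠ 0) {x : ℕ} (hx : x < n) : bf n x < n := by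
  unfold bf
  split_ifs <;> omega

theorem af_af {x : ℕ} (hx : x < n) : af n (af n x) = x := by
  unfold af
  split_ifs <;> omega

theorem bf_bf_bf (h3 : n % 3 ≠ 0) {x : ℕ} (hx : x < n) : bf n (bf n (bf n x)) = x := by
  have h : x = 0 ∨ (x % 3 = 0 ∧ 3 ≤ x) ∨ (x % 3 = 1 ∧ x + 2 < n) ∨ (x % 3 = 1 ∧ ¬ x + 2 < n) ∨ (x % 3 = 2 ∧ x + 1 < n) := by
    (clear * - h3 hx; solve | lia | omega)
  have e0 : bf n 0 = 0 := by simp [bf]
  have e1 : ∀ y, y % 3 = 0 → y ≠ 0 → bf n y = y - 2 := by
    intro y h1 h2
    simp [bf, h1, h2]
  have e2 : ∀ y, y % 3 = 1 → y + 2 < n → bf n y = y + 1 := by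
    intro y h1 h2
    simp [bf, h1, h2]
  have e3 : ∀ y, y % 3 = 1 → ¬ y + 2 < n → bf n y = y := by
    intro y h1 h2
    simp [bf, h1, h2]
  have e4 : ∀ y, y % 3 = 2 → bf n y = y + 1 := by
    intro y h1
    simp [bf, h1]
  rcases h with rfl | ⟨h1, h2⟩ | ⟨h1, h2⟩ | ⟨h1, h2⟩ | ⟨h1, h2⟩
  · rw [e0, e0, e0]
  · rw [e1 x h1 (by omega), e2 (x - 2) (by omega) (by omega), e4 (x - 2 + 1) (by omega)]
    omega
  · rw [e2 x h1 h2, e4 (x + 1) (by omega), e1 (x + 1 + 1) (by omega) (by omega)]
    omega
  · rw [e3 x h1 h2, e3 x h1 h2, e3 x h1 h2]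
  · rw [e4 x h1, e1 (x + 1) (by omega) (by omega), e2 (x + 1 - 2) (by omega) (by omega)]
    omega

/-- the involution as a permutation -/
def a (n : ℕ) : Perm (Fin n) where
  toFun x := ⟨af n x.1, af_lt x.2⟩
  invFun x := ⟨af n x.1, af_lt x.2⟩
  left_inv x := Fin.ext (af_af x.2)
  right_inv x := Fin.ext (af_af x.2)

/-- the element of order three as a permutation -/
def b (h3 : n % 3 ≠ 0) : Perm (Fin n) where
  toFun x := ⟨bf n x.1, bf_lt h3 x.2⟩
  invFun x := ⟨bf n (bf n x.1), bf_lt h3 (bf_lt h3 x.2)⟩
  left_inv x := Fin.ext (bf_bf_bf h3 x.2)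
  right_inv x := Fin.ext (bf_bf_bf h3 x.2)

theorem a_sq (n : ℕ) : a n ^ 2 = 1 := by
  ext x
  rw [pow_two, mul_apply]
  exact af_af x.2

theorem b_cube (h3 : n % 3 ≠ 0) : b h3 ^ 3 = 1 := by
  ext x
  rw [pow_succ, pow_two, mul_apply, mul_apply]
  exact (bf_bf_bf h3 x.2 :)

theorem ab_apply (h3 : n % 3 ≠ 0) (x : Fin n) : ((a n * b h3) x : ℕ) = af n (bf n x) := rfl

/-- all points are in one orbit -/
theorem sameCycle (h3 : n % 3 ≠ 0) (h1 : 1 < n) : ∀ (x : ℕ) (hx : x < n),
    SameCycle (a n * b h3) ⟨0, by omega⟩ ⟨x, hx⟩ := by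
  intro x
  induction x using Nat.strong_induction_on with
  | _ x ih =>
    intro hx
    have step : ∀ (y z : ℕ) (hy : y < n) (hz : z < n), af n (bf n y) = z →
        SameCycle (a n * b h3) ⟨y, hy⟩ ⟨z, hz⟩ := by
      intro y z hy hz h
      refine ⟨1, ?_⟩
      rw [zpow_one]
      exact Fin.ext h
    have hcase : x = 0 ∨ x = 1 ∨ (x % 3 = 2) ∨ (x % 3 = 1 ∧ 4 ≤ x) ∨ (x % 3 = 0 ∧ 3 ≤ x) := by (clear * -; solve | lia | omega)
    rcases hcase with rfl | rfl | h | ⟨h, h4⟩ | ⟨h, h4⟩
    · exact SameCycle.refl _ _
    · refine step 0 1 (by omega) hx ?_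
      simp [bf, af, h1]
    · refine (ih (x - 1) (by omega) (by omega)).trans (step (x - 1) x (by omega) hx ?_)
      have e1 : bf n (x - 1) = x := by
        unfold bf
        split_ifs <;> omega
      rw [e1]
      unfold af
      split_ifs <;> omega
    · refine (ih (x - 2) (by omega) (by omega)).trans (step (x - 2) x (by omega) hx ?_)
      have e1 : bf n (x - 2) = x - 1 := by
        unfold bf
        split_ifs <;> omega
      rw [e1]
      unfold af
      split_ifs <;> omega
    · refine (ih (x - 3) (by omega) (by omega)).trans (step x (x - 3) hx (by omega) ?_).symm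
      have e1 : bf n x = x - 2 := by
        unfold bf
        split_ifs <;> omega
      rw [e1]
      unfold af
      split_ifs <;> omega

theorem isCycle (h3 : n % 3 ≠ 0) (h1 : 1 < n) : IsCycle (a n * b h3) ∧ (a n * b h3).support = Finset.univ := by
  have h0 : (a n * b h3) ⟨0, by omega⟩ ≠ ⟨0, by omega⟩ := by
    intro h
    have := congrArg Fin.val h
    rw [ab_apply] at this
    simp [bf, af, h1] at this
  refine ⟨⟨⟨0, by omega⟩, h0, fun y _ => sameCycle h3 h1 y.1 y.2⟩, ?_⟩
  rw [Finset.eq_univ_iff_forall]
  intro y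
  rw [mem_support]
  intro hy
  apply h0
  exact ((sameCycle h3 h1 y.1 y.2).apply_eq_self_iff).2 hy

theorem orderOf_ab (h3 : n % 3 ≠ 0) (h1 : 1 < n) : orderOf (a n * b h3) = n := by
  rw [(isCycle h3 h1).1.orderOf, (isCycle h3 h1).2, Finset.card_univ, Fintype.card_fin]

theorem a_ne (h1 : 1 < n) : a n ≠ 1 := by
  intro h
  have := congrArg (fun p : Perm (Fin n) => (p ⟨0, by omega⟩ : ℕ)) h
  change af n 0 = 0 at this
  simp [af, h1] at this

theorem b_ne (h3 : n % 3 ≠ 0) (h1 : 3 < n) : b h3 ≠ 1 := by
  intro h
  have := congrArg (fun p : Perm (Fin n) => (p ⟨1, by omega⟩ : ℕ)) h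
  change bf n 1 = 1 at this
  simp [bf, h1] at this

theorem sign_b (h3 : n % 3 ≠ 0) : sign (b h3) = 1 := by
  have h := congrArg sign (b_cube h3)
  rw [map_pow, map_one] at h
  rcases Int.units_eq_one_or (sign (b h3)) with h1 | h1
  · exact h1
  · rw [h1] at h
    exact absurd h (by decide)

theorem sign_a (h3 : n % 3 ≠ 0) (h1 : 1 < n) (hn : Odd n) : sign (a n) = 1 := by
  have h := (isCycle h3 h1).1.sign
  rw [(isCycle h3 h1).2, Finset.card_univ, Fintype.card_fin, map_mul, sign_b, mul_one, hn.neg_one_pow] at h
  rw [h, neg_neg]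

end Cfsg.Agent.H206.PQR.AltTri
end

-- part: H206/PQR/RowAlt
section
/-!
# S3988: the row of the alternating groups (helper206)
-/

set_option autoImplicit false
set_option linter.style.haveILetI false

namespace Cfsg.Agent.H206.PQR.RowAlt

open Equiv Equiv.Perm
open Cfsg.Agent.H80.Fpf (IsCover MultDvd)
open Cfsg.Agent.H562.PQR

theorem exists_inj {m n : ℕ} (h : m ≤ n) :
    ∃ f : alternatingGroup (Fin m) →* alternatingGroup (Fin n), Function.Injective f := by
  let ι : Fin m ↪ Fin n := Fin.castLEEmb h
  let φ : Perm (Fin m) →* Perm (Fin n) := Perm.extendDomainHom (Equiv.ofInjective ι.1 ι.2)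
  have hs : ∀ a : Perm (Fin m), Perm.sign (φ a) = Perm.sign a :=
    fun a => Perm.sign_extendDomain a (Equiv.ofInjective ι.1 ι.2)
  have hφ : Function.Injective φ := Perm.extendDomainHom_injective (Equiv.ofInjective ι.1 ι.2)
  refine ⟨(φ.comp (alternatingGroup (Fin m)).subtype).codRestrict _ ?_, ?_⟩
  · rintro ⟨a, ha⟩
    rw [Perm.mem_alternatingGroup] at ha ⊢
    change Perm.sign (φ a) = 1
    rw [hs, ha]
  · intro a b hab
    have h1 := congrArg Subtype.val hab
    exact Subtype.ext (hφ h1)

theorem card_alt {n : ℕ} (hn : 2 ≤ n) : 2 * Nat.card (alternatingGroup (Fin n)) = n.factorial := by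
  have : Nontrivial (Fin n) := Fin.nontrivial_iff_two_le.2 (by omega)
  rw [two_mul_nat_card_alternatingGroup, Nat.card_perm, Nat.card_fin]

theorem card_lt {m n : ℕ} (hm : 2 ≤ m) (hmn : m < n) :
    Nat.card (alternatingGroup (Fin m)) < Nat.card (alternatingGroup (Fin n)) := by
  have h3 := card_alt hm
  have h4 := card_alt (n := n) (by omega)
  have h5 : m.factorial < n.factorial := (Nat.factorial_lt (by omega)).2 hmn
  omega

theorem prime_dvd_iff {n p : ℕ} (hn : 2 ≤ n) (hp : p.Prime) (hp2 : p ≠ 2) :
    p ∣ Nat.card (alternatingGroup (Fin n)) ↔ p ≤ n := by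
  rw [← hp.dvd_factorial, ← card_alt hn]
  constructor
  · exact fun h => h.mul_left 2
  · intro h
    rcases hp.dvd_mul.1 h with h1 | h1
    · exact absurd ((Nat.prime_dvd_prime_iff_eq hp Nat.prime_two).1 h1) hp2
    · exact h1

theorem simple {n : ℕ} (hn : 5 ≤ n) : IsSimpleGroup (alternatingGroup (Fin n)) :=
  alternatingGroup.isSimpleGroup (by rw [Nat.card_fin]; exact hn)

/-- elements of the alternating group -/
theorem exists_xy {n : ℕ} (h3 : n % 3 ≠ 0) (h1 : 3 < n) (hn : Odd n) :
    ∃ x y : alternatingGroup (Fin n), orderOf x = 2 ∧ orderOf y = 3 ∧ orderOf (x * y) = n := by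
  refine ⟨⟨AltTri.a n, ?_⟩, ⟨AltTri.b h3, ?_⟩, ?_, ?_, ?_⟩
  · rw [mem_alternatingGroup]
    exact AltTri.sign_a h3 (by omega) hn
  · rw [mem_alternatingGroup]
    exact AltTri.sign_b h3
  · rw [Subgroup.orderOf_mk]
    exact orderOf_eq_prime (AltTri.a_sq n) (AltTri.a_ne (by omega))
  · rw [Subgroup.orderOf_mk]
    haveI : Fact (Nat.Prime 3) := ⟨Nat.prime_three⟩
    exact orderOf_eq_prime (AltTri.b_cube h3) (AltTri.b_ne h3 h1)
  · rw [MulMemClass.mk_mul_mk, Subgroup.orderOf_mk]
    exact AltTri.orderOf_ab h3 (by omega)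

theorem not_comm {n : ℕ} (hn : 5 ≤ n) : ∃ x y : alternatingGroup (Fin n), x * y ≠ y * x := by
  by_contra hcon
  push Not at hcon
  haveI := simple hn
  have hc : Subgroup.center (alternatingGroup (Fin n)) = ⊤ := by
    rw [Subgroup.eq_top_iff']
    intro x
    rw [Subgroup.mem_center_iff]
    exact fun y => hcon y x
  have h4 := alternatingGroup.center_eq_bot (α := Fin n) (by rw [Nat.card_fin]; omega)
  rw [h4] at hc
  have h5 := card_lt (m := 4) (n := n) (by norm_num) (by omega)
  have h6 : Nat.card (alternatingGroup (Fin n)) = 1 := by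
    rw [← Subgroup.card_top, ← hc, Subgroup.card_bot]
  rw [h6] at h5
  have h7 := card_alt (n := 4) (by norm_num)
  have h8 : Nat.factorial 4 = 24 := rfl
  omega

/-- the multiplier -/
theorem mult {n : ℕ} (hn : 4 ≤ n) (h6 : n ≠ 6) (h7 : n ≠ 7) : MultDvd (alternatingGroup (Fin n)) 2 := by
  intro G _ _ π hπ
  have h := Cfsg.Agent.S0892.result n hn h6 h7 π.ker hπ.central (by rw [hπ.perf]; exact le_top)
    (QuotientGroup.quotientKerEquivOfSurjective π hπ.surj)
  have h1 : 0 < Nat.card π.ker := Nat.card_pos
  interval_cases Nat.card π.ker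
  · exact one_dvd _
  · exact dvd_rfl

theorem clift_of_bot {S : Type} [Group S] {s : ℕ}
    (h0 : ∀ (Γ : Type) [Group Γ] [Finite Γ] (π : Γ →* S), IsCover π → IsPGroup s π.ker → π.ker = ⊥)
    {x y z : S} (h : x * y * z = 1) (hx : ¬ s ∣ orderOf x) (hy : ¬ s ∣ orderOf y) (hz : ¬ s ∣ orderOf z) :
    CLift s x y z := by
  intro Γ _ _ π hπ hk
  have hinj : Function.Injective π := (MonoidHom.ker_eq_bot_iff π).1 (h0 Γ π hπ hk)
  let e : Γ ≃* S := MulEquiv.ofBijective π ⟨hinj, hπ.surj⟩
  have he : ∀ t : S, π (e.symm t) = t := fun t => e.apply_symm_apply t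
  refine ⟨e.symm x, e.symm y, e.symm z, he x, he y, he z, ?_, ?_, ?_, ?_⟩
  · rw [← map_mul, ← map_mul, h, map_one]
  · rwa [e.symm.orderOf_eq]
  · rwa [e.symm.orderOf_eq]
  · rwa [e.symm.orderOf_eq]

/-- primes `n ≥ 5` -/
theorem tripABC {p : ℕ} (hp : p.Prime) (h5 : 5 ≤ p) : TripABC 2 3 p (alternatingGroup (Fin p)) := by
  have h3 : p % 3 ≠ 0 := by
    intro h
    have h1 : 3 ∣ p := Nat.dvd_of_mod_eq_zero h
    have h2 := (Nat.prime_dvd_prime_iff_eq Nat.prime_three hp).1 h1
    omega
  have hodd : Odd p := hp.odd_of_ne_two (by omega)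
  obtain ⟨x, y, hx, hy, hxy⟩ := exists_xy h3 (by omega) hodd
  have hx' := PE.of_orderOf Nat.prime_two hx
  have hy' := PE.of_orderOf Nat.prime_three hy
  have hz' : PE p (x * y)⁻¹ := (PE.of_orderOf hp hxy).inv
  have h1 : x * y * (x * y)⁻¹ = 1 := mul_inv_cancel _
  by_cases h7 : p = 7
  · subst h7
    refine ⟨Nat.prime_two, Nat.prime_three, hp, by norm_num, by norm_num, by norm_num, x, y, (x * y)⁻¹, hx', hy', hz',
      h1, fun s hs h2 _ h3' h7' hd => ?_⟩
    have hs7 : s ≤ 7 := (prime_dvd_iff (by norm_num) hs h2).1 hd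
    have hs5 : s = 5 := by
      interval_cases s
      all_goals first | rfl | (exfalso; revert hs; norm_num; done) | omega
    subst hs5
    haveI : Fact (Nat.Prime 5) := ⟨Nat.prime_five⟩
    refine clift_of_bot ?_ h1 (by rw [hx]; norm_num) (by rw [hy]; norm_num)
      (by rw [orderOf_inv, hxy]; norm_num)
    intro Γ _ _ π hπ hk
    have hperf : commutator (alternatingGroup (Fin 7)) = ⊤ := by
      haveI := simple (n := 7) (by norm_num)
      obtain ⟨u, v, huv⟩ := not_comm (n := 7) (by norm_num)
      exact Cfsg.Agent.H80.Fpf.perfect_of_simple huv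
    have hcyc : ∀ P : Sylow 5 (alternatingGroup (Fin 7)), IsCyclic P := by
      intro P
      have hcard : Nat.card (alternatingGroup (Fin 7)) = 2520 := by
        have := card_alt (n := 7) (by norm_num)
        have h8 : Nat.factorial 7 = 5040 := rfl
        omega
      have h9 : Nat.card P = 5 := by
        rw [P.card_eq_multiplicity, hcard]
        have : (2520 : ℕ).factorization 5 = 1 := by
          rw [show (2520 : ℕ) = 5 ^ 1 * 504 by norm_num, Nat.factorization_mul (by norm_num) (by norm_num),
            Nat.factorization_pow]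
          simp [Nat.prime_five.factorization, Nat.factorization_eq_zero_of_not_dvd (show ¬ 5 ∣ 504 by norm_num)]
        rw [this, pow_one]
      exact isCyclic_of_prime_card h9
    have hnd := Cfsg.Agent.S0102.result hperf hcyc π hπ.surj hπ.central hπ.perf
    obtain ⟨n, hn⟩ := IsPGroup.iff_card.1 hk
    have h3 : n = 0 := by
      by_contra h3
      exact hnd (by rw [hn]; exact dvd_pow_self 5 h3)
    rw [h3, pow_zero] at hn
    exact Subgroup.card_eq_one.1 hn
  · refine TripABC.of_mult (mult (by omega) (by rintro rfl; revert hp; norm_num) h7) (fun s hs hd => ?_)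
      Nat.prime_two Nat.prime_three hp (by norm_num) (by omega) (by omega) hx' hy' hz' h1
    exact Or.inl ((Nat.prime_dvd_prime_iff_eq hs Nat.prime_two).1 hd)

/-- **the row of the alternating groups** -/
theorem row_alt {n : ℕ} (hn : 5 ≤ n) : RowOdd (alternatingGroup (Fin n)) := by
  intro p hp hp2 hd
  haveI : Fact p.Prime := ⟨hp⟩
  have hpn := (prime_dvd_iff (by omega) hp hp2).1 hd
  by_cases h5 : p = n ∧ 5 ≤ p
  · obtain ⟨rfl, h5⟩ := h5
    exact Or.inr ⟨2, 3, p, Or.inr (Or.inr rfl), Or.inl rfl, tripABC hp h5⟩
  · by_cases h6 : 6 ≤ n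
    · have hpn' : p ≤ n - 1 := by omega
      obtain ⟨f, hf⟩ := exists_inj (Nat.sub_le n 1)
      haveI := simple (n := n - 1) (by omega)
      exact Or.inl (NotMin.of_injective f hf
        (not_isPSolvable_of_simple (not_comm (by omega)) hp ((prime_dvd_iff (by omega) hp hp2).2 hpn'))
        (card_lt (by omega) (by omega)))
    · have hn5 : n = 5 := by omega
      subst hn5
      have hp3 : p = 3 := by
        interval_cases p
        all_goals first | rfl | (exfalso; revert hp; norm_num; done) | omega
      subst hp3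
      exact Or.inr ⟨2, 3, 5, Or.inr (Or.inl rfl), Or.inl rfl, tripABC Nat.prime_five le_rfl⟩

end Cfsg.Agent.H206.PQR.RowAlt
end

private theorem dce_3f89799f8024 : _root_.True := by
  try have : _root_.True := by simp only [_root_.Cfsg.Agent.H206.PQR.AltTri.bf.eq_1]
  try have : _root_.True := by simp only [_root_.Cfsg.Agent.H206.PQR.AltTri.af.eq_1]
  exact _root_.True.intro
end

-- part: H963/PQR/RegElt
section
set_option linter.all false
open scoped Cfsg.Agent.FastGrp

/-!
# Regular elements of prime order in groups of twisted type (helper963)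

`reg_elt` : `σ` a twisted Frobenius automorphism of `D.group k`, `q = p ^ e`, `r ∤ |W|` a prime dividing the value at `q`
of a polynomial of the torus of type `w`, and the functional `λ` is nonzero modulo `r` at each root: an element of order
`r` of `Y^σ` whose centraliser has order prime to `p`.
-/

set_option autoImplicit false
set_option linter.unusedSectionVars false

namespace Cfsg.Agent.H963.PQR.RegElt

open CoxeterSystem Cfsg Cfsg.Lie Cfsg.Lie.ChevalleyDatum
open Cfsg.Agent.ChevalleyStructure Cfsg.Agent.ChevalleyStructure.Elts Cfsg.Agent.ChevalleyStructure.CoxeterGeom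
  Cfsg.Agent.ChevalleyStructure.CoxeterGeomTypes Cfsg.Agent.ChevalleyStructure.NPerm
open Cfsg.Agent.Tits.Roots Cfsg.Agent.Tits.Core Cfsg.Agent.Nodes Cfsg.Agent.Nodes.Reps Cfsg.Agent.Nodes.BNOf
  Cfsg.Agent.Nodes.RGDChev Cfsg.Agent.Nodes.Bruhat Cfsg.Agent.Nodes.SubComb Cfsg.Agent.Nodes.Coroot
open Cfsg.Agent.KFacts.RgdField Cfsg.Agent.KFacts.RgdChevCoord Cfsg.Agent.BpExc.TorCent Cfsg.Agent.BpExc.TorChev
open Cfsg.Agent.GpExc.Field Cfsg.Agent.BpExc.Tow Cfsg.Agent.BpExc.TowChev Cfsg.Agent.BpExc.Fr
  Cfsg.Agent.BpExc.LangFr Cfsg.Agent.LangThm Cfsg.Agent.BpExc Cfsg.Agent.H129.TorusChar Cfsg.Agent.H129.TorusCent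
  Cfsg.Agent.H129.TorusTw Cfsg.Agent.H129.TorusMain Cfsg.Agent.H493.PGTorus Cfsg.Agent.H493.PGTwist

universe u

section Alg

variable {D : ChevalleyDatum} {l : ℕ} {M : CoxeterMatrix (Fin l)} (hp : IsType D l M) {k : Type u} [Field k]
  [IsAlgClosed k] {W : Type*} [Group W] (cs : CoxeterSystem M W) {p e : ℕ} [Fact p.Prime] [CharP k p]
  {σ : MulAut ↥(D.group k)} {g : (Fin l → ℤ) ≃+ (Fin l → ℤ)}

/-- **Torus elements of prime order**, with the kernel of the character. -/
theorem exists_t' (hσ : IsFrob p e σ) (F : Fr cs hp.isCartan (TT D k) (XX D l k) σ g) {d' : ℕ}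
    {B' : Fin l → Fin l → ℤ} (hB : InvC D l d' B') (hd' : d' ≠ 0) {L : (Fin l → ℤ) →+ ℤ} {r : ℕ} (hr : r.Prime)
    (hrp : r ≠ p) (hL : ∀ x, (r : ℤ) ∣ L (g x) - ((p ^ e : ℕ) : ℤ) * L x) {x₀ : Fin l → ℤ} (hx₀ : ¬ (r : ℤ) ∣ L x₀) :
    ∃ t ∈ TT D k, σ t = t ∧ orderOf t = r ∧ ∀ x, cX hp t x = 1 ↔ (r : ℤ) ∣ L x := by
  have := Fact.mk hr
  have hrk : (r : k) ≠ 0 := by
    rw [Ne, CharP.cast_eq_zero_iff k p]
    intro h
    exact hrp ((Nat.prime_dvd_prime_iff_eq (Fact.out : p.Prime) hr).1 h).symm
  have : NeZero (r : k) := ⟨hrk⟩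
  obtain ⟨u, hu⟩ := HasEnoughRootsOfUnity.exists_primitiveRoot k r
  have hu0 : u ≠ 0 := hu.ne_zero hr.ne_zero
  have hMC : IsMC (fun x : Fin l → ℤ => u ^ L x) :=
    ⟨by rw [map_zero, zpow_zero], fun x y => by rw [map_add, zpow_add₀ hu0]⟩
  obtain ⟨t, ht, hcX⟩ := exists_cX hp hB hd' hMC fun i =>
    IsAlgClosed.exists_pow_nat_eq _ (Nat.pos_of_ne_zero hd')
  have hone : ∀ z : ℤ, u ^ z = 1 ↔ (r : ℤ) ∣ z := fun z => hu.zpow_eq_one_iff_dvd z
  have hσt : σ t ∈ TT D k := (F.tor t).2 ht
  refine ⟨t, ht, ?_, ?_, fun x => ?_⟩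
  · refine cX_inj hp hσt ht fun i => ?_
    have h1 : sr i = g (g.symm (sr i)) := (g.apply_symm_apply _).symm
    rw [h1, cX_sigma hp cs hσ F ht, hcX, hcX, ← zpow_natCast, ← zpow_mul]
    obtain ⟨N, hN⟩ := hL (g.symm (sr i))
    have h2 : L (g (g.symm (sr i))) = L (g.symm (sr i)) * ((p ^ e : ℕ) : ℤ) + (r : ℤ) * N := by
      rw [← hN]; ring
    rw [h2, zpow_add₀ hu0, (hone ((r : ℤ) * N)).2 (dvd_mul_right _ _), mul_one]
  · refine orderOf_eq_prime ?_ ?_
    · refine cX_inj hp (pow_mem ht r) (one_mem _) fun i => ?_
      rw [cX_pow hp ht, cX_one, hcX, ← zpow_natCast, ← zpow_mul, hone]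
      exact dvd_mul_left _ _
    · intro h0
      apply hx₀
      rw [← hone, ← hcX, h0, cX_one]
  · rw [hcX]; exact hone _

include hp in
/-- a torus element of order dividing the characteristic is trivial -/
theorem eq_one_of_pow {t : ↥(D.group k)} (ht : t ∈ TT D k) (h : t ^ p = 1) : t = 1 := by
  refine cX_inj hp ht (one_mem _) fun i => ?_
  have h1 : cX hp t (sr i) ^ p = 1 := by rw [← cX_pow hp ht, h, cX_one]
  have h2 : (cX hp t (sr i) - 1) ^ p = 0 := by rw [sub_pow_char, h1, one_pow, sub_self]
  rw [cX_one]
  exact sub_eq_zero.1 (pow_eq_zero_iff (Fact.out : p.Prime).ne_zero |>.1 h2)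

/-- **Regular elements of prime order.** -/
theorem reg_elt [Finite W] (hk : LocFin k) (he : 0 < e) (hσ : IsFrob p e σ)
    (F : Fr cs hp.isCartan (TT D k) (XX D l k) σ g) {d' : ℕ} {B' : Fin l → Fin l → ℤ} (hB : InvC D l d' B')
    (hd' : d' ≠ 0) {G0 : Type*} [Group G0] [Finite G0] {e0 : G0 →* ↥(D.group k)} (he0 : Function.Injective e0)
    (hd : ∀ y, σ y = y → y ∈ e0.range)
    {w : W} {Th : Fin l → Fin l → ℤ} (hw : ∀ j, rep cs hp.isCartan w (g (sr j)) = Th j)
    {f : ℕ} {c : Fin (f + 1) → ℤ} {V : Fin (f + 1) → Fin l → ℤ} {U : Fin l → ℤ}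
    (h : EigOK (fun i j => Th j i) c V U) (hc : c 0 = 1 ∨ c 0 = -1)
    {r : ℕ} (hr : r.Prime) (hrW : ¬ r ∣ Nat.card W)
    (h1 : (r : ℤ) ∣ pv c ((p ^ e : ℕ) : ℤ))
    (hreg : ∀ a, IsRoot cs hp.isCartan a → ¬ (r : ℤ) ∣ lam V ((p ^ e : ℕ) : ℤ) a) :
    ∃ x : G0, orderOf x = r ∧ ¬ p ∣ Nat.card ↥(Subgroup.centralizer ({x} : Set G0)) := by
  obtain ⟨n, z, hz, hσ', F'⟩ := exists_z hp cs hk he hσ F w
  obtain ⟨t, ht, h3, h4, h5⟩ := exists_t' hp cs hσ' F' hB hd' hr (ne_char hc Fact.out he h1) (hL_of_eig hp cs hw h h1)
    (x₀ := U) (by rw [lam_unit h]; exact H378.TwAdj.not_dvd_one hr)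
  obtain ⟨x, hx⟩ := hd _ (fix_conj hz h3)
  have ho : ∀ y : ↥(D.group k), orderOf (z * y * z⁻¹) = orderOf y := fun y =>
    orderOf_injective (MulAut.conj z).toMonoidHom (MulAut.conj z).injective y
  have hxo : orderOf x = r := by rw [← orderOf_injective e0 he0 x, hx, ho, h4]
  refine ⟨x, hxo, fun hdv => ?_⟩
  obtain ⟨u, hu⟩ := exists_prime_orderOf_dvd_card' p hdv
  have hux : u.1 * x = x * u.1 := (Subgroup.mem_centralizer_singleton_iff.1 u.2)
  have htr : t ^ r = 1 := by rw [← h4]; exact pow_orderOf_eq_one t
  have hy : (z⁻¹ * e0 u.1 * z) * t = t * (z⁻¹ * e0 u.1 * z) := by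
    have h6 : e0 u.1 * (z * t * z⁻¹) = z * t * z⁻¹ * e0 u.1 := by rw [← hx, ← map_mul, ← map_mul, hux]
    calc (z⁻¹ * e0 u.1 * z) * t = z⁻¹ * (e0 u.1 * (z * t * z⁻¹)) * z := by group
      _ = z⁻¹ * (z * t * z⁻¹ * e0 u.1) * z := by rw [h6]
      _ = _ := by group
  have hroot : ∀ a, IsRoot cs hp.isCartan a → ch hp a t ≠ 1 := by
    intro a ha h6
    refine hreg a ha ((h5 a).1 ?_)
    rw [cX_root hp cs ht ha, h6]
  have hmem := H378.Regular.mem_TT_of_comm hp cs ht hr hrW htr hroot hy hk p
  have hup : u.1 ^ p = 1 := by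
    have h6 : u ^ p = 1 := by rw [← hu]; exact pow_orderOf_eq_one u
    exact congrArg Subtype.val h6
  have h7 : (z⁻¹ * e0 u.1 * z) ^ p = 1 := by
    have h8 := conj_pow (a := z⁻¹) (b := e0 u.1) (i := p)
    rw [inv_inv] at h8
    rw [h8, ← map_pow, hup, map_one]; group
  have h9 := eq_one_of_pow hp hmem h7
  have h10 : e0 u.1 = 1 := by
    calc e0 u.1 = z * (z⁻¹ * e0 u.1 * z) * z⁻¹ := by group
      _ = 1 := by rw [h9]; group
  have h11 : u.1 = 1 := he0 (by rw [h10, map_one])
  have h12 : u = 1 := Subtype.ext h11
  rw [h12, orderOf_one] at hu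
  exact (Fact.out : p.Prime).one_lt.ne hu

end Alg

end Cfsg.Agent.H963.PQR.RegElt
end

-- part: H963/PQR/TriDReg
section
set_option linter.all false
open scoped Cfsg.Agent.FastGrp

/-!
# Regular elements of prime order in `³D₄(q)` (helper963)

`reg_twD4` : for a prime `r ∣ q² + q + 1`, `r ≠ 2, 3`, `³D₄(q)` has an element of order `r` whose centraliser has order
prime to `q`. The torus is `Z_{q²+q+1} × Z_{q²+q+1}` (a single chain of reflections; the data are machine-made).
-/

set_option autoImplicit false

namespace Cfsg.Agent.H963.PQR.TriDReg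

open Cfsg Cfsg.Lie Cfsg.Lie.ChevalleyDatum Cfsg.Agent.H129 Cfsg.Agent.H129.WData
open Cfsg.Agent.ChevalleyStructure Cfsg.Agent.ChevalleyStructure.CoxeterGeom
  Cfsg.Agent.ChevalleyStructure.CoxeterGeomTypes
open Cfsg.Agent.Tits.Roots Cfsg.Agent.Nodes Cfsg.Agent.Nodes.Reps Cfsg.Agent.Nodes.RGDChev
  Cfsg.Agent.H129.TorusUntw Cfsg.Agent.H129.TriD4 Cfsg.Agent.BpExc.TowChev Cfsg.Agent.BpExc.Tow
open Cfsg.Agent.H493.PGTorus Cfsg.Agent.H493.PGCyc Cfsg.Agent.H493.PG Cfsg.Agent.H493.PGD4T

universe u

/-- partial products -/
def chainS : List (Fin 4 × Mat 4) := [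
  (2, ![![-1, -1, 0, -1], ![0, -1, -1, 0], ![0, 1, 1, 1], ![0, 1, 0, 0]]),
  (0, ![![-1, -1, -1, -1], ![0, -1, 0, 0], ![0, 1, 0, 1], ![0, 1, 1, 0]]),
  (1, ![![0, -1, -1, -1], ![-1, -1, 0, 0], ![1, 1, 0, 1], ![1, 1, 1, 0]]),
  (3, ![![0, -1, -1, -1], ![-1, 0, 0, 0], ![1, 1, 0, 1], ![1, 1, 1, 0]]),
  (2, ![![0, -1, -1, 0], ![-1, 0, 0, 0], ![1, 1, 0, 0], ![1, 1, 1, 1]]),
  (0, ![![0, -1, 0, 0], ![-1, 0, 0, 0], ![1, 1, 1, 0], ![1, 1, 0, 1]]),
  (1, ![![-1, -1, 0, 0], ![1, 0, 0, 0], ![0, 1, 1, 0], ![0, 1, 0, 1]]),
  (0, ![![-1, 0, 0, 0], ![1, 1, 0, 0], ![0, 0, 1, 0], ![0, 0, 0, 1]])]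

theorem chainS_ok : ChainOK H493.PGD4T.Am chainS := by decide +kernel

/-- the matrix of the twisted element -/
def ThS : Mat 4 := ![![0, 1, 1, 1], ![0, -1, -1, 0], ![0, 1, 0, 0], ![-1, -1, 0, -1]]

theorem hThS : ∀ j, hd chainS (H493.PGD4T.pi j) = ThS j := by decide +kernel

/-- the functional -/
def VS : Fin 2 → Fin 4 → ℤ := ![![1, 0, 1, -1], ![0, 1, 0, 0]]

theorem eigS : EigOK (fun i j => ThS j i) c3 VS ![1, 0, 0, 0] := by decide +kernel

/-- the norms of the values at the roots -/
theorem normS : ∀ r₀ : Fin 24,
    (∑ m, vec chevD4 4 r₀ m * VS 0 m) ^ 2 - (∑ m, vec chevD4 4 r₀ m * VS 0 m) * (∑ m, vec chevD4 4 r₀ m * VS 1 m) +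
      (∑ m, vec chevD4 4 r₀ m * VS 1 m) ^ 2 = 1 ∨
    (∑ m, vec chevD4 4 r₀ m * VS 0 m) ^ 2 - (∑ m, vec chevD4 4 r₀ m * VS 0 m) * (∑ m, vec chevD4 4 r₀ m * VS 1 m) +
      (∑ m, vec chevD4 4 r₀ m * VS 1 m) ^ 2 = 3 := by decide +kernel

theorem card_W : Nat.card coxeterD4.Group = 192 :=
  ChevalleyStructure.WeylData.certD4.card_group.trans ChevalleyStructure.WeylData.size_D4

theorem lam_two (V : Fin 2 → Fin 4 → ℤ) (q : ℤ) (x : Fin 4 → ℤ) :
    H493.PGTwist.lam V q x = (∑ m, x m * V 0 m) + (∑ m, x m * V 1 m) * q := by
  rw [H493.PGTwist.lam_apply, Finset.sum_mul, ← Finset.sum_add_distrib]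
  refine Finset.sum_congr rfl fun m _ => ?_
  have h1 : vval V q m = V 0 m + q * V 1 m := by
    show ∑ i : Fin 2, q ^ (i : ℕ) * V i m = _
    rw [Fin.sum_univ_two]
    simp
  rw [h1]
  ring

/-- **Regular elements of `³D₄(q)`.** -/
theorem reg_twD4 {K : Type u} [Field K] [Fintype K] {q : ℕ} (hq : IsPrimePow q) (hK : Fintype.card K = q ^ 3)
    {r : ℕ} (hr : r.Prime) (hr2 : r ≠ 2) (hr3 : r ≠ 3) (hrq : r ∣ q ^ 2 + q + 1) :
    ∃ p : ℕ, p.Prime ∧ p ∣ q ∧ ∃ x : ↥(twistedD4 K q), orderOf x = r ∧
      ¬ p ∣ Nat.card ↥(Subgroup.centralizer ({x} : Set ↥(twistedD4 K q))) := by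
  have := H493.PGD4T.finW
  have hfG : Finite ↥(twistedD4 K q) := by
    have h1 := Cfsg.Agent.S1067.result hq hK
    have h2 := hq.two_le
    have h3 : 1 < q ^ 2 := Nat.one_lt_pow (by norm_num) h2
    have h4 : 1 < q ^ 6 := Nat.one_lt_pow (by norm_num) h2
    refine Nat.finite_of_card_ne_zero ?_
    rw [h1]
    have h5 : 0 < q ^ 12 := pow_pos (by omega) _
    have h6 : 0 < q ^ 2 - 1 := by omega
    have h7 : 0 < q ^ 6 - 1 := by omega
    positivity
  obtain ⟨p, e, hpF, hpk, he, hqe, hk⟩ := H493.PGD4T.setup hq hK
  have hqe' : (q : ℤ) = ((p ^ e : ℕ) : ℤ) := by rw [hqe]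
  have hrq' : (r : ℤ) ∣ pv c3 ((p ^ e : ℕ) : ℤ) := by
    rw [← hqe', pv_c3]
    exact_mod_cast Int.natCast_dvd_natCast.2 hrq
  refine ⟨p, hpF.out, by rw [hqe]; exact dvd_pow_self p he.ne', ?_⟩
  refine RegElt.reg_elt RGDTwD4.hp coxeterD4.toCoxeterSystem hk he isFrob_tau (fr_tau _) TorusChar.invC_D4
    (by norm_num) (embT_injective (algebraMap K (AlgebraicClosure K)) hq hK)
    (fun y hy => tau_range _ hqe hq hK hy) (H493.PGD4T.lin _ chainS_ok hThS) eigS (by decide) hr ?_ hrq' ?_
  · rw [card_W]
    intro h
    have h1 : r ∣ 2 ^ 6 * 3 := by norm_num; exact h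
    rcases (hr.dvd_mul).1 h1 with h2 | h2
    · exact hr2 ((Nat.prime_dvd_prime_iff_eq hr Nat.prime_two).1 (hr.dvd_of_dvd_pow h2))
    · exact hr3 ((Nat.prime_dvd_prime_iff_eq hr Nat.prime_three).1 h2)
  · intro a ha h
    obtain ⟨r₀, hr₀, rfl⟩ := (isRoot_iff RGDTwD4.hp coxeterD4.toCoxeterSystem a).1 ha
    rw [lam_two, ← hqe'] at h
    have hN := normS ⟨r₀, hr₀⟩
    simp only at hN
    set A := ∑ m, vec chevD4 4 r₀ m * VS 0 m
    set B := ∑ m, vec chevD4 4 r₀ m * VS 1 m
    have h2 : (r : ℤ) ∣ (q : ℤ) ^ 2 + q + 1 := by exact_mod_cast Int.natCast_dvd_natCast.2 hrq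
    have h3 : (r : ℤ) ∣ A ^ 2 - A * B + B ^ 2 := by
      have e1 : A ^ 2 - A * B + B ^ 2 = (A + B * q) * (A - B - B * q) + B ^ 2 * ((q : ℤ) ^ 2 + q + 1) := by ring
      rw [e1]
      exact dvd_add (Dvd.dvd.mul_right h _) (Dvd.dvd.mul_left h2 _)
    rcases hN with h4 | h4
    · rw [h4] at h3
      exact H378.TwAdj.not_dvd_one hr h3
    · rw [h4] at h3
      exact hr3 ((Nat.prime_dvd_prime_iff_eq hr Nat.prime_three).1 (by exact_mod_cast h3))

end Cfsg.Agent.H963.PQR.TriDReg
end

-- part: H963/PQR/TriD
section
set_option linter.all false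
open scoped Cfsg.Agent.FastGrp

/-!
# The row `³D₄(q)` of S3988 (helper963)

* `notMin_td4` : `p ∣ q (q⁶ - 1)`, `p` odd: `SL₂(q³) → ³D₄(q)`;
* `trip_td4` : `p ∣ q⁴ - q² + 1`: a triple of type `(p, b, 2)`, `b ∣ q² + q + 1`.
-/

set_option autoImplicit false

namespace Cfsg.Agent.H963.PQR

open Cfsg Cfsg.Lie Cfsg.Agent.H562.PQR Cfsg.Agent.H868
open Cfsg.Agent.H493.PGTorus Cfsg.Agent.H493.PGCyc
open Cfsg.Agent.H80.Fpf (IsCover MultDvd)
open Matrix (SpecialLinearGroup ProjectiveSpecialLinearGroup)

universe u

variable {K : Type} [Field K] [Fintype K] {q : ℕ}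

/-- `SL₂(q³) → ³D₄(q)` -/
theorem exists_sl2 (hq : IsPrimePow q) (hK : Fintype.card K = q ^ 3) :
    ∃ f : SpecialLinearGroup (Fin 2) K →* ↥(twistedD4 K q), ∀ g, f g = 1 → g = 1 ∨ g = -1 := by
  obtain ⟨φ, hφ⟩ := ChevalleyStructure.D4Fixed.exists_frob (K := K) (n := 3) hq hK
  refine ⟨((chevD4.group K).subtype.comp (KTwD4.B φ)).codRestrict (twistedD4 K q) (fun g => KTwD4.B_mem hφ g), ?_⟩
  intro g hg
  refine KTwD4.kerPM_B φ g (Subtype.ext ?_)
  have h1 := congrArg (fun t : ↥(twistedD4 K q) => (t : GL chevD4.Idx K)) hg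
  exact h1

/-- **`p ∣ q (q⁶ - 1)`** -/
theorem notMin_td4 (hq : IsPrimePow q) (hK : Fintype.card K = q ^ 3) {p : ℕ} (hp : p.Prime) (hp2 : p ≠ 2)
    (hd : p ∣ q ∨ p ∣ q ^ 6 - 1) : NotMin p ↥(twistedD4 K q) := by
  obtain ⟨f, hf⟩ := exists_sl2 hq hK
  have hq2 := hq.two_le
  have hK8 : 8 ≤ Fintype.card K := by
    rw [hK]
    calc 8 = 2 ^ 3 := by norm_num
      _ ≤ q ^ 3 := Nat.pow_le_pow_left hq2 3
  have hs : IsSimpleGroup (ProjectiveSpecialLinearGroup (Fin 2) K) :=
    TwoFusion.SLTwoFacts.isSimpleGroup_psl (by omega)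
  have hfin : Finite (ProjectiveSpecialLinearGroup (Fin 2) K) := by
    unfold Matrix.ProjectiveSpecialLinearGroup
    infer_instance
  have hna : ∃ x y : ProjectiveSpecialLinearGroup (Fin 2) K, x * y ≠ y * x := by
    have := Cfsg.Agent.H100.AltSyl.psl_not_comm (ι := Fin 2) (F := K)
    push Not at this
    exact this
  have hcard := Cfsg.Agent.ClassicalGeometry.PSL2Basic.card_PSL2_gcd (F := K)
  have hdT : p ∣ Nat.card (ProjectiveSpecialLinearGroup (Fin 2) K) := by
    have h1 : p ∣ Nat.card (ProjectiveSpecialLinearGroup (Fin 2) K) * Nat.gcd 2 (Fintype.card K - 1) := by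
      rw [hcard, hK]
      rcases hd with h | h
      · exact (dvd_pow h (by norm_num)).mul_right _
      · refine Dvd.dvd.mul_left ?_ _
        rwa [← pow_mul]
    rcases hp.dvd_mul.1 h1 with h | h
    · exact h
    · exact absurd ((Nat.prime_dvd_prime_iff_eq hp Nat.prime_two).1 (h.trans (Nat.gcd_dvd_left _ _))) hp2
  refine NotMin.of_hom_lt hna hp hdT f
    (QuotientGroup.mk' (Subgroup.center (SpecialLinearGroup (Fin 2) K))) (QuotientGroup.mk'_surjective _) ?_ ?_
  · intro g hg
    rw [MonoidHom.mem_ker] at hg
    rw [QuotientGroup.ker_mk']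
    rcases hf g hg with rfl | rfl
    · exact one_mem _
    · rw [Subgroup.mem_center_iff]
      intro h
      rw [mul_neg, neg_mul, mul_one, one_mul]
  · rw [S0276.card_sl_two hK, S1067.result hq hK, ← pow_mul]
    have h1 : 1 ≤ q ^ 2 - 1 := by
      have : 2 ^ 2 ≤ q ^ 2 := Nat.pow_le_pow_left hq2 2
      omega
    have h6 : 0 < q ^ 6 - 1 := by
      have : 2 ^ 6 ≤ q ^ 6 := Nat.pow_le_pow_left hq2 6
      omega
    have h3 : q ^ 3 < q ^ 12 := Nat.pow_lt_pow_right (by omega) (by norm_num)
    have h8 : 1 ≤ q ^ 8 + q ^ 4 + 1 := by omega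
    calc q ^ 3 * (q ^ (3 * 2) - 1) < q ^ 12 * (q ^ 6 - 1) := Nat.mul_lt_mul_of_pos_right h3 h6
      _ = q ^ 12 * 1 * (q ^ 6 - 1) * 1 := by ring
      _ ≤ q ^ 12 * (q ^ 2 - 1) * (q ^ 6 - 1) * (q ^ 8 + q ^ 4 + 1) := by gcongr

theorem lie_td4 (hq : IsPrimePow q) (hK : Fintype.card K = q ^ 3) (r : ℕ) [CharP K r] :
    IsLieTypeChar r ↥(twistedD4 K q) :=
  Or.inr (Or.inr (Or.inr (Or.inr (Or.inr (Or.inr (Or.inr (Or.inl
    ⟨K, inferInstance, inferInstance, inferInstance, q, hq, Or.inr ⟨hK, ⟨MulEquiv.refl _⟩⟩⟩)))))))

theorem not_dvd_cyc12 {r : ℕ} (hr : r.Prime) (hrq : r ∣ q) :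
    ¬ r ∣ ((Polynomial.cyclotomic 12 ℤ).eval (q : ℤ)).natAbs := by
  intro h
  have h1 := Int.natCast_dvd.2 h
  have h2 : (r : ℤ) ∣ (q : ℤ) := Int.natCast_dvd_natCast.2 hrq
  rw [Cfsg.Agent.H378.TwRows.eval_cyc12] at h1
  have h3 : (r : ℤ) ∣ 1 := by
    have h4 := dvd_sub h1 (Dvd.dvd.mul_left h2 ((q : ℤ) ^ 3 - q))
    have e : (q : ℤ) ^ 4 - q ^ 2 + 1 - (q ^ 3 - q) * q = 1 := by ring
    rwa [e] at h4
  exact hr.one_lt.ne' (Nat.dvd_one.1 (Int.natCast_dvd_natCast.1 (by exact_mod_cast h3)))

/-- the prime of `q` is the characteristic -/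
theorem charP_of_dvd (hK : Fintype.card K = q ^ 3) (hq : IsPrimePow q) {r : ℕ} (hr : r.Prime) (hrq : r ∣ q) :
    CharP K r := by
  obtain ⟨p, hpc⟩ := CharP.exists K
  have hp : p.Prime := CharP.char_is_prime K p
  have hpF : p ∣ Fintype.card K := (CharP.cast_eq_zero_iff K p (Fintype.card K)).1 (by simp)
  rw [hK] at hpF
  have hpq := hp.dvd_of_dvd_pow hpF
  obtain ⟨s, e, hs, he, rfl⟩ := hq
  have h1 := (Nat.prime_dvd_prime_iff_eq hp hs.nat_prime).1 (hp.dvd_of_dvd_pow hpq)
  have h2 := (Nat.prime_dvd_prime_iff_eq hr hs.nat_prime).1 (hr.dvd_of_dvd_pow hrq)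
  rw [h2, ← h1]
  exact hpc

/-- **`p ∣ q⁴ - q² + 1`** -/
theorem trip_td4 (hq : IsPrimePow q) (hK : Fintype.card K = q ^ 3) {p : ℕ} (hp : p.Prime) (hp2 : p ≠ 2)
    (hpG : p ∣ Nat.card ↥(twistedD4 K q)) (hd : (p : ℤ) ∣ pv c12 q) : Trip p ↥(twistedD4 K q) := by
  have hq2 := hq.two_le
  have hcard := S1067.result hq hK
  have hod := Cfsg.Agent.H378.TwRows.od_of_c12 hp hd
  obtain ⟨b, hb, hb3, hb2, hbd⟩ := Cfsg.Agent.H378.ExcNear.exists_three (q := q) hq2
  obtain ⟨r, hr, hrq, y, hy, hyc⟩ := TriDReg.reg_twD4 hq hK hb hb2 hb3 hbd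
  have hchar : CharP K r := charP_of_dvd hK hq hr hrq
  have hpb : p ≠ b := by
    rintro rfl
    have h1 := od_three hb hb3 hbd
    have h2 : orderOf ((q : ℕ) : ZMod p) = 12 := hod
    omega
  have h2G : 2 ∣ Nat.card ↥(twistedD4 K q) := by
    rw [hcard]
    rcases Nat.even_or_odd q with h | h
    · exact (((dvd_pow (even_iff_two_dvd.1 h) (by norm_num)).mul_right _).mul_right _).mul_right _
    · refine ((Dvd.dvd.mul_left ?_ _).mul_right _).mul_right _
      have h5 : Even (q ^ 2 - 1) := by
        have h6 : Odd (q ^ 2) := h.pow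
        obtain ⟨k, hk⟩ := h6
        exact ⟨k, by omega⟩
      exact even_iff_two_dvd.1 h5
  have : Fact p.Prime := ⟨hp⟩
  obtain ⟨x, hx⟩ := exists_prime_orderOf_dvd_card' p hpG
  have hxc : ¬ r ∣ Nat.card ↥(Subgroup.centralizer ({x} : Set ↥(twistedD4 K q))) := fun h =>
    not_dvd_cyc12 hr hrq (h.trans (Cfsg.Agent.H378.TwRows.cent_3D4 hq hK hp hx hod).2)
  exact trip_of_reg hr (lie_td4 hq hK r) (Cfsg.Agent.H80.Fpf.multDvd_of_cyclic one_ne_zero (S2110.result hq hK))
    (fun s hs hs1 => absurd (Nat.dvd_one.1 hs1) hs.one_lt.ne') hp hb hpb hp2 hb2 h2G (PE.of_orderOf hp hx)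
    (PE.of_orderOf hb hy) hxc hyc

/-- **The row `³D₄(q)`.** -/
theorem rowOdd_td4 (hq : IsPrimePow q) (hK : Fintype.card K = q ^ 3) : RowOdd ↥(twistedD4 K q) := by
  intro p hp hp2 hd
  have hd' := hd
  rw [S1067.result hq hK] at hd'
  have h6 : 1 ≤ q ^ 6 := Nat.one_le_pow _ _ hq.pos
  have key : ∀ m : ℤ, (∃ c : ℤ, (q : ℤ) ^ 6 - 1 = m * c) → (p : ℤ) ∣ m → p ∣ q ^ 6 - 1 := by
    rintro m ⟨c, hc⟩ hm
    have h1 : (p : ℤ) ∣ (q : ℤ) ^ 6 - 1 := by rw [hc]; exact Dvd.dvd.mul_right hm _
    have h2 : ((q ^ 6 - 1 : ℕ) : ℤ) = (q : ℤ) ^ 6 - 1 := by push_cast [Nat.cast_sub h6]; ring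
    exact Int.natCast_dvd_natCast.1 (by rw [h2]; exact h1)
  rcases H493.PGD4T.cover hq.two_le hp hd' with (h | h | h | h | h) | h
  · exact Or.inl (notMin_td4 hq hK hp hp2 (Or.inl h))
  · refine Or.inl (notMin_td4 hq hK hp hp2 (Or.inr (key _ ⟨(q + 1) * (q ^ 2 + q + 1) * (q ^ 2 - q + 1), ?_⟩ h)))
    rw [pv_c1]; ring
  · refine Or.inl (notMin_td4 hq hK hp hp2 (Or.inr (key _ ⟨(q - 1) * (q ^ 2 + q + 1) * (q ^ 2 - q + 1), ?_⟩ h)))
    rw [pv_c2]; ring
  · refine Or.inl (notMin_td4 hq hK hp hp2 (Or.inr (key _ ⟨(q - 1) * (q + 1) * (q ^ 2 - q + 1), ?_⟩ h)))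
    rw [pv_c3]; ring
  · refine Or.inl (notMin_td4 hq hK hp hp2 (Or.inr (key _ ⟨(q - 1) * (q + 1) * (q ^ 2 + q + 1), ?_⟩ h)))
    rw [pv_c6]; ring
  · exact Or.inr (trip_td4 hq hK hp hp2 hd h)

theorem row_3D4 {S : Type u} [Group S] (h : Cfsg.Lie.Iso3D4 S) : RowOdd S := by
  obtain ⟨K, _, _, q, hq, hK, ⟨e⟩⟩ := h
  exact (rowOdd_td4 hq hK).congr e.symm

end Cfsg.Agent.H963.PQR
end

-- part: H660/TripTool
section
set_option linter.all false
open scoped Cfsg.Agent.FastGrp

/-!
# S3988: tools for the sporadic rows (helper660)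

* `tripABC_of` : `x` with `x ^ a ^ k = 1`, `y` with `y ^ b ^ l = 1`, `x * y` of order `c`: a triple of type `(a, b, c)`;
* `notMin_alt` : a subgroup (or an embedded group) `A_n`, `5 ≤ n`.
-/

set_option autoImplicit false

namespace Cfsg.Agent.H660.TripTool

open Cfsg Cfsg.Agent.H562.PQR

universe u v

variable {S : Type v} [Group S]

/-- a triple from the orders -/
theorem tripABC_of {m a b c k l : ℕ} (hm : Cfsg.Agent.H80.Fpf.MultDvd S m)
    (hm' : ∀ s : ℕ, s.Prime → s ∣ m → s = 2 ∨ s = a ∨ s = b ∨ s = c)
    (ha : a.Prime) (hb : b.Prime) (hc : c.Prime) (hab : a ≠ b) (hac : a ≠ c) (hbc : b ≠ c) {x y : S}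
    (hx : x ^ a ^ k = 1) (hy : y ^ b ^ l = 1) (hxy : orderOf (x * y) = c) : TripABC a b c S := by
  have hx1 : x ≠ 1 := by
    intro h
    rw [h, one_mul] at hxy
    have h1 := orderOf_dvd_of_pow_eq_one hy
    rw [hxy] at h1
    exact hbc ((Nat.prime_dvd_prime_iff_eq hc hb).1 (hc.dvd_of_dvd_pow h1)).symm
  have hy1 : y ≠ 1 := by
    intro h
    rw [h, mul_one] at hxy
    have h1 := orderOf_dvd_of_pow_eq_one hx
    rw [hxy] at h1
    exact hac ((Nat.prime_dvd_prime_iff_eq hc ha).1 (hc.dvd_of_dvd_pow h1)).symm
  obtain ⟨i, -, hi⟩ := (Nat.dvd_prime_pow ha).1 (orderOf_dvd_of_pow_eq_one hx)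
  obtain ⟨j, -, hj⟩ := (Nat.dvd_prime_pow hb).1 (orderOf_dvd_of_pow_eq_one hy)
  exact TripABC.of_mult hm hm' ha hb hc hab hac hbc ⟨hx1, i, hi⟩ ⟨hy1, j, hj⟩
    (PE.of_orderOf hc (by rw [orderOf_inv, hxy]) : PE c (x * y)⁻¹) (mul_inv_cancel _)

/-- alternating groups are not commutative -/
theorem ncomm_alt {n : ℕ} (hn : 4 ≤ n) : ∃ x y : alternatingGroup (Fin n), x * y ≠ y * x := by
  let i : Fin 4 → Fin n := Fin.castLE hn
  have hi : Function.Injective i := Fin.castLE_injective hn
  have h3 : ∀ a b c : Fin 4, a ≠ b → b ≠ c → Equiv.swap (i a) (i b) * Equiv.swap (i b) (i c) ∈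
      alternatingGroup (Fin n) := by
    intro a b c hab hbc
    rw [Equiv.Perm.mem_alternatingGroup, map_mul, Equiv.Perm.sign_swap (hi.ne hab), Equiv.Perm.sign_swap (hi.ne hbc)]
    rfl
  refine ⟨⟨_, h3 0 1 2 (by decide) (by decide)⟩, ⟨_, h3 0 1 3 (by decide) (by decide)⟩, fun h => ?_⟩
  have e : ∀ a b c : Fin 4, Equiv.swap (i a) (i b) (i c) = i (Equiv.swap a b c) := by
    intro a b c
    exact (hi.map_swap a b c).symm
  have h2 : (Equiv.swap (i 0) (i 1) * Equiv.swap (i 1) (i 2)) * (Equiv.swap (i 0) (i 1) * Equiv.swap (i 1) (i 3)) =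
      (Equiv.swap (i 0) (i 1) * Equiv.swap (i 1) (i 3)) * (Equiv.swap (i 0) (i 1) * Equiv.swap (i 1) (i 2)) :=
    congrArg Subtype.val h
  have h4 := congrArg (fun t : Equiv.Perm (Fin n) => t (i 2)) h2
  simp only [Equiv.Perm.mul_apply, e] at h4
  exact absurd (hi h4) (by decide)

theorem card_alt {n : ℕ} (hn : 2 ≤ n) : 2 * Nat.card (alternatingGroup (Fin n)) = n.factorial := by
  have : Nontrivial (Fin n) := Fin.nontrivial_iff_two_le.2 hn
  have h2 := two_mul_nat_card_alternatingGroup (α := Fin n)
  rwa [Nat.card_perm, Nat.card_fin] at h2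

/-- a section `A_n` of a proper subgroup -/
theorem notMin_alt [Finite S] {n : ℕ} (hn : 5 ≤ n) {p : ℕ} (hp : p.Prime) (hp2 : p ≠ 2) (hd : p ∣ n.factorial)
    {K : Type u} [Group K] [Finite K] (f : K →* S) (g : K →* alternatingGroup (Fin n))
    (hg : Function.Surjective g) (hfg : f.ker ≤ g.ker) (hlt : Nat.card K < Nat.card S) : NotMin p S := by
  have hs : IsSimpleGroup ↥(alternatingGroup (Fin n)) :=
    alternatingGroup.isSimpleGroup (by rw [Nat.card_fin]; exact hn)
  have hd' : p ∣ Nat.card (alternatingGroup (Fin n)) := by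
    rw [← card_alt (by omega)] at hd
    exact (hp.dvd_mul.1 hd).resolve_left fun h => hp2 ((Nat.prime_dvd_prime_iff_eq hp Nat.prime_two).1 h)
  exact NotMin.of_hom_lt (ncomm_alt (by omega)) hp hd' f g hg hfg hlt

/-- a proper subgroup `A_n` -/
theorem notMin_of_alt [Finite S] {n : ℕ} (hn : 5 ≤ n) {p : ℕ} (hp : p.Prime) (hp2 : p ≠ 2) (hd : p ∣ n.factorial)
    {K : Subgroup S} (e : K ≃* alternatingGroup (Fin n)) (hlt : n.factorial < 2 * Nat.card S) : NotMin p S := by
  have h1 := card_alt (n := n) (by omega)
  have h2 := Nat.card_congr e.toEquiv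
  refine notMin_alt hn hp hp2 hd K.subtype e.toMonoidHom e.surjective ?_ (by omega)
  rw [(MonoidHom.ker_eq_bot_iff _).2 (Subgroup.subtype_injective _)]
  exact bot_le

end Cfsg.Agent.H660.TripTool
end

-- part: H660/RowLy
section
prune_inst 0x4714067457de212000804008651003ee7ff000590006b000159e408400d8fff634942af60feb03f1819ceaab4607dc068150018dd625000000e848600411905a1848bd60ef3d9ad1df6009fc0908f190c00100000000000000000000000041004210000000
set_option linter.all false
open scoped Cfsg.Agent.FastGrp

/-!
# S3988: the row `Ly` (helper660)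

* `p = 3, 5, 7, 11`: `C(t) = 2.A11` is a proper subgroup;
* `p = 67`: `a z` of order 2, `d c d⁻¹` of order 5, the product has order 67;
* `p = 31, 37`: `z` of order 8, `a⁻¹ c d⁻¹` of order 31, the product has order 37.
-/

set_option autoImplicit false
set_option maxRecDepth 100000

namespace Cfsg.Agent.H660.RowLy

open Cfsg Cfsg.Agent.H562.PQR Cfsg.Agent.H660.TripTool
open Cfsg.Agent.Lib.PackMat Cfsg.Agent.Ly.Data111 Cfsg.Agent.Ly.Pres Cfsg.Agent.Ly.Rep111

/-- the matrices of the words a z d c d⁻¹ (order 67), a⁻¹ c d⁻¹ (order 31), z a⁻¹ c d⁻¹ (order 37) -/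
noncomputable def GP : ℕ := (by
  refine (?fq1 : (Nat.add (Nat.add (Nat.add (Nat.add 
    (nat_lit 0x1000002000002002000000001002000000002000000004002000003000004002002000000000000000000000001000000003001002002000001000001003004003002000002003004001004000000002004004001004004004000003004003000004000002004004001004000002000001001000000001003003001000001000004001003003001002001001004004001004002002000003003004002000004002003001003002001004000000001004002003001002000003001004001000001001003001000003000000000000000000000002003004004002003003001000004001002000003003001004002001004003001001000003000001001004003004003002002000002000001002002002002001002004003002004003000004004001003004000003002001004004004000002002004001001000001001002002001001000004001004001004003004003002000001004000001000001002002003000001002003002003002002001000000000000000000000002003004000001000001001002003003004000002001002000003000003004001003000001001003002001003002002004000001004002000000002000004003000004001000002003001002003004004000004003001003000002003003000000000003004002004000003000001001002000003003000002001000003004002004003001001001004003001000003000003001001001004001000000000000000000000000003003003000001001001001001004002004000001000003003001001003004004002000002003002002004000002004002000001003003002003000000003001001001003002003001002002000002003002002001004001002001002002003000001002003003001002002003003000002002000003003003001003001003000000000000001003002000001000002004001000001000002001002)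
    (Nat.shiftLeft (Nat.add 
    (nat_lit 0x30020000020040040040000030040010000030010010020040020000000040040000000040020030030000000040010010040020010030010000040040010020020030000000000000000000020020040030030020020040020040030040020010040010020020030030020040010000020030000030030020000030000000010030000000010010010030000030040030030020010000000030000030030010010040030010010020030000000030030010030040040030020040040030040030000010030020000020000020010020010030010040040030020000040010030040010040010040040010000000000000000000000040040030040020010010020030040000030040000020030020010040040000040000000000010030020020000040020010040020000010010000040040030010010010010030000020030030040030000020030030020030030010030040030040020040000030000030010040030030030010020030010030010030030010040000020040010020030010030000010010010000000000000010010000000000000000000000020040010030010020040000000010000030040010030030010030010000000030020010010040040030030020010040020020020030040000000040010020010040020040010030000020020040010040040000000030010030010010040000000040020000010010000020040030000010000010030010010040010000040010040010000010030040000000020010030010010000000000010040000000000000000000000000000020000030000010000020040020040030040030020020040020030020040000040030030020020000040020030000030040030010010040020040030020040010000000000040040030030030010020000020020030010010020010030000000020020000020020020020040010030030030020020010)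
    (Nat.shiftLeft 
    (nat_lit 0x300200400100300200000300100300400300000000400300400300400200300000200100400000100400100300000400200300000200200100100100400100000400300100300400300300300400000400300300100300100100000100000000200300100300000100400200300300300400400300200300000100400000300200400400300100200400400200000300100400400100200400200200000000400100300200200400000100200200200300300200000000400200100200100300400200000200000300400300100000000100400200200300300000000100300100000100100200200100100000300300400300100000200100300000300200200200000200300100100300000400000000000000000400300000100000400400200300100000000200100300200100400100300000200100300000400200200000300100000400300200000200300000100300400400000300300000100200400300000200000000300400000100000100200200000000200200100100300100400000400100400200200200200200000100200400400100000300100300200000400300100200400000200100100200200200300000000000000000300200100300200100100400400200300400100000100300100200300000400100000000300300300100200200400200000400100200400000100400100200300100000000200200100400000400300200000300300200100000300400100000400100400200300000400100300400400200000300400000200300100000400100100400200000100000100400300100100100000400200200000400000000000000000200200200200400200200200000400300300400100000100300200400300200000300200100300300200200400100200300200200000300300000200100200300000100200400200000200100200000000300400000100100400)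
    (nat_lit 5600)))
    (nat_lit 5600)))
    (Nat.shiftLeft (Nat.add 
    (nat_lit 0x4000000000002004001002002004004004003003004002001003003001001004000003002002004001000003001004004002004000000001003003002000004001002002000004000001000001002001000000003003004000000003000001000001002001003000001000003002001000003003004004002003004003001004002004004001002004002002000003002002000004004001004001003002001004001003000003004001001003000000002001002003004002003001004002003004004001001000002000000002002000001003003004000000004003002003004003003001001002004000004003003004002003004003001000002001004002002004003001001003003001002001002004000002003001001000003000000000003002003001002003001001000002002002001004001002000001001000001004001004000000000002003001002000004002000001001004003004000001000001002001002003001001001001001003004004000004003000002000002003003003003002000003002001002000002000001003000004003000001004000002000004002000002004003000003003003001000003001004001003001004004000003004000003000004000001003002003002003002000003000002003004000001001003000003004000004001003000002000004000004001001004004004001002001001003000000000001001004001002003000001000002002000000002000002000003003003002000004001000001004004001003001003003000002000001002002002003001000001003003004001003001001001004003004004001001001003001004004002003001003003003003004002001001001001001000000002003000000001002000001002004002002002000004001000001003001001001003003003000000000001001002002004001003000)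
    (Nat.shiftLeft (Nat.add 
    (nat_lit 0x10040010000000000000000030030040010020020020010020040030040020030030040000010020020010000040040030040010030020010010010030040020030040000040000040010010020000020010010040040020030020040010000020030020030020000020020040030030030020010020020040000020040040000040020030030010040020000030030000000000030040040000010030020010030000030040040020020020030000010020040040010020040040040040000010040030030010030010030000000010020010000030010030000000020000030000030020010010040020000000020040000030020010010010040000030000020030000000040000030030010030030000010020010020000020030010020000030040000000040020000040010000000030010020040000010030000030040030020010010030030000020020000000040030040010000010010000000040030000020040000010030020000010010000030040030040040000010000020010040030000010040030020020010030040010020030020030000010040040010000030010000030000000040020000030020010020010040030010010000000040010040020000000030030030040010010040000000030020030010020030040030000010000010010020000010010010000040040030040020030000010000030040000010020040000000010040030000000030000040020010020030040020040020000030010000020030020030030010010040010020040010000040000000020040030040010020030010010000000040030030000030020000010030000040040020030030000030000010030010030010020030020020040010040040020020030010000040010020020030010010000010010040010010040000000000000000030030000000010000030040040000040000030040040)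
    (Nat.shiftLeft 
    (nat_lit 0x100100200400400400000400300200000000400000100000000100000200400200200400200200100400000100100100400300200300400400000400400300200400200100400400200300100200100200300100100300400100300000400100300300300200100200000000100200400400400000400300100100400400200300400400400100300100400400400300400000300100200100100100400400200300000200300300300200200000200000200200000300100100300400400400400300300000300000400000000000000000000000400300300300300000000200000400300100000100100000400200300400400000000200200000200400300100000200200400100200100000100400000100200200100300400100100200300100300300400100200000300400100000400300400200000300400100300000000100400100000400100000100100000200300000100100200100000400100300400300000000000300400200300400000400400000400100000400000000200300100300000200000300100200300200200200100400200200300100300400100400300200200100100200200200400000000100100300300100200000000200000100200400300000000000200100000300200300000300200400100100000200400000000400200300000300100100200400300200200300300100200200100000000300100000000000200400100100300300400100300400400100400400200100400400000000300300100400400100100300000400400100300000000400400000000400100400000100100100400200100300100400000000200100000000200300100000400000200000100000100000400100100000100200300300400300000400200400400400200200100000300000400200000000300300300000000200100100400000200300100200100200300100300000)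
    (nat_lit 5600)))
    (nat_lit 5600)))
    (nat_lit 16800)))
    (Nat.shiftLeft (Nat.add (Nat.add 
    (nat_lit 0x4003002004002001000002002000002001001004002001004003004001001003000003004004004000001003003000002004001000003000003003002001003000002001002000001003001002000000000000004003000002000001002004001001001003004001004002004004002001004003002001000001004004000003000004003004001001002004004001003004003002003003003004004002000002003000000001000003001000000003002002000001004001000003004002003003001002002004004000003003003004004003001000003001004002002003000002003001001001000000003002001003002004000003000002001003002003002000001003002001000004001002001000004000004001000001004004001000004004004002001001002001003004003003001000002003002002001004002000003000004002004003002000003004000001003002000003002003002001001004000001001000001001002002001004000002002004001002004002000003002001000002001001001000001003004000000000000000002004003003001004001002003000003004003000001003001004000000003003000000000004000001002000001002003002004002003001001003003004001004004002003001001003001004002002004004003001001000003000000004002000004002004004004004000004004003001003003004004001000002002003003000003002004003004004003001001001003004002004003002000001001003004001000004003003000003004004000002003000003004001002003000004003000002003003002002001001001001004004003003000000002001004000003000003000004003002000003004004001003000002001004003002003003003004004003004004003000004001000001003004004002000004001001000)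
    (Nat.shiftLeft (Nat.add 
    (nat_lit 0x40020030010030030040030000000030040040030040020020000030040000040040000030010040030030030040000000040000010020020040040010010030000010040000010010020030000040040030030040000020010020010000010030030000000020010010020000040010000040030000010030020020020020030040000020030020010020020010030000040020000000020030010040010000020030030040010020030010000030040020020030020000000010010040040020020010030010000000020030000030000020000020010010040000030040020010000000020030010020030040020000020010000030020000020030040040020020000000030010000000000000030000000000000000030030040030020000000000010020000030030040000030030020000000020030040010020020030030000040020010010020040040030020000040000030000010010000030030010030010020000000000030020000030020030020020020000020030010040040040010030020000010030020000000030040010010030010040000010040040030010010040020020010010000000000010000040000000040010000040010010030030010000030040020040020030030000030020000010040020010010010000020030000030000030010030020000000040040010030010010000030020000020000040030010030030000040030030040000010000020020010020010020040010030010000030040030020040010010010020030030040030030040000010040030030020030040040010030040000030040030010030040020000020040010010040000040020010000030030000020030030010040030040040030030040040000020000040010000030040040010020000040000020020010000030010010000000030030040020000010000010000030000020010040)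
    (Nat.shiftLeft 
    (nat_lit 0x300000400100400100000400200000000300000200000200100400300300300400100100300400000300100300000100100100100400100300000200000400000000400100100100400400400200200000000000200200400000000100200300400000200000300000400300300300000000200300400000400000400200100400000000000300300400400000100000000400000000400400200400300300200300300300100400400100400400100100200000400100400200300400100400400300200200100400200400100400000200300100200400400300200400000000400000000400200400400200400200200300000400000300100100400000200100400400400200300100300300100300200000200400200000300400300000100300000200300000400300300000000000400000100100000300400000200300300400100400100300300400100400400400000300000300000300300300200000100300100200100000300000100000300000200200400000200100100100300400400300400100300200100200300400100100300100000300000400100300000100200000200400000100200100200400000400100200100400300400100000200300200400000400100400300300400100400000100400400400400400000000000100400400200200200400000100100200300100300200300000300400300100100200200200000200100100400400000400300000000400100100000400000400400000200300200400100000000300300400200300100300100100000000400000000200000200000000100200000100200300000400000300200000400200400300300000100000300200200200000300100200300400300300000000000000000300300200400100300100200300400100200000200200100000200100100400400100300100400400300000400000300000300100)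
    (nat_lit 5600)))
    (nat_lit 5600)))
    (Nat.shiftLeft (Nat.add (Nat.add 
    (nat_lit 0x4003000001003000002003003000003002002004002003004000004004001004003001000002000001000003002004002001003002000004000001000001002003001003004001000002004001000000004004003000003003004000001002004003001002001000004004001001001003001002004004002002001004001001000001002002004000002001003003003003003000001000002001004000003002001001003003004000001004000000000000000000000001003002000000001000002004000003004001003002003001000001004003002001001002000002001003000004002001004003000003001002003003000000003000003000000001004002003004004000003002000004003000003001004000000003000003001003000001004002000004001001001001001003003004001004004001002000001002003000002002001004001002003000001003001002000004000004000004001001002000002001003000003001003004000000000000001003003003000000003004004002003000002000002003003003001001003003004001001002003002000002002001002002001004000002002003000004001000001004000001002002000004003001000003003003000001003001004004001002000000002000000004003001002004004004002002001002003000000002004000002001000004004001003004002002000000001003004002001000002003002001002000002000000004002001004000004000000002001003004001002001004003002001004001002002002002001002004000001001002001002004003004000004003003000000000001002003002001001000001000004003000004002002000004002003000003003004000004003001000003000004002000002004001003002000000000000000000003003002002002003000001004003000000)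
    (Nat.shiftLeft 
    (nat_lit 0x10000000000020020010010000040010010020000020000020020010020040030010030040020020030000000000000000030030040000030000010020000000030010010010000000010030010040030010000000020040010000020000020020010030040030010030040020040000000010010010030020040000000010020040000030040040020030030020030030020030040010010000030010020040010020000010000030020010020020030040040030030020030020010030010040020020020010010020030010000020030000000020040030030000020030040030030020010040030020030040030040010040000030020010000030010010030000020040020040010000040040010020040020030000010020040010000030010010020020000040030010020020020020000000010040010030010030010020000020030000000030030010040000040020040040000020010000000010040010010020000030030000040030030000000020010040020020040010000010020020020020040030000020030030030040040040030000040040010010000020020020000020040020020040000030000000030010000000020010030020030010030040010020030020020020020000040020020010000010030010010040010000000040040020020020010020030020010020010030020020030010010040020040020010020020000020030020010030040020010030030010020030020040000010020020000020030010020040010040030020030040030040040040030040010020020010020010020010020010000000030000040020020010030030040020010040040020040030020020040040030010000030000040020000010040040000000020010040020020010010040000030040020040030010000020000030030010000020030010010030030030010030030000000030)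
    (nat_lit 5600)))
    (Nat.shiftLeft (Nat.add 
    (nat_lit 0x100400200300300000200100100000000200200000300400000400000400000000100400100300400300100100300000100000200100100300200000400400400100100300000000300400400000400300200100400000200100100300200200100200000300300300000000200300100000000100200200100200200300300200300000300000400100300300400300200300100000300100200200100300100400100000100100200400000000100300200400400100300400300300000400300200000100400000400100400300000100100000400300200200100200200100000400400400000100200300000000100100300100400200300300300300300300000100000300300400400100100200000000300400300300400200000200200200400100400400100300200200100400400100000100000300200400000000300100000300000200300300100100200300100300100400000000100000300200200400300000200400100100300400300000100000300200300400100100000300200400200000100000000300200200100400100100000000000000000300300300200100200000100300300000100100100000000300300300100300200200400400200000400400300000200000400300300400400400100100000400400200200400100200200100200000400100100300000300300200000300300200200200200400400300000200000400400400200000000000300200200300200300000400300400300400400000100100100300300200200400100300400000300100400100000300000400100100200400300200000100300200200000300300200100400400200000000400300300200000300100400400300100400100000000200400400300200200100000300100400000300000200300300200400100300200200200400100300200000000100300400400100300100200)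
    (Nat.shiftLeft 
    (nat_lit 0x1002002000004000004004004001003004000001003000002004001001000000004004002002003000002001004001003000001000000000004004001003001000004004004000002000004001001002001000000001001004000002001001004003000000001001001003002000003004003003001004002000004003002003002001001003001001003003001002002004004002001003003003002003000000002001001003001004004003001004000004004004003000001000004004000002001000002001001001001003004000004004003002002000003003000003002000000003003001001003000002002003000003001003000004004004001004000000002004003002002004000001002004002003000000004004001000003000003003004004003004001000004003001004004003003002000004003004000001003002003000002001001000002003004003000002002003004002003001000000002000000002001003001003000000004002003001001002000004004001001001003001003003002000001001004002002004000002001000003002002003001000002004001004004004000003004004000003000004001003000003000004003004002004001004001004004001003000000003002003002002003001004000002003004003001002000004003001000000004001002001003003000000002002004003003003004002001002002003004000004002004001001001002004003000004001003002002000001003000002000000004002003002001002000002000004004002004002003004002003000001002004001001001000003001004000003001003000001001000003004002002002003004004001004000004002000001000002001000001000004003001003000000002002001003000003003004004000003004003002000002003003001003002001001)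
    (nat_lit 5600)))
    (nat_lit 11200)))
    (nat_lit 16800)))
    (nat_lit 33600)))
    (Nat.shiftLeft (Nat.add (Nat.add (Nat.add 
    (nat_lit 0x40010020030040000000030040030000030040030040010040030000020010000020040000010010030040010020000000000010020010020010040030000010020000010030020000010000000040040030020040030030010030010010030010000000040040010010030010000000020010020010020040040020010040030030030020010040010000030010000000000000000000000020010000020000020030020000020020020000040000040010020010040000010020000010000020010000020000030010010040040010040000030010040040040040040020030000020000000030020030000000040040030020010040000010000020010010000040000000030040030030010040020030030010000040020020000010020000030040000040020030030010000000010010020000000000000000000000030020010000020020000010010030010000030040020040010030040020020010030020030040000030010040000030010020010030030040030020020000030020040040020020020010030010030040020020030010020040020040020040000000040010010030010000000020010030000040030030030000020040000020020030010020020020030000000030020000030010040000030040000010030000010030020010030010020030000000030010040030010010030000000040020020040010010030030000000000020000000010010010000000010040020030040030000010000010020000000030030040020030010040000030020010010000000000000000030030010000000040010020010040030020010040040040000000030010000000000040040000000010040030020010010020030040040020040000040030000020040000020020020010040000040030020000010010020000040000010040010010000040030030000010020000000000040)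
    (Nat.shiftLeft (Nat.add 
    (nat_lit 0x100400400300000400200000000000000000400400000000300300000000400100100400000200300400400000200400100400400100100000000000200300000300000300400200000400200300200200400200400300300300200100000300400200200100000000400000300000400000200400000300100100100300000400000100000000200200000200000100300200300100000300200100400100000100200300300400300000400000300400000200300200100200200300000300400300200200200200100000100300000400100200000100100300100000400200400200200000400300100100400400000400100200300400200400400400300100300200000300300000100100400000400200300400000400400400300200400200300400000200100200200000000200000200100000200200400400100300400300400200000000300300300200100200100300200300400200200300100400300200200400000100100400200300300300300100100400300100200400300100200100400300300000300300300100000100000000400100300400100400100100300300000000300300400100200000000200100300000100100400000400100300200000100100000100200200300000400200200200100400200300400100400400200200100200100000200400100000400200300000100400400300400000000300100100100300000300200300000100100100300400000100100100100200200100400400200100400100000100400000000100300400000200300300200200000200400400100100400100100000300300100100200000200000300300300200000100400400000100400000000400200000200200000000100400200400300100000100300100000400000400100300100000300000400300200400400400100300400300400400300200400300400100100200)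
    (Nat.shiftLeft 
    (nat_lit 0x4003004001004000003003001001001000000002003003002003002004004002003000001000002001004001004004000003000001002002001004002003002002002004000004001002003003003004004000004004003000003002003001000000002002002002001000001003002003004004001004003001004000001001003004000000003002002002004003000000000003004002002004002001002000002004003000001001004000001001004004001004000002002003004000001004000000001002004002000001003002000001001000003000000004004001002001003002001001000002000003004002001001000000001001001002001004004003004004002004003002004002003001000004004001002004000001002001004003003004002000002003003003004003002000000000001001000004000002001003003004000002000004001000004002002004001001001002001002000002003001001003000004001002000000001002003004004002003002001003003001002003001004001001003003002003001001002003003003004000002004001003000000004002002001000002000003003004004000003001004001000003004000003002001003003002000004002001004004002001001002001004002002001000001001002002004002001000004000003001000001003001000000002001004003002002003001000003002004002003000002002000003000004001002000004002000000003002002002000001001002004001000003003000003000000002004002000003002000003000003002002001001003004001002004003004001001000000000004004003004002002001002003001000003000000002000001000001004002000003002002004000003001004004000001000000002003003001001004004000000004004004003003002004004)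
    (nat_lit 5600)))
    (nat_lit 5600)))
    (Nat.shiftLeft (Nat.add (Nat.add 
    (nat_lit 0x10040030020040020010000030010010010030020020000040020020000040040030010010000010000020040020040010030010000000040000040010020000020030010040030030040030000030020000020020010040010030010030010020030040010010020000040020000040040040010000040000010030020040020040010020010000030030020030000040000010020010020000030040030040040020010030000040010000040010020020040040000000010000010000000030040020020000030020000030010030030010010040030010030030040010010040040030020010030040040000040040010010000010040010030040020030010000030010000040000000040010030040000010040020030000010040040040020040010000030030030010010040020010010030030010010010040040010020010000000010010020020010020040030020030010020000020030020020030030000040040010010030000010000010030030000000000040020010000010030020010010030010030010020040020000010020000020030040000000000000000000000020010010010040030030030030040020010040000020000010040020020010030020020030040020030020020040040010020040000030040020040000010010040000020020020020010040010040010000030040040030030010000010020040000040020020020040000020040030040030030020020020020010020020040010040030040010010000020040030040040000040030040030030000000000000000020040000040040010030030020000010030040040000000020040010040020030010040000040010040010030030040040030030040000000040030000000010000000020010030030040020030010000020040020020040010020030000040010000030020040030010010010030000040)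
    (Nat.shiftLeft 
    (nat_lit 0x200200100400300400200100000000100000200200200000300400400300300200300300200200300000300200100200000300000300400400100400200300200300200000000400400100300400000000000000000300300200100400000200400300100200400400100000000100200000100300100400100000300200400300400000400100200100100300300000400100400400100200400400300000200300000100400300000300000300400100000200200200200200200000000400000000000000400300000100100300200300300300300000400100400000100000200300200000000100400300000000200100100300400400000300100100400300400300000100300300000400100200300300000100200000200400400000400300400100300200300300100100200200300200200100000100100300200300000000300100300100200200100100300000100400200200200100400100200400400400400100100100000300400400400000000000400200000200000200000000400100000000200400200200300300300000300400000400100000200300100200200400000100000300400200300000400400200000000400300300400100200100200200300300200100200200200200400300300100100100400000100000000200400400100300100400000400100000100400000300000200000300300100400400400400300200300000300200300100100300400300400300000100200100300400000000300000100200300100000400200000100200100100300400200200300400100000400200300000200300200300300300000100000300100400300000200100300400000100200300100100200100400100200100300200100300200300400000200300200000000400100300400100100300300000400100000100300200300300100200400100000000000300200100)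
    (nat_lit 5600)))
    (Nat.shiftLeft (Nat.add 
    (nat_lit 0x4000003004003000000001001000004000004004000004003003001000001000000000001001003002001002002001000001003000001001001003000004002000000003004003000002001002002002000000002000004003001003003003000000000001004000002004003004002004002002001000003004001003001004003003004000001000000004004002000000002003000001001002001003001001003004002003002004004003000001001002001004000000003002002002000002000004003004002004004001003000001003003002000003001003004004003000002001002003004004002003002004000000003001003002001003004001004003002001004000000003004001003001001001001000004000000002000001004001003003002001003002004002002003001001002003003000003001000003001001000003000001003003002000004002002001001004002004001001004003000000000001001000003002002001000001003001001004001004000001000002002001000004004004001000001003003003002002001002004000000002004001003003001001004003002004004000002002001000001003000000000002002004004001001001004003002002000000002003000002003001004000004003000001001001001003001001001002004003003004003002000004004003003000003000000001000003004002002001001003001002001004003000002003002004004004003002000000003003001002002003000001001000001004004002000004002000003002001001002001004004002003002004001002003004000002000000000000004003003004002004003004004000004003000004004004000001004001001001000000004002004002004001004000004003001002002000002001000001001004001003003003000002004004002)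
    (Nat.shiftLeft 
    (nat_lit 0x10040030000020030000030020000000000000000000030030000010000020030030040000020000020020010030000020030040000010030000000020020040040000000000010010030010010010020000010040030030030010020010020040020000030010040040000040010000000000010020000030030020040030030020020030040010040040010000000020040030000020020030040030040010040020020000020010010010000020010010000000020020040020010030030030010020020030020000020020000040040030000010040010030040020040010020000000020000020020010040030040030030000040040020010020000010020030030030020030000030020020030010040010040000010020040030000030030000000040030010040020010030030020020000010020000000000000010000000040030010030020010000010020040030020000040000030000000000000000030030020020010000040000000030040000020000010040010040000020000030000000030030020010000040030000000040010020000000020010000040010010020000020020010010030010030030040030020040010030040040030010040010010000030040020000040020020000030030030010010040000040040010040030030010040030000020000020010020000040000020020030030000010000040020030010020010030000030010020030020020000000000030010040010000010020040030030000010000020030010020030020000040010000020040040040030000010010030020020010040030040020010010000010020010030040040020040010030040030010030020040040010020030020000030020000020040020010040010000030000020000010020030000020020030030000030000030000030040010010010040020010040020040010010000)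
    (nat_lit 5600)))
    (nat_lit 11200)))
    (nat_lit 16800)))
    (Nat.shiftLeft (Nat.add (Nat.add 
    (nat_lit 0x400200400200300100300100000100000100200300400300100100400200100100300300200100100000100400000000000000000300400400300300000200200000300400000400100400100100000100100200100300200200000200100400200300000200400400000000000100300400000000200200300300400400400100100000000300400400200000400300400200400200200100300300200300400300400000300400200400200300100000200000100200100000300100200400400000200400100200400100300300400100300400000300300400200300000200200400200200300400200100300400300300300300000100100300300200400100300400000400300200400400100100300100000200300300000200100200300200400300200000400200400100200100200200300300400100300100000100200400400000400000300100300400000000000300000300400100000200000000400000200400200100100400400200400100400100200000200300400400000400400300300300100400000100100000400200100100300400400400400400000300200300200400200100200400200400100200100400400200000000400300000200000200100000000300100400300100200200300200000400300100400400200000300300400100100200100400000100300300400100100400300200200300200000100200100200100200200100200200200300200200200400300000200400300100000100000300000100400100100100100200300200300100000300300100100200400400200300000000200000200300200400200400300200300000300000000000300400000000000200400300100000200300300300400000200300000200200000400100300300100200200000100400400200100400300200400100300300400100100300200200400100200300)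
    (Nat.shiftLeft (Nat.add 
    (nat_lit 0x3003001000000002001003004002004002003002000004000000001000000000003004001004001001003004004001003000002002001002002002001001001001000002001003004000004000002004001003003004004001003002000004004003004004000002003003002003002001004001003004002000001001003004003001001003001000003004003000004002003004003002000002001003001004003002004004003002003000002001000001000000001002003002002001004002000001002003001000000004000004002001001001004004002004000004000000004004001002000002003002004002004002001002001004003003000001003003003004000001001000004001000003004003003002001000004004002000002002003004003004003003001001000003000002000001003001001000004002002001004003000003002000003000000000001003000000002004004001000000002003004000004003004000003001002000004002004003004001003002000000004000000002001004001002003001004000001004002001000000001002000003001001000003002001001000003003003003004002000000003004000002000003002001003002004000001004000002000000002002001002002004004000004002002000003003003000001002001004004002002003004004003000002000000004003001000003003004001001000004004001002000001002003002003003004003000002000003000000004001002001000003004004003002004001000000000000000003003001003004000000004001003000003004003001004000004003001004002001002004003001003000002001003003002003000003000000004001000003003003004000004003003003000002004000000000003000003002003004001000002000004000002003000000004)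
    (Nat.shiftLeft 
    (nat_lit 0x10000040000000010030030010000030040030020020040020000000020040000010020020030010000010000030020030030040020010030040020030000030000010020010020040000020020030020040040010000010030040010040010030000040010040000040000020040040040030030040030010010020020000030020010000010010010000010000020020030000000000000020020020040000030040000000010020030030030020000040000000020020010040020020020000030020010020030020010000010040010010010000010030020000020030040000040010030000030030010030030010000010040010010000000040000000010030030030010000030010030000010030040000020000010030020030040010030030010040010000030040040020040040020010040000010000010010000000000040000020000000040000010030000010010020030030030010020040000020010040000020000000040010010000000010030000040040000030030030000000040020020000020010010030000040020010030010030010040010000030040000000020030010030020040000000040030020040040000020020040000020000000000000040030030040020030040010000030030040010020000010030000020040000040000040020010040010000020010020010020010030040020010010000030020020040000000010020030000030030020020010000020040020000010020000020030020000010040040030030020010020020000020030020040010000040020030000030040000030040040030020030020010030030010020010040030030000040020030000000010030030040010030000010020040030020020010000000000020020000010030020020020020000010030040040000040030010010000030030020030020000000030030010040)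
    (nat_lit 5600)))
    (nat_lit 5600)))
    (Nat.shiftLeft (Nat.add (Nat.add 
    (nat_lit 0x200400000300100300400100300000400400000400300200000300400200000200300000300100400100400000200100200200100400000200400200100300200200300300000400300100300200400300200200400200300400300100000100100100400200200400400100100100300300400200300400000000400000300300100100200100200100300300200200300200000200000400300100400000300100300300100400400000300300400000300200100100100100200200100400100100100400100200300400400200400200000400000200200100400400300000300200000300400000200300400400100200100100000200300300000100200300400000100300100000200300100400100000000100000000000100400200200000400000400000400200400100400200400200300400100300000000000000000000000100200200200400200400100200000300300000000000000000400300000200300100400200400200300300200400200000000000400300200100100100300200100200100200400200200200300400200100100300000400300000200400400200000000300300000400100100100100200400200100200400400100300400100100400300400100100100100000400300200100300100100000000000000000000000200000300200000200100300200000400300300200200200400400400100400400100300300300300400100300100300100200000100400000400400300200200000300200300000000000000100000300100100100200100100100100400200100100200200300300100200000200300000300000000000200000200400400100200100400000200400100400400100000200200100000400100100100100400400200100000300200300200400000400400000400300200200000300000100400100000300200400300100200200200)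
    (Nat.shiftLeft 
    (nat_lit 0x2000002004002001001001003001004003001003003004001000001002003003002002000002003000001003001001003003004000000000004003002001001004001003004003004001002003003003001000002003003003002001002000001001003001001003001004002002004001003004002002004001000001003000002000000004004000001000003000002001004002004002004001004002002001004000004003001003002001003003003002004001000000000000000000004004001000000000002002000001003002000004000003001004002001003003003004001002000000003001001002003003001000000002000003003004004002002000000000002000003004004003004002004003002003004004001004001000002002002000003004004000003000000004001004001002003002003002002002002003003000004000000001003003001003002000000002000001002001002000003004004000000003000000001001004001000002003000004004000004002000003002002004003001003003002000001003000004003002003004004004001001001001001003000004002002003002002004002001001002000002004002002004004002003000004003000001000003003003004001003000003001002002002001004004000002001004004001004004002002004002004004003003003004000001004001000000003003000002000000001004002003003000004002003002002002003000004004003001004004004003004001004003003000001000002003000002003001000003003000003001001001004000000003002000000004000003002004004000001000004003000002002004004003004002003000002004004002000004003004001002003004004000004004004000000002000003000000004003001001000004003001002003002004002)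
    (nat_lit 5600)))
    (Nat.shiftLeft (Nat.add 
    (nat_lit 0x10040040040040000000020010020000000000000020010040040020010040000020040000030000030020000040030020040010000040030000010020000020030010000040030040020030000040030020000020040020040000030040020040010030040020010020040000000040000000000040040000000000020030040030020030000040040000010030000040030020010010040010000000020010000010000040000020020010040040040030010040020040000020040030000000040030020030040010030040000030000020040010040040030000040000030040020000020020010010020020020040040010040030040040040040030030000040040040040020000030040040030010010030030010030020040000020030030020010020030010000040030040000030020010020030020000030000010010010000010020010040040020020000040000020040040000030040000040010040030000040000030010030020000030000030000020010020020040010010020010000010000030000000030040030020010040030000000040020030020000010020030010000040030040010040030030010020010040040010040010040030000030000000020040030000010040020020000010010010010040000020040020020030000000010030030030020030000010020030000030040030020000000010030000010000020010020030030010000040000040040010030000020000030020030000030030040010010020000010010040030000020030030040020020030030040020020020010010030020040010010000030030030010030000030000040040020010000020040000010020000030020020030000010040040040020030020000040030040000010020030000000040000030020000020030010000040020000000040020000040000000020000030030040040)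
    (Nat.shiftLeft 
    (nat_lit 0x300300400400400100400400300400300200400200200200000100400100400100200400100000200400400200300300200200000100000000300200400100100200000100200400200300100200000400300300400100200000300400400300100200100300200300300000300400000400300000100300200400000000100200000300100300200100200100100100100300000000400000300400000200400000300400400300300400200300100300000000100100100300400300000300200200300300300100000300400200200100100000100400000300200400300200300200100100200400400100400200100400400400100400200000100000200100400200300100400100000400400400200100000000200)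
    (nat_lit 5600)))
    (nat_lit 11200)))
    (nat_lit 16800)))
    (nat_lit 39200)))
    (nat_lit 72800)))
    = ?xq1 → Nat) ?hq1; (case hq1 => (conv => lhs; whnf)); intro _; exact OfNat.ofNat ?xq1 : Nat)

noncomputable def GQ : ℕ := (by
  refine (?fq2 : (Nat.add (Nat.add (Nat.add (Nat.add 
    (nat_lit 0x20020020010010000000000000000000000000000000000000000000000000000000000000000000000000000000000000000000000000000000000000000000000000000000000000000000000000000000000000000000000000000000000000000000000000000000000000000000000000000000000000000000000000000000000000000000000000000000000000000000000000000000000000000000000000000000040000010000040000000000000000000000000000000000000000000000000000000000000000000000000000000000000000000000000000000000000000000000000000000000000000000000000000000000000000000000000000000000000000000000000000000000000000000000000000000000000000000000000000000000000000000000000000000000000000000000000000000000000000000000000000000020030020010030000000000000000000000000000000000000000000000000000000000000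00000000000000000000000000000000000000000000000000000000000000000000000000000000000000000000000000000000000000000000000000000000000000000000000000000000000000000000000000000000000000000000000000000000000000000000000000000000000000000000000000000000000001001004001003004003000000000000000000000000000000000000000000000000000000000000000000000000000000000000000000000000000000000000000000000000000000000000000000000000000000000000000000000000000000000000000000000000000000000000000000000000000000000000000000000000000000000000000000000000000000000000000000000000000000000000000000000000001004001001000002004)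
    (Nat.shiftLeft (Nat.add 
    (nat_lit 0x10000020040040040020010030010010020020020030010000040020000020040040030000030010000000030020000020010020000040030040040000030000020000020000000000000000000000000000000000000000000000000000000000000000000000000000000000000000000000030000000000000000000000000000000000000000000000000000000000000000000000000000000000000000000000000000000000000000000000000000000000000000000000000000000000000000000000000000000000000000000000000000000000000000000000000030040010010020040030000000000000000000000000000000000000000000000000000000000000000000000000000000000000000000000000000000000000000000000000000000000000000000000000000000000000000000000000000000000000000000000000000000000000000000000000000000000000000000000000000000000000000000000000000000000000000000000000000000000000000000000000000000000000000030030000000000000000000000000000000000000000000000000000000000000000000000000000000000000000000000000000000000000000000000000000000000000000000000000000000000000000000000000000000000000000000000000000000000000000000000000000000000000000000000000000000000000000000000000000000000000000000000000000000000000000000000000000000000000000030020000000000000000000000000000000000000000000000000000000000000000000000000000000000000000000000000000000000000000000000000000000000000000000000000000000000000000000000000000000000000000000000000000000000000000000000000000000000000000000000000000000000000000000000000)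
    (Nat.shiftLeft 
    (nat_lit 0x300200200300000400100300100000400100400300000000200300200100400100000100100200100100400400000100200300400400100200300400400000200000100100000300100000000200200100300100300000200400400000200100200100400000000000000000000000200200300300200400200000300100300400000200000200000100200400000300000200100200300000000400300000400100300400400100400200300400100300400300000200000100400300000000300000100000300000300000300200100000400100100300100400300200400100300400000100400200300300100400000300300100300000000200200400400200200400200300100400000000000000000000000000000000000000000000000000000000000000000000000000000000000000000000000000000000000000000000000000000000000000000000000000000000000000000000000000000000000000000000000000000000000000000000000000000000000000000000000000000000000000000000000000000000000000000000000000000000000000000000000100000300000200300300000000000000000000000000000000000000000000000000000000000000000000000000000000000000000000000000000000000000000000000000000000000000000000000000000000000000000000000000000000000000000000000000000000000000000000000000000000000000000000000000000000000000000000000000000000000000000000000000000000000000000000000300000100200000400100200100000000000000000000000100200400200100400000000300000100300000000400200100200200400200100400200300400000000200400100100000000100000100300300400100200100400200300300300100200000100400400000000000400)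
    (nat_lit 5600)))
    (nat_lit 5600)))
    (Nat.shiftLeft (Nat.add 
    (nat_lit 0x2000000000000000000003001003004004000004000000000000000000000001000002003004001000004002001003002000000002001004002003004001003001001003003000002002000001001000002000000003000001001004004001004003000003001004002001000004000003001001004003000003000000003003003000004002002004001004000002004001004002003002002002002003000002002002000004000000000000002001003000000004003003004000000000000000000000000000003002003000003000003003001002004003000003003001001000003002000004002002003002004001000003000002004000004004002003000002004002000000004002003004002004002001003000001001003003004004002002000000004002004000000002001004001004002000000000001004000002004003003003003004000001003002003004002003004001002004002004000000000000000000000003003001001001000001000000001001001002000003004002000001002002000001004002002002000001003002004004004001000002003000000004001000002003001002001001001000003002003002000004001003002004000004001001003000003000001000004003004003002000004004001001003001002003004000002002001001003001000000000003003002001001003003004000000000000000000000003004002002004000003003000001001004000003001001003001000001003003004004001001002004000003002001001003000001)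
    (Nat.shiftLeft (Nat.add 
    (nat_lit 0x30020010000000000000000000000000000000000000000000000000000000000000000000000000000000000000000000000000000000000000000000000000000000000000000000000000000000000000000000000000000000000000000000000000000000000000000000000000000000000000000000000000000000000000000000000000000000000000000020000000000000000000000000000000010020020010000020030000000000000000000000000010000000000020040000040020020010000040040010000010010020020000040000040000010000020020020020030020020030040000010030020000030020000040030020010040030020040040010000020010020000010010020030040010020030030030040020040000020030000030020010010020010040030010020040030000010010020030010000010030000000040000010010000000000000000000000010000040030010040010020000030020010000040000040000040010040010040010040040020020000020000010030010010040040000020010030000020040040030010010000040020000000010040040010000020020040020030020000030040020020030010000040020030000010040000020030010040000040030000020020040020020010000010010030010040040010030040030020000000000000000000000030020040000030000000010000000030010010000020000030030020020030040040040030010020010030010000010030030040010020040020040010030010000000030010030010030040020000040030020010010010000020000030010010030040020010000030020020010000040010010030000000040040030010030020040030040000040010020020000040030000040000000040010000000000000000000000000000000000000000000000000000000000000)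
    (Nat.shiftLeft 
    (nat_lit 0x400300200400400300200200200200400100300400100200400300000300000000000400000000000000000000000000100200300200400000300400000000200400000300000300300000000300000300400400300300200200100400000200100100400100100000300200300400200400400300400000100000200400200300000100000400200000400300200400100000000000300300200400200000100100100000100000000100400000400000300000300300200200400200400400100300200000100300400000000000000000000000000400200100400200300200400400400100100200000400400000200300100000000300100200200200400400300300300300200200100400300300000300300200200100200200000200100200200400000400200200000000000200300400000300400100200300000300400300100400300400000000400200000000400200000200400300200200200300300000400400000000200300400000200000000000000000000000300000200300300300200300300300100000000300400200300300300000400200200200100200300200200400300300000400300300000300200300000300000300100200200200300100200200000100300300400400400400000400100400200000400100000000000200100200300000400000200400400300000000100300200300300200300100200200200300000000100100100300000100000000000000000000000400400300400000300300200200100400300300100000100300300000300000200400400000000200300400300300000300300300300000100300300400000000300300200300000000400200000100300400100000000000000200100300200100400400000000400300300200000300200300100200200100400000400200400300000000200300100100000400400400000000000200)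
    (nat_lit 5600)))
    (nat_lit 5600)))
    (nat_lit 16800)))
    (Nat.shiftLeft (Nat.add (Nat.add 
    (nat_lit 0x3000003004000001002004001001003002000002000000001000004000001002001002001002001004000002004004003000003003001003004002002003002002001001004002000000000000000000000002000000000000001003001000003000003000003004000000000001001000002004001003001001001001001002004004003001002004000002001001001004001003000004000003000004004003000004003004002000000000004000002000003001002002004004004001001004001000004003004002000004003001003001002001003001004000002001000002004004004001001004000000000000000000000000000001000004001003002000002004002002001004001003001000002001001003000003000003004002000002001001000002001002001004004001002000000002002004000004000002000002001002004003002003000003002004004004002000003002002002002002002004002001004002003004000003004001003002003002004002002004002000000001004001004003000000002003000000000000000000000000004004000003002000003002000004002001004000000001001000000000003000003000001000003000003001000003004001004003002002002001004004001002000004002002001001000000001002003003000003000002004001000002002004004003000004003004001000000000003001003002000002003002003001004001001003002002001004002004001003002001001002003000000000000000000000003004000001003002002000000000003003003000004002000000000000001001000003004002004004003001002001000001002004001004000004002002001003004001003001002003001004001003001003002000004001001003004003001001003001001002000004003002000002002001003)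
    (Nat.shiftLeft (Nat.add 
    (nat_lit 0x40010020030040010020030030030040010000000000040030000010000030030030010030000000020030000030010010000020010040040010020030020000020040000000010030000010040020000010040020020020040010030040030000000040030040030030000000000000000000000010020020040000030040040030030010040040000040040010030010020030040000020030000030000030030010000010030010020010030040010000000030030040020040020010010020040030020030000020040030040030010000030010010040020040020010030020030040030020020010020000010040030010010020040010030010000010040010040030040030020040040040040000000000000000000000000000000000000000000000000000000000000000000000000000000000000000000000000000000000000000000000000000000000000000000000000000000000030000000000000000000000000000000000000000000000000000000000000000000000000000000000000000000000000000000000000000000000000000000000000000000000000000000000000000000040030010030040000000000000000000000000010000000010040000030030020040030000000010030010020020000030010040020040040000040000020000020000040030000040040010040010040000000030040000010010000020030000020010020020030040000000010000030020040010010020000040040020030020040040030000030040030040030040000040030000030000030010010010030040040010030040020000010000000000000000000000040020020010020000040000030020030020040010040030040010040040020010030010020000020030000030000020020010010020040000000010010010010030030010040040010000010030020000040040)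
    (Nat.shiftLeft 
    (nat_lit 0x400100200000000000400000200200400100400100100000100000100200200400000000100300200400100400300100100300300000300100300400300400000200300100400300400400200000000400000100400300100300300000300300000200200100300000200000200100000100100100200400300100300000000300100100000200200400400000000000000000000000300400400100000200400000200100000300300000300400000100200400400400000400200400100000300400300100400400400300400100000400300200400400100100400200100200000000200200200400100300300400300300300400200200300000000200200400400200100200000100400000000100300000300300300400300000400400400100300100200000100300200400200300000000000000000000000300200300200100100400400300100100100200400200300000400100200400200400200100400300200400300400400000100200400200200400200300100200300100300400200400000400100100100100200100000000200200300400300300400200000400000000400300000000300100000000300100000300200000200300200300100300100000100400400300200400200100300300300000000000000000000000000000000000000000000000000000000000000000000000000000000000000000000000000000000000000000000000000000000000000000000000000000000000000000000000000000000000000000000000000000000000000000000000000000000000000000000000000000000000400000000000000000000000000000000000000000000000000000000000000400400100300000100100000000000000000000000100000300400000300100200100100000400000100400300100200400200200300100200400300400100000000400300200)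
    (nat_lit 5600)))
    (nat_lit 5600)))
    (Nat.shiftLeft (Nat.add (Nat.add 
    (nat_lit 0x1000000000000000000000000000000000003002000002003000001004004003004003001002001001003004002003000002000001004002003003003002002001002004003002002004001002001003001003003003003003003003000003002004003002001002003002000000001001003000000000000002003002004003000001002002003002003003001000002003004002004003001002000002004000002001003003002004003000000000000000000000003003001003000000001000004001001000001000003003001002003003001002000000002000003003001000000001000002004000002002003004003000004001003003001004001003001001003003004004004004003000001003000003004000002000000004004001004004004004003003001004000003001003002002000004003000002003003000002001000000003002001000004001000000000000000000000001002001000001000004003004000003003002004000003003000001000002001001002001000001000001000001001000000003003002004000002001001004001000003001004004002000004004002001003003003000004004003002004004002003002002001003002002000004003003003002002003002002003001004004001000002003002002003001000001004004002004004000002000000000000000000000003001004000002000004002000000001002000004000004002004000004000001002002003004001001003002000003003003002003003000004001004002001003003004002000003000001002001004000003000000001000001004001002003000001000004004001002001000002002000000003000000003002000002004003000004002001001002003001004000000002003001004000002000000000000000000000003004001000003000004000004000001)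
    (Nat.shiftLeft 
    (nat_lit 0x20040010020040010040000010030020040030030040010020010000040040040010010040010020040000000000000000000000000000000030000000000000000000000000000000000000000000000000000000000000000000000000000000000000000000000000000000000000000000000000000000000000000000000000000000000000000000000000000000000000000000000000000000000000000000000000000000000000000000000000000000000000000000000000000000000000000000030020020000020000000000000000000000000000000030000000000000000000000000000000000000000000000000000000000000000000000000000000000000000000000000000000000000000000000000040000000000000000000000000000000000000000030000000020000020000000000010000000000000000000000040000020000000000030000000000000010030000000000030000000040010000040010000030000010030010000000000000000000000020000030030030000040040040020020020000000030000030020030020030020020010030030030030030030030010030020030000030020000000040000020030020020040040040030020020010020030000030000020010030020030000030030010010020010010030000020030040020030030040010040040020020030000010030020020040000030040040030030010020010030020030000000000000000000000000000040010040040020020000030040020020010040000040010000030040000020020000030000000020030040030020020040010030020010040000030020010020000000010000010000010010010010040020030000030040020010030000020010040020030010000010040010010000020030030030040010020040020010030020020000000000010000000040000020)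
    (nat_lit 5600)))
    (Nat.shiftLeft (Nat.add 
    (nat_lit 0x300100300400400000300300200200100300200000200000100200100300300000400200200100000100100400100300300100300300300400400000000100200300000200400200400000000000000000000000300000100100300200200300100100400300400000300300100100200200400200400100100200400100100200300400000100400300400200100200000200100000000200000000400200400200200400100100400300400300300300400300300100400300300300200000200100100000200400200100000400000400100100300100300200100000400100000400000300300100400100100400000000000000000000000000000000000000000000000000000000000000000000000000000000000000000000000000000000000000000000000000000000000000000000000000000000000000000000000000000000000000000000000000000000000000000300000000000000000000000000000000000000000100000000000000000000000000000000000000000000000000000000000000100400300200400300200000000000000000000000300000000400400200200300400300300000000200000200200100100300000400300100200000300400200000400400400000200400400300300000000000200400100000300100200300100200400100400200300000300000000100000400000000000300400000200300300100200100000200200300000300200400100300000400000400000400300000000000300400200000000100300000000000000000000000000100300200300100300300400000200000400200200200100400400100300000000300200100000200000100000200300300100400400000300100300000100100000000000200200300300200200000400400400300200300000300400300000100400400100400000000300400200000300)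
    (Nat.shiftLeft 
    (nat_lit 0x3004002000001002003004004004004002001002004004000000002000004003004004003001003004004004000000003004000001003001001000004002002003003001002001001003003003003002001004001003001001003001002002002004002004003004003002004000000000000000000000001004001003001000000004003000001003003003002001001001002002000003001002000001002002000004003002003004001002000000001003003001002004001004000003001003002004001003003003000003002001001000001003000003002000001004003003002000000003002002002002002004001000000000003000003004003000002000000003003004003003000001002002000000000000000000000003000002003003003001001004003002000003004001001004004003001004002003001000002003003000002003000003002004002002001001001003000003003003000002003001001001001000004000003002002004004002000001002000003001002001001004003002004002004001003004004002003003000001004002004004002001004001001004001002001003000003000000004000000000000000000000000000003004003003002002001002003003001003002004002001004000004001004003003003004000000001001000001003002004001001002002001000004004003001003004004002002001003001002000001001004001000001002001000001002003003000003001003001002000000000004002003001002004001004004001001000001000004001004004003003001001004000001000000000000000000000000004003004004000001003000001003001001001000002004002001003003001002001001000002002001004001001004003004002001003001003002003001000002002002002003000003003004002002)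
    (nat_lit 5600)))
    (nat_lit 11200)))
    (nat_lit 16800)))
    (nat_lit 33600)))
    (Nat.shiftLeft (Nat.add (Nat.add (Nat.add 
    (nat_lit 0x40010000010020040030010030030030020020010000020010030030020030020000000030010010000030030020030000000010000030030000020010010010020000010030010020030020020030040030020000010030030020030030010020000020040010030040030010010020020040040040030040030040030010030000000010010040030010040000000000000000000000000000000000000000000000000000000000000000000000000000000000000000000000000000000000000000000000000000000000000000000000000000000000000000000000000000000000000000000000000000000000000000000000000000000000000000000000000000000000000000000000000000000000000000000000000000000000000000000010000000000010000030030040020030000000000000000000000040020010040020030000000000040010040030010000000010020040010030000000030000010020040020000030010020040040010040030040000010030020040000000000010020030040010010040040030010020020040020000040020010010000020000010000040010030030000030030020020020030000010020030010000030000000010040010010030000030020040000020020020000000000000000000000010010040030040000020040010040000030000010000040030020020020020010030010010040000000040040000020010030010020020030010040010030020020010020000030030040040020000040000020040000040000010010040020010030030010030020030030030010000040040000040040030000040010010040010030030030030040040040030030040040040040010030010010000000000000000000000040000030020000040030020030010000000030010030010010010000020020000040000030010020040040040020)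
    (Nat.shiftLeft (Nat.add 
    (nat_lit 0x300400400400000000400000000000000000000000200400100100400200200100400000100000000200200300400400100400100200300400100100300300000300300200400400400400200400100000000200100200100100000400200100300400000400000400000100100000200000300300000300100300000300400400200300100200100000000200400300100400400100100400300300200100200400000000000200300200100200200400000000000000000000000100100200000400300400400100300000300000400100200300000400100300100000100300200100200400200300000300400200300200000200400100400400300300400100300000100400200300400400100300300000000300300400100200400200200000000300200300000100100300200400400200400300100100200000100000300300100200100300200100200100200300300100200000000000000000000000100200000000400200300300300400000100100000300400400200200000000400400100300100000300400400000200400100300300400000200300400200100200200300100100100400300400000300400300100000000400200000000300100000200000000100400000000400400100400200200300000100200100100400100000200000400000000200000200200300300200200100400000000000000000000000000300400300400200000300100400000200400400300200100400300100000000200000400400100400400400400000400100400000100300100000400300200000200300400000000100300100300200000200200100300300100200200000200100300400000100200000300300000200100100100400100400300100100100400200400300200000000200100300300100300400400000400400400000000000000000000000100200200200000200300300)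
    (Nat.shiftLeft 
    (nat_lit 0x1001003000001002004000000002001003004000003003001001004002002002003003000001002002000004000000000000000000000001002002003003000001004002004003000001002004001003004000002002000001004001004004001003003000003001000002001004000003001002001000004003004002003002003002002004001001003000004002001003004004000000001002003003001001001004003001004003000004004000002004001000001001000000004003001000001000000002002003001004000004002000000000000000000000001000004001001004001000000001000003004001004004002003002002003001004001004002000000003002003002001003003002003004001004003000000002002003004002003004002001001003003003003002004002002000001002002001000002004003003002000003002003000002000001004004000000004000001004002003002002002004001000001000004004004003000002000000000000000000000002003004000003000000001003003001003000004004003002003000000001000000004004001002003004004000002002002000001002001003002000001002001002001004004001001004004002000002001001001003003001002000003004002002002001004000002004002001003001001004002003004000003004002002004000003003002001000004003000000001004001002003002000000000000000000000003003004001004003000001000004002001003002002004001003004004000002003002004000000004004003000003002004001002000002002003003001004003000004003001001002000004004001002001004004001003001004000001003000004003004000000004003004004002003000003000002004004003004004002000000001003002002002000003000)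
    (nat_lit 5600)))
    (nat_lit 5600)))
    (Nat.shiftLeft (Nat.add (Nat.add 
    (nat_lit 0x10010000030000010010030000010000030010020000000040020000030000000020020030040010040030010020010040020040010020020000010000000040030040030010030040020000000000000000000000000000030030040020030000010030000000000020040010000020030000000040010010030030020040020030030020040030030030010030030000010030000040010030020030000010000000000040000000010020040010000000020040020020010020000000010000020000040000040010000040010030030020010020020030000040030010010040010030030000030000000020030000000030000000000000000000000020040040000020040030000010030010000010020040020010040040000000010020040020010020000030040000020000010000010000010010010030010010030030020020010030020000000000020010040030040000030020000020000010010020010020020040030040020040000000000000000020010040030010020030030040040040010010030020000010000040040030010030030000000000000000000000010020020010040000030030030010020000010020040040030040000040020010000010020030010030030030010010030040030040010030020020040010030010020010040000030020000000020000010010000020000040010010010040040040000030010000010000010020000030010020010010010030040030010030000040000010030010040030030030010000020000010040030040000000000000000000000020040020010000040000000010030010030000020040010000040040040040040010030020040010040030030030000030020040040020020020010010030030010030040010030000020020030030010020000030020030020000040010040000020010040040030030000040000)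
    (Nat.shiftLeft 
    (nat_lit 0x300000000000000000000000000000000000000000000000000100400000100400400300000000000000000000000000100100400400100200200000000100100400400100400100100400400300200100000000000100000300300100300100000400000100100200300400200100200100300000100200000100200400000000100300300100100400300400100300200300300000000400200100400000100000300300200100400000000200000400300000100300200300100000100000100400000200100100200000000000000000000000100100000300400400300300200200400200400200400400300300100100100100000100100100000400100300100400200300100000100300300400200000100400200300100400100300400100200300000300200100300100100200400000000200300000200300100300000000100000200100400400200300200100000200100100000400400000300300200000000200400100100100200100000000000000000000000100400400400000300300000000100400400100100000100200100100100300400100300100100100300100200100300400200100100200000400200000100300100100000100200400400200300300400400200200100000000300400100100100400200300300400200200200100100100000200100300100200000200200400400000200000200100200400200400000300400400200100200000000000000000000000000200300300100100200100300200200300200000100200000400400200000300400100000100200300200300400000000200400000000200100400300100000000300300000200300300300000)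
    (nat_lit 5600)))
    (Nat.shiftLeft (Nat.add 
    (nat_lit 0x2004002003001001000000001003000000002002003000001001000003003000000002001003003001002003004004000003001001002001002002003003002001001000002000004003004001001001000004003001004002003000002004002000004004002001004002002001002003003000002000002001001003004002001000001001000000003002002003002004000000000000000000000002003000004001004000004002000003001001004000003002001002002003004004001003001003002002000002000003001003004003003003000003001003000003002003004003004002003003002003004004004003004002002001004002004003000003001003003002004000002004003004004001001002004003001000000004003000002003002000001001001004002000002001001000000000000000000000004002004001001000001001002000004000000002004003002000002002004004000001001001001003002001004004002000002003002000004003000002002001004000002003002001004003000001000001000002000003000002001000004002000004000004000002000002003003001003002002002001001002003004000004001004000001004004001002002001000000001004000004000000000000000000000000001003001002001003002000004002003003002004001002003000001002000004000004003004001002001001000004001000003003001002000001003002003001001003003000003004001000003003002004002003000001002001001004003000003003004001000003001001000001003001001001000001001000002004001000002003003002001001004004001001000000001000004000000000000000000000000000000000000000000000000000000000000000000000000000000000000000000000000000000000000)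
    (Nat.shiftLeft 
    (nat_lit 0x30000030040030010020020030000000000000000000000030020040000000030010010010020040040000010000010020010040000000020010030030010040030040040010020020010020020020020000020030040000000030030010040040020010020030020010040020010040000040010040000010000030020040030000040040040010020000030040020030030020010030000030010030040020030010040010040040040040040030010000000000000000000000000000040040030030020010030020010040010000030000010000040000020000010040000040020040000000020020000010000000020000000010010010040010030030020010000040020030030040020020040000010000030000010020010000000000040000000040040040010000020000010010000030030010030010020010040020030000030010000010000000040030000030000020010020000000000000000000000000000000000000000000000000000000000000000000000000000000000000000000000000000000000000000000000000000000000000000000000000000000000000000000000000000000000000000000000000000000000000000000000000000000000000000000000000000000020000000000000000000000000000000000000000000000000000000000000000030010000020040020030000000000000000000000040000010000040030040030010040020040010040040040000020030040010020020040030020020010020040000030010000000000040000020020040020030000040010040020020000030040010020020010040010000010000020030040040010030040010030040040030010000020000030030000030000030040000040030000040000020020040030040040030020030000030030040020000000000000000000000000030040010040040)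
    (nat_lit 5600)))
    (nat_lit 11200)))
    (nat_lit 16800)))
    (Nat.shiftLeft (Nat.add (Nat.add 
    (nat_lit 0x200300300200200400000000100300000100400100200100400200000200400400200400300000000000200000300300000000000000000000000100400200100000400300000100400000200100000200200300300000200000400000000400300100200100400000100100200300200000400000400100000300200300300000300400100100400400300300000000300000400300200400000200000100200400200200400400000100400300400400000200300000200200000200000300200400000100400200200000400300100200100200000000000000000000000000400000400100300100300100100400200200000200200400300000300100400300100100100100200300400000200200000400000400400100100100300100000200000400100400200200000200400300100000300300100400200400400200200000300000100300300300100200300100100000000400000100200400000400100100100000100200300200200200400400100400100000300300000000000000000000000100000300400100400100300400400200100300400200300100000000300000400100200200200000300200300200200200200000300400000100000100400200200100400400400100400300400400400300300300200100400100100400100400300100200300000000000200000400200200100100100400400400000400400100400200200200100200300100100400100300200200100300000000000000000000000000000400200200000300300300000100000300100200300200100300000200300300100100200000300300000100000300200400200400000100300400300300300100000200300100100400300400200300400200000200100400200200000400300100000400000100200000300100200200000200400300300400400000100200400200100400400300100400)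
    (Nat.shiftLeft (Nat.add 
    (nat_lit 0x2004000003002000000000002004004003003001000000003003004004000003003001003001004000000000003003004003004004002001003002003000001000000002000002004003004003004002002000000000000000000000002003003004003000001000001000003000003004004004004001000001003001000004000001001000004002000000003003002003004003001001000003004002003004004002001003004003000003002003003004000002001002002003001000004000002001000004002003001000000000004000001003003000000001000000004000002002000004001000001000001000001002004000000000000000000000000003002003003002001003003000004002004003004002004001002000000002003004003002004004001004004000000002003004003000002001001001001000002004002001001002004002004003003000003001002000003004001001002000001000000003000003002000000003000000001004002003002004000000001004000001000004000002001003000004002004002000002000001000000000000000000000001000000003003004004001003001001000000004000004003002002001000004001002003000001003004000003003003000004003003001001000000000004001002000001002004001002004003002003004001000001000000002000003000000000001003000004001001002004002002004004001000001004003002001000003000002000003001000001000001003004004001004003001000000000000000000000001000000002000003001002001001000004000001004003001002004002002003001003000003004001000000004003002004001002003004001002003003003001002000000000004003000001000003003003001003000000000003000003001001000002001004004001)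
    (Nat.shiftLeft 
    (nat_lit 0x10040020010000030010040010010000000030020010020030020010000040030020040000010040010010040010020010040000020010000040010000040010040010040010040040010020010040040010000010030040010020010040000000040040000020000030030040000030020010000000000000000000000030020030040020000040040010000010040010020030000010010040020020030040010030010000040000010030010020040020000000000040000020020000010030000010040010020010010040040010040000020000040030030020010040040010040030030020020010020020030000030030000030040040030020010030010020020000000000030040020040040030020030000000040000000000000000000000020020010020040040010010020040010040010030020040000040000020000040000030000000010020020030010040030010000010020000020040040010020000020040040010040040040000020030010020040010030040030000010000000030030000000040000020040000010010040030040020040000010000010000030030010040010030030000000040020020010020040010040010000000000000000000000040020040020020020000010040030000020040020010030000040030030040020040030020000010030020000040010000010020000010020010030000030040030010010040010000020010000020000040000020040010030010020010000010040020010000020030010000010030010010030010000030020040030030010000040020000040040030010040020040000000040020020040010000000000000000000000010010020030010000000010020040040010000010010010000000000040040040000030030040030010000030000000000020020020010020010010020040040020010030010030020)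
    (nat_lit 5600)))
    (nat_lit 5600)))
    (Nat.shiftLeft (Nat.add (Nat.add 
    (nat_lit 0x100300000000400200300200300200100100100400400000300000100300200300100200400300200400000400100000000400100200400100200000100300300300400300300000200200200200300000100300100000300000400400200400400000300100400200200000000400400100200100300000100400000400100400000400000400400400200100200300000100200000000000000000000000000400200000000100100200000200300400400100300200100100000200300000100300000400000000100100100100100100000400000300300000300100100000100400200100000200400300300100400000100300300000100300400400400000100200000000000100200000400200000300200200200100000200000100200300100000200100400400300000100400000000100000100100000000000000000000000000000000000000000000000000000000000000000000000000000000000000000000000000000000000000000000000000000000000000000000000000000000000000000000000000000000000000000000000000000000000000000000000000000000000000000000000000000000000000000000000000000000000000000000000000000000000000000000200000000300200000200000300000000000000000000000000000100300300300300200200200000300400300300000300200000100000300100000000100400200400300400200100200300000200400000100400000100200300100400200100200300400000300000300000000100100400200200200200000200400300400300400100200100100300000000000400100100200200100000100300300100000000200400000300200000300300100000200400000000000000000000000100400000200200000000400400400300400400400400200000400100100200100200400000000)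
    (Nat.shiftLeft 
    (nat_lit 0x3002000003003000000000000002000000001004001001000002004000004002004003004002002004002003002003000004002000003000003003002000003004002003000001003003001003001002004001003001003000003003004000004003002002002003000000002004001002002004000001002004002001000002004003001003004002000001003003002001004004004003003000001002001004004001000003004004001002004002004003004000000000000000000000000000004001004002000004003003003001002002000003000003001003002000000001003003002003002004002002003004001003001001001001000001004002000003002004003002002001003001004001003002001003002000001001002000003000004001002004000002002002001000000004002001004004001003004004001003004002002004003001000002002002004003003000000004000000000000000000000003000000004004002002003004003003000000002000002001001001003000001003001004000003004002000004004004000002004004003003000000000002003001000003001002003001002004001004002003000003000000001000004000000000003004000002003003001002001003002002003000003002004001003000004000001000004003000003000003002001002003001000001000000000000000000000000003003003004002001001000000003003000001003000000002000001000002002003004000000000001000002003000001002000003004000001003002000004000000002004002000001004002000003002001002004001001003004004004000001001000004004001000002001004002001003004003004000002002002004000002003003003003003003004001002000002004001001004000000000000000000000002003001000)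
    (nat_lit 5600)))
    (Nat.shiftLeft (Nat.add 
    (nat_lit 0x10010040010020000020000040040000000000000000000040040040040010020020030010010040010030010040010030030040000000020020020010010020010040040040020000040030020030000000020000020030000020020020000030040000040000020000030000000010040040000020010000030000000020030030020040010040030010000040020020040010010020000020010030020010000010040040000000040000020020030040040030030020020010030010030010030000010030030020010030010040000010020040030030030000000040000010000040000000010010040030040010020010010040000000000000010000040020010000030000010030000010000030030010040010040000000010040000020010030040040000010000040030040030020020020040010020040030000040020010020040020010040010030040010010000000000010030010010040030030030030010000010000010000040030020000020030000040030000000000000000020030020010030030000040000020010000020000020000010030000020010010000030040000040010030010010000040020000010030040010030030000030020040040030030020030030020040040040030000030030010020000040000020000030010030000030000010030030000030030020000030010040000020020040010000040040030020030030030010020010010030030010040020010020030020010010040010030040030030000010040010040040040000000020020040010030040040010020040030010040040020030020000020040000020020010000030010020000000020020000000030000020010030020000010040030020000010010010000000040040010030040020030030010010030030040020020040020020030020030020010030010010010010000040040)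
    (Nat.shiftLeft 
    (nat_lit 0x300300100200300200200400300100200300000400300000100400400100100200400300400400200400400400200100200000100300300400300200200100200400100400100200300200200400100300400200000000400200300300400200000100200200100000100400100400200400300300300300100400400300100400100400100000300000000200300400000400400300300100300400300100000000000000000300200200300100100300300000300100000000300200300300400400100200100100100400200200400400000400200300400200300400200300000100100400300000400300000200300100300000200000200200200400300400000000300300400200200100400200)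
    (nat_lit 5600)))
    (nat_lit 11200)))
    (nat_lit 16800)))
    (nat_lit 39200)))
    (nat_lit 72800)))
    = ?xq2 → Nat) ?hq2; (case hq2 => (conv => lhs; whnf)); intro _; exact OfNat.ofNat ?xq2 : Nat)

noncomputable def GR : ℕ := (by
  refine (?fq3 : (Nat.add (Nat.add (Nat.add (Nat.add 
    (nat_lit 0x40040010030040020010020040030040030010000010030000000030000040030040000000000000000000000030000020040020010040020040030010030040020010000030010020000040010030010030010000030030020030010030000000010020030040040040000000040040030030020020020040030030010040030020000000030010040010040030020030040040010030020030040000020000030030010000040030020020030020000010030000010010010040040010010010010030010020000000000000000000000000000000040040010030020030030000010010020000010000030040020030030010000020000040020040020020000030020000010030040020020040030040040010040020020000000020010010010010040030010000010030020040020000010040040010000030040020040000040000000000030040040020040010010010040030040040030020030000020010000030030020030020040040000000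00000000000000004003001001002004003003000001003004000001000002001001003002004002001004000003002001000001000000003002001001004001000002003000003002003003002004000002003003001000003002001000000000002000003003004003000004004003003002000001004004001004003000004003002001001000000004000001000003004004003002003004001001001004002004000000000000000000000004004000001004000000004003000002001001001003000001000002004004000002000002002004000002000003002001001004003002001003001001000000000000002004003004004004001004003000004003002003004000004003000001004003003000001004001004000002004001003000002000000000003002001000003001000001004004003000004001001001001000002000000)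
    (Nat.shiftLeft (Nat.add 
    (nat_lit 0x30010040000040030010040020000020040010000010000040030010030010030000000030000030030040040020040010030010000030000020030020040000030020000040010030030030000000010020000030020010000030010020040040030010010000010030000000040030000020010010000000010040000010010000040000020030010010040040030020020020030000020020010010040010000010030010010040010000010000000040030020030040030020030020040040010000040040000010040010000000030000030010010000000000020010040020000010010000000040000000000000000000000000000000000000000000000000000000000000000000000000000000000000000000000000000000000000000000000000000000000000000000000000000000000000000000000000000000000000000000000000000000000000000000000000000000000000000000000000000000000000000000000000000000000000000000000000000000000000000000040030000000000000000040020000000000000000000000000000000000000000000000000000000000000000000000000000000000000000000000000000000000000000000000000000000000000000000000000000000000000000000000000000000000000000000000000000000000000000000000000000000000000000000000000000000000000000000000000000000000000000000000000000000000000000000040000010010000000000010020000000000000000000000020020010020040030040010010010020030000040040010030020040000020010000040030010010030010040040040030000000030040040040040010020000020040030040000000030020000020010030040010030020000040010030020020010040020040020010000040030000020010040010000000)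
    (Nat.shiftLeft 
    (nat_lit 0x200200000300100100400400300100300100400400000400100100400000000400100000200300100200000000200300400100200100100300100200300200400300200000400000300200300100400400000100100000100000000400200100300100400000000000000000400400200100000100000200000400400100300300200200400200200400200200000400200200200000200000000100300000100100400100000300300400200100000400200000400200100300300000300100200100300000400100000400400400300000200100000400200300200200000100400300000300000300200000000200300300400400100000000400200300100300200000400400100100000000000000000000000300200100200100400300200300100000000100200300200200100000100300200300400200000100100200100300200400300000400100200300300400000300200300000100200400100200400000300300100400200300400200400100300000200300200400400200300400100100300200200300200400300200400300100000200100100100200300200300400100300000200100100100200000000000000000000000100400200400200300100400100200000000200400100400400200000200100400100300400000200200400200100400300100000300200400100100300000100400100000200400300200400300000100100200300400100300400300200100000400100400300300400100300200200100400400100400300100400300100200000400200200200400100400100100100000400400200200000300000300200200200000000000100400200300100300100300300200000100000400200400000300300400200400400100100300300000100100400000100200300000000400000200300200100300400300000400300400100000100100000400300)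
    (nat_lit 5600)))
    (nat_lit 5600)))
    (Nat.shiftLeft (Nat.add 
    (nat_lit 0x4002002001004004004000001002002002002003000002001000004003004002003002004002003004001000000001002002000003000002000003004003002001002001001002000000002000002001004000003004001001002002003001004000001000001002000000000001001002003002003003003002000000004000004001002002000000000000000000004004004000001001003000000002001000000004002002000003001001003003000002001004002001003002000000004002002002004001001000004004001003004000004002000000002003001004001004004002001001003002002000002002003004004003004002003003002001000002004001004000003001002000002001003004003002003001002004003004004004003004002000003001000000000000000001000004001003002002003001001002000001003004001003000001004002004003000004001002000003002001001000002004002003004003002001002000000000000002000001002001002002004003002003004001003000001003002000004002002004002003002004004001004001003002002003001001000003002004003003002004001004001004001000001001002003001004003002001000000000000000001000003000001000000003002003000003004002004000004000003004003004000001001004000003000000002001004003004000000000004003000002001000001002002000003004004000001002003001000002003002003003002002000000002004002004003004001004003004004001004002000001002002001004002003001001003000003000001001000001000002004004000003002004000000000000000004004002002003004002002004001000003000002003000003001004002000003001000003004003001001004000000003000000000000003)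
    (Nat.shiftLeft (Nat.add 
    (nat_lit 0x30030000020010010010000000030000030000020010040000020020010010010020000030020000040030030040020040030020040040040010040040000010000030000000020020030000000030030030000030000040030010010000020000020030000040040040030010000040010000000040000030040000020010000020030030020030040040020030010020020030030030000010010020010020040020030000000010000000000000000040040030040030000010040040000030020030010020040000000010020000000030020010020010020010030010020010030010040020040040000010020030000030010020010010030030000030020030040020000020020040000030020000030010040010020020020030040020020000030040000020040020040020040040000040000000000040020040040000030010040020010020010010030000000000000000010000020000030010020020020010040020000030030000040030040000000010010000000030030020040020040020000040010040040030010020020040030020040000040040030000010020030040020030000020020020040010010010040040010040040040010030030010030030020000030030040030020000000000020010000030020020000020020020020040000040000000040030020010000000000000000010000040000020000040000000040040000010010040010020010000010030020030040030030030020040000010030020000030030010040010000020000040020020040040000000020020020000000030030020020020030020040040040040000020040010020030010030030020040030030010010040020030030010000040030000040020040030040010020020040030000030030010030030000010040040040040000000030040030010000030030000010030040030020)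
    (Nat.shiftLeft 
    (nat_lit 0x300300200000000100100200300300400200100000000100300000000300200400400300200000000000000000200200100100300400100200100100300400300000000200300300000100400100000000300300200300400300000100400300400100100200100200200400300300200300400000200000300100400200000400200100300400200200300400200400200300100100000000000300300100000000300100400400400000000000200000000000100100100000200100400200000100400100300400000400000400200100100400400000300400300000200100200400300200300400200000000400200400100400000200200300400000200400400300200300300200400300400400100400100000400400400400300200100300100200200100300100300000200200100200300200200100300300300000000000000000300100300400200300300100400200200000300300400100200300300000400300200200000300400000200000000000000000000200100100200300100200100300200400400200300300100400200200200300400300300000100000300000200100300000100200200100000000300300400300000100300400400200100100200100000100300300200000300100200000300200000100000300400000300400400200100000300400200000300000300100300000300100200400100300200200000200100400100400200000300200000000000000000400100300200000000400200400100100400000000200200000300200400400100000000100000300100000200300400100000300300000000300000000000100200400100400000200000100400100000200300200000100400100100000300200300400400200400300400400100300100400100400300300000300400200400200400000100000000300100400300100400000000100300100)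
    (nat_lit 5600)))
    (nat_lit 5600)))
    (nat_lit 16800)))
    (Nat.shiftLeft (Nat.add (Nat.add 
    (nat_lit 0x2003001003004002000002001004003000003002002004004003004000000002000001004001001002001000000004000001004002001003004000002002000000001000002003000000000000000001000004000002002002000004001003004002004004000002002000000003001000001004001004004000004001003002001004004002002000001000002002000002001001004004003004003003000004004002003000003003000004004003000001001001000000003000000002000001000002004002001002004003003000002002004003003000002004000000002000001004001003004002001002000000002002002002001000004004003002002004001003004004002000002000003001000001000002002003002001000003000003004002000001000004002004003000004004000001001001003000004001000003001002001004003001004004000000003003001001004000000003001001003003000000004001002002001001000003003000003004004002004002003004001003004000004000001003002004001004003000004000003002002001000002002002000003000002002003003002002000004000002001002004000001003000001000004002000000004001002004004001000002004002001001004004004000004004002003001003004000001003004003003004001003001003001000003001002000000000001001004001000000001003003002003001003001001001001004004004003001003001002001003002004000000000000000004001000000002001002003004003001002003003002001004000004002002004003001001003001004003002003001002002001002000002001003000000003001002004003002003002003000000000004004000001001002004001000000003001004002002004002002003003003000002004004002004)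
    (Nat.shiftLeft (Nat.add 
    (nat_lit 0x20000030010030010040000020010010020030040040040010010030010040030040040020040040000030040020000040000040040030000030040020040020010040030020020000030030020030020010020020020010010040010040000020020040040020000040000020040030030040040040040040020010040020020000010030020020020020040040020000040000030040020020040030030030000030020040020040000030030000010000020030020010010040030040010020010020010030040040030020000010030040030010030030000030030010010030020030000000010030000000030020000030030030010010000010040040000030000020040020020010020010040010040010010010000000010000010030010030020010010010040040040020030020040010030030040000030040010010020000000010000040000030020000040030040010040000000010030020020040020010040020020010010010010010040010010000030000010000020010030020000040040040000010020010010000030030010010010020030000040010040020010020000020010030000030040020030040000000000000000040040030030040030030030040030030030010020020010010000020020040010010010030030010040010010000020020040010030020040000040040010020040040030000000030030020010010040040040020020030040040010030040040030040020010040030040010020000020020020020040030000010040040010000010030000000010030010030010020040010010040010030030030030000000000000000010000000010010020020000040030030030020000040020040000000030030010000020030000010030020010040020020040020040040010010040020000020000040030010020040040040000030000010030020040)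
    (Nat.shiftLeft 
    (nat_lit 0x300000300000300200200300000400100300400000400100300200000100100300200100400100400000300200000000200400100000400400000400000100000200000400100300200300000400000100300100400200100000300200100000000300300200300400100300100000100300400100400300100300400400100200100100100000100300300000000000000000000400000000400300300000000200100100400200000300000200300100000200200300300000300400400200400400200100400100400300400000400200300300000000300300200100100000100300100400300100200200300000000200000000200200100400400400400100100200400100000300400000100000100100200100200400300400100000000000300100200100400300300300100100000000000000000400100100400200000100100200200200400200000400100100100300100000400400100200200000200000000000000000400100100100200300100400400300300400100000100100100000400400200200000000200200300200200400200200400000200300200400300000100400400400400300000100400100400300400200000100300000100300000400000000100200400000400200200300100000000000000000100100400400300400300400400000000400400300400000400300000100400000300400400300400100400000000300100400200000200100000400300200400300400000000400100400400300300000400400400400000200300100300400000200000300000200000000400300100000100200200000100100000100200100100300100300400200000400000100200200400100300200100300100300300300400400400000000000300100200400300300000000300000300300200300200100400200000300300100400300000100200200300000100300)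
    (nat_lit 5600)))
    (nat_lit 5600)))
    (Nat.shiftLeft (Nat.add (Nat.add 
    (nat_lit 0x1003000001002004001001004003003004004001002000002002000000003001002004001001000001000003003004000001004004001003002000003002001002003004003004002004004001002004003004002000000002002003001001000000001003000000002002002001003004000001003004001003004003000004003001004003000004004002001004004001002000004000004001001000001004003004001004003001003003000004004004001002004000001004001002002001002001004004002001001003004001004001004002001002002002004004003000003002002000003000000000001000004003003000002003001000001001000001002003002004004003003001004004000002004004000002003001001003001000002004004003000003003003004004000004003002000001000004002001000002002004000004004003004000002000000000000000004001003001001001004000001003003003001002000001002004003002001003001001003000004002002001004001000001003003004000000002002002001001002002000000003001003001002000001002003002000004003003003004002003001003001003000000001003004004003000001002002002001003001002001002002001001004002002001004003002000003003001000001002004000000000000000002002001000001003004003001002002001001003000004004003003001001000001003000001003001004000003002004000001004001003003001004002002000001001003002001003004004002004004002002002002003002000004000001004003003000002003003004001004000004000003000001003001001002002002003000003004001003001003004001004002002003001004002000003004001002003003001001004001001002003002000004003000003)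
    (Nat.shiftLeft 
    (nat_lit 0x10010020000000040030030030040020030040030020040000030040020020010040040040020010000000020040040040000000020020010010040040030000030000020030040010030020030030040000040030010030030000010000000040010020030010020040000040020020020010030030020020020010040020030000000020020000000000020020040030030040010030040040040020020040010020010020030000040040010030030010040010040020040030040010040020000010020020040030040000030040000000000000000040040030040030010000000040040000020010030030030010030040020030020030040020000010020040020040000010030020010040040030000030040010040030000000020000040030020000030030000040000010020030030000020040040040040030020040000000000000020020020030010010040040010020020000040040020020000030030010000000030040030030000000020000010000000000000000010000020030010010000000010000010040020020020030000000030020030000000000010010020030010040020010020010040030000010030030000010010010020020030020020010040030040030010030020010010040010020020000040010040040030000010020020040000040000020020010040000040030040040020000030010010030030030000000030040020040010020000010040040000000000000000010000040040000010030030010040000000020010010000000040040010030010010030010000030040010040040000030040000040030040000000020020020020000040040020040000000040020030020040040010000000030020020020010030030040000010030040030010000020000010040000020000030040010020010040030010030040020030000020040040030040010)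
    (nat_lit 5600)))
    (Nat.shiftLeft (Nat.add 
    (nat_lit 0x400300300200400300100100200300200100200000000300100100400100300300100200000000300000300000000200000400100200000000000100400000000000400400000400300000000000000000000100300000300400200000100400400300400000200100300300300300400100400100300100000300000300400300100300200000300400400000200400200100200100300300300100100200000400100000400200100400200200300300100400000300300000200400000300100400400100200000400400400200400300300400000100000300200300200200000100300300000100100200400100000000000000000100100200000400000100300200400100100100300100400000300200400400200200200300300100000000400300400000200400300300000200000200300000400100000300400100100300400300100000300000300200100400000400200200400300200300000400400000400200400300100200200300100100300000200100000000100100200300200400100200200200300400100200200300400200100200000300400400100100400300100400100000200300400200300100200000300300000400300400000000000400300200100300300300100300400200300200000100400300000000100000200100000000400100100100100300000000100200200000100000300300100400100200400400200000400200300200200300100200100000200200200300000400300200100300200200300300300300100100200100200300300400400100100100200000000200300400000300100400100100300000000000000000100400200300300100000100300200400300400100200100000000400100300200300300300000000100200100400100000100400100000300100400000100300300200000000100000200000000000100000200000)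
    (Nat.shiftLeft 
    (nat_lit 0x1002001000004003002000002000001000000000002002003001002004000004003000001003003004004004004000004003002000003003004003003004001000001002001002003001000001004001003001002002004004002000001003003004003003004000000002000000000000000000004001003002000003002003002003001002001004000003003000000001004003000003002004003002004000002001000003000000003003003003004003000000004003000003004000003004001004003001004001001000000001000000000003004002003000000000004000002002003003001000002003000004002002000004002002002004000001002003000002003002001002002000000003003002000002000004004003003001002001001003002002004004003004001001003002004002003002001000003000001001000000000001001000000000002004001000000004004002004004002003001002001001002002004002003000000004003002001004001002003003002004000002003000001001001000001002000004001004002003001003000003004001000004003004004001002004003002003002004004001003003002003004000004002001002000002000001001000000001003001001003004003004000002004001000000001000000003002000002002000002001001002000001004003002001000001000003002000004000003001002000001003000001000004002003002004000003004000003000002000004004002003001000002000004002001003000003002002002001004002004003004002002003002001002000000000000000000003002003001003003001004004003002001002004002000002001004002001002001001001002004002001002003001004004002003003003003004000001003003003002003000003002000002001001001)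
    (nat_lit 5600)))
    (nat_lit 11200)))
    (nat_lit 16800)))
    (nat_lit 33600)))
    (Nat.shiftLeft (Nat.add (Nat.add (Nat.add 
    (nat_lit 0x10030030040010030010000030040000030030010020000030020000030000020000040000040020010000040040010040010010040000020040030000040010020000040020040010020010000040030030010010020030020040000000020000020000030040020030030030000010000040010020010010040000040030000010030030000040000010040010020040010000000000000000030040020020010010010030000040030040000010010010010000040020010020000040040040030000020020030000030040020020030040000010040020010010000020010040020000010040030040020010040010030010030020040020010000000020000040030030020010020040030000040020000000040030030020040010030010040040020040030000010030030000000010020040000040030020020030030040040040010000000030040040000000000020000000010000040010000000000030000000000000020030030000020000020000010040020030040010020000020000000000030000000040030010040020030000010040030020040040020040040030010010000020030010020030020020000010030010000010000020020040020020020030030030000020030020030040040030030010000000000000000000000000040010000030040040000030040010020020000030010020030030000000030030030040040020040000030040020040000010000020020010000030010000040000010010020010020020000000020040040020030030010040000020000000000010040020030030020030030020010000040030000010000040010030010000040020040010010010010040040000010020010040010020020010000000000000000020010030020040040010000000000000000010040040030030000000040030020040000040020020030010020020010020)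
    (Nat.shiftLeft (Nat.add 
    (nat_lit 0x100100000000300000100400400100100100000000000000000000300200300300400100000300300200400000300100100300000000100300300000400400200300400300000100300200400300100200100100300400300100200400200200300000000000400100300400000200000200400400400000200300000200000000400300000300300000000300100000200000100000300300300200200300200000000400000000100100200400200100000000000000000200200100100100100000100300400200300100100100000200000200100300000400400000400100100400400400400400200300000200000400200300100200300200200400300300100000100100100200100200300300300400300200200200200100400400200400200400200200000100200000100200200000400200200200300200200000200200200400400400100300400300100400100400300000000000000000300000000200100300300200000300400400000100100300200000200100300200100200400300000300200200300400100000300200000300000100100200400100400100000000400200100200200200000200400300100400300300000200000400200000100400100200000100100300200400000100100000300000100000100000100100300300000100000200200000000400000300300300000100000000000000000400000400400400100200400000200400100000000200100400400300300000300400100400300400000000200000000000000000400200000100200300100000200200200100300300200400300400400400000000300300300400300300300200400200300100000300000100200300300000400100300300100100400100300000400000000200200300200200100000100100100000000300100000300300100100200200000400400400300100000000200400)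
    (Nat.shiftLeft 
    (nat_lit 0x3004001004001002001000000002003001002002004000000000003003000003000001004002004000000003003001002000001001003003004003003002002001001001001004000000003003000002002002003003004002003000004001000000003000003001003004003001002000002002001003004002004002001004004003003000004001003000001003002000002001003003001002003000001003001004001003000003000003004000003000004002000000002001002003000003003001002001002001000003003004003003003000003000004002000004004002001002001002000003004002004000001001000002003001004003003004001003003001001004004002002003001000000003000003000003003004000003001003002001004002001003003001003004002002001000003000001004001004001001002002004002002003004001002001002004000003000002001003002003004004003000000003000002002000002001004003000000000000000000003002003003003002002002004004003004002000004003001000002000001002001000000004001003001001003002002002001004000004004001000004004001001001002002001004003001002002004003001003004003000004002001004002002004004003001000002000003004002003000001000002000003001002001003002002001000001003004000002002003004002004002004001000000000000000000001002000004000002002004003001004001004004002001001000000004000003002003004000002004001000004002004004002002004003002003000003001001000000002004000003004000001004002002000004002002001003004002004000002004003003004000001003003001004004002003002002004000000003002000002001004002004002004000004003)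
    (nat_lit 5600)))
    (nat_lit 5600)))
    (Nat.shiftLeft (Nat.add (Nat.add 
    (nat_lit 0x20010020010040020010040030010000000040020000000000020020010010020030000010000020000010000040030010010040000010010010000020040020040030040030000040030000040040020000020040040040040000010000040010000010000040040020000040030040000040000030000040020000000010020040010000000000020000000000020030010030000020020030010020020010000040010000000010040000020000020000010040040040020010030010020040040020040000040010020020010010000010030040010010020040030030030000000040030010010010030000030010040040010040000010010000030040010000000000000030030030020030030020010020020030030030040040040020040040020000000000000010000010020000030000040040010000020030030030040030030040010030010000010040000010010040010030030000030040030010020020010000000040000020020030000020040020000010030040030000030030010020040000030040020000030000020010010000020030020000040040020000040020030020040020030010010030000020040010010030040000040040030000030020030020010020030010020030010000030020010030040000020000040030030010040040030030020030020010020030030010040030000020040010010030000040010030040020020030000020040020000030020010020010010010000010030020000020030030030030000030020020030030010010020000020010010020030030030030030030020000000010030000010000020030030000020020020020040030010040030030010030000000010000010040020000000000020030040000040040000030030010030010010040010040000040020010020030000040020020010030000020030000010010010020)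
    (Nat.shiftLeft 
    (nat_lit 0x400000000100300400400300400000400200200300000400100100300300000000100400300300200000400000000100100100100100200400100400100400200300000200000000000100400300400200000300200100400300100400100200200400200100000300300200300400100300000100000300000400200300300400100100000200200400300400100300200300100400100400200300000100400400400100300000300000300300400000100200300100000200000100200400300100000300400100400200200200000300200300400400100000100100200100000400400000100300100400200400300200200100200300300200200300000300200200400200300000300400200100100300100100000000000000000400100000400300100100400000000200200000000000200200300200300200100100100100100400000400200400200400400400100100400100200400100300200000100300300400000400400300000300300200200200100200400300200100400300000400200100100400000400100400000400000300000000300300400300400300000200200300300400200400400100300100100100400200400000000000000000400000400200200100000400200300000100200100200300200000000100400200400100100400300300000300000300300100100300300300100300400200400000200100100000200200300200100100200100400000400400100200100300300200000000400100400200400000400000100300300200100300000400000400000000300300400000100400100100200100000300400000400400400000100300400000400300300400200000300200100300000400200200100400100300300300100200400100300100000100200300300100200300000000400400300400400200200200200400000100400200300100200400)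
    (nat_lit 5600)))
    (Nat.shiftLeft (Nat.add 
    (nat_lit 0x3002002000001004000004001002000002002001000000001004000004004000004004002000000000004001003000001001000002001000002001003003004004003004002001004002004003004004000002001002000002002002004003000000000003000001004002002001004004002004004001001001000003000003002000001004003004001003004002000003002000003002002004004001000000002004004002004004003000000003000004003004000001002003001002003000003001003002002000002004002002004000001004004002004001000003003004003002001001003003003004004000002000000000001002001001000001003000001003004001004004001001001003001002001000001004004003001003001004003003001001000001003004004003004003003004001003004004002004004002003004003001000002002000001003000004001001002004003001003000000002002004000004000000004001003002004002002004001000003004004000004000003002001002002003002003003001001003000002002000001000004001001000003001003000001004001003002001002004002003003003001004001001003002004000000000003001000000002002004002002000000000000000000004001003001002000002004003001001001001002001002001002001003004004001000003001000000002004000003004001001001004004004003003001000002004002002001002002003000004002004000000002003002002004004004000001000002003004001003003003004004003000002000004000004004000004004002000002000004003002003003003001001000001000002002001003000000000000000002002003001000000004000003001001002003003002003000001004001003001003000004002001002001000004)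
    (Nat.shiftLeft 
    (nat_lit 0x30000030030030030040040040000020020030040020020040040040010040040000020010020000010000010020020020000010040000020000020000000010030020030000020020000000000030020020010040000010020040010020040040030020010010040030040010010030020010020010000000010030040030040020000030000010030010040010030040010020020040040000000020040040000030040040030010020020020030010000020000020000030030030030020020040040040040010030020000010030000010010040000040020010010040000030040010030010000030010010020010020040030030010020030000030000030030010010030000020000000020040010040030010010000010000020010030010010040020030020040010000020030010040010020000030030020020040000000010040020040030000000040000030040020020030030010040030030030000000030020020040000010030020030030000020030040000030010030040010020000040040040000010000020020040040010020030020030010020040000010030000010040020030030020010040040030020040000030010040000010030030030030020010040020020000040030020000040030010020020000020030000040020020030010000030040020020020040010040040020040010000000000000000000010000000020000040010010040020020040030020000020010040010000020020020020040020010010020010040030040020000040000040000020010010020030030040010000000010030000040000000000010030040020030000030020030020010020040020010020020030010040020030040030010040010020020000010000000020020000040000020010040020010040000040020020010020000000000000000010000000030000010030030)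
    (nat_lit 5600)))
    (nat_lit 11200)))
    (nat_lit 16800)))
    (Nat.shiftLeft (Nat.add (Nat.add 
    (nat_lit 0x300300400400000000400000300200000400300100400400300200000400200300300200100100000200200300100000300300300200000300100100200100300300000300000300000400100400300300000400000100400300100400300400200200100300300200200200100200000000300400400300300200100200000000300300100200100300400400100100200100100100000400100200000200000000200400100300300200100000000000000300100000100100300400100000200000100100200200400000300200200300300400400100000300100100300300400300200100300000300400200000000300000400300400400300200200000200100200300400200400200000100000400200100300100100200200000200000100200200400100400100200000100400100200100100400100400100100200200400000200100400100400000200200200300400000000100300000300400000300300400300000400000300200400300400200300200300300400100400400400000100000100300300400300100400200000000200100300200300000200000300100100300300000000400400300000400300200200200300000100400000000000100400200400300400000000100200100000400300000300100200000200200000100200100000400200300200200300000100200300400100300400100200300100200300400000100200300100000200400100100200200400300000400400100200400200400400200300000300300400400200100100300100400400000200200300400000000400100000200200100400100000000200400400200300000300400200100000100400000000100100000000300200000100000300200000400200100300300000300300400400100300100200200000000400000400400100200400000200300000300300100200400100100400)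
    (Nat.shiftLeft (Nat.add 
    (nat_lit 0x2001004002000001003004002003002003000000001004003000000004003004001001001001000001002004002004000002000004002000003004004004004002002000004002000003000003002000001000000000000000000003004004000004003003004004002001001003004001002000000004001002000000003004000004004001001002004003001000004004004003000002000000004002002004004002003002002000004004000002001000000001001003004000001001001000000000000003003000002004000004000001002003003004000003002003000003003004003004001004001000001001003003001002000000000000000000001004004001000001003004000004000003003001003002004000003002003001001003004001004003002002000001001001002003001002004002000004004001002000001004004000003004004001004002002004003001001001000004001001003002004000002000001002002003002003003001003004004003002002002000002004004001000001003001004004004003003001000001000000000000000000001001003002003000004000001002000001002004000001001002000002004000003001003003004004001003001000001004003000003004001001000004004002002004002004001001000002004000001000003002002004000001004004002002000002002000000002003003004000001002001003000000003002003000000001000003002003003003004001004000001004004000001004001003000002000003001003003002001001004001003001003002003000001004000000000000002002002004000004003004004003001002003004000001001004000000003001002001002003002002002003001003002003001001000001000001000000000004004001003002003000004003002003003)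
    (Nat.shiftLeft 
    (nat_lit 0x40030010010010000030000000030000010030010010020010020040010010040010020010040020000000020030030040000020000000010020040010030040040000020040040040020010040000030040000010020020040030030030020030010040020020030010040030010040000020000000000000000000040020010000030040040040030030000020040020020040020010010020020030040020040040010020010000010020040000030040010040000020030020030000020020000040040010000000020040040010010000020010000030010000030000000010040040030030030030010040000040020020010040030010030020020020040020030040020020020040010040020000030000010000000020000000000000000030020030020030020010030030010010010020040020010010000020040000030020030000030010040020010030040030030040030040010000000030010010020030000020000000030010010030030040030040000000040010020000010030040010030000010030040030040030020020000010040040030000010010020040020040000040000010010020030030030010040040040010040040040030000000020030040030010010030040030030010020030020020020040020030000000010040040030030030010020000000020020000010040030030030020020020030020040010020040020040030030040010020000020040030010010030030010030000010010040040030020040030010020030040040030020040010040010030030010010010040020010000030000020030000020000030040000020010000010000040010010010000020020030030020000030020000010020030020000010030040020010020010000030040000030000040000040000010040020030030040010020040000030000030000000010000030010)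
    (nat_lit 5600)))
    (nat_lit 5600)))
    (Nat.shiftLeft (Nat.add (Nat.add 
    (nat_lit 0x300300300200300300000000300300000000400300400100300300200300000200400400000300300000300200400400300000200400200100200300200200200000000200300100400200100300000000100300300300300300000300400300100000400200100100300100400200400300200300100100000300200400300100000300300100300200100000400200400200200200200000400300300100400400400000000000100200300200000100400100200200300200300300100300000200000400100000300000100400200300400000200400100300000000000000100200100400100300400400400200400200100400200300000000300200100200300100100200100200300100300400100400200300400300000400100300000300400000200400300200000400000400400100300300400300000300000000000000000100400300400100300400400400200300300200400100000200200200000100200400300400000000100000300200000100300400400300300000200100000400000300000300000100200300000100000200200000200300000300100100000300200100100000400400400300200300200300100400200300100200100400400200400300400100200400200200400400400200300100100300200400100000100100200200000400000000000100300100400300300200300200000100400400000300100100200100400300300100300100000300000300100400400000300000300200100400300200400400400300200100100200300200100300100100400000200400400300300200300100100100100200300200200100400400200100100100200000300400100100300200300400200000100300200200000200000200000000000000000100000000100300000100300000400200000300400400400100100100100300300100100200100400200)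
    (Nat.shiftLeft 
    (nat_lit 0x3002001003004003001002002003000004004000000000002003004001002003000002001002004004003003001004000002004001004003000000003003002002003000003003001001003002004002002004003003004003003001000000003004000002002004002000002004004004004004003002001003003004000003002004002000000000002001002001003000001002000000002002003001004003002004000003001004000003000000000002004002000001004000001004004001004002000003002001000003001001002004001000001002004003003003003004003002000004003001002004002004003001001000000003004003000003000002002004003003003000002003001001004002000000004000002004003001000001002004003001001004003001004003004002003004000000004000003001001000001001000000001002002004002001003002002002003000000000000000002002000003001002004000000001000004003004002004003002004003001003004003002000002004004002003003004004003004002000001001003002001001000004000003002001001003004002002004001002001004003003000002004001003003003001002000003004004004000003003001003004000001001004002003000002003001003004000002003001000000001003002003003000000000000000000003000004000003003002001004000001000003001002004004004000004003001002004000003004001000002001002002003001002000004002002004004004001002003003002002004003000002003003000001003003004001001004004000002002002001003002004002004000002002001002003002003004004002000003002004000004004003003001000000001004004003002001003003004000000000000000004000000002002003)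
    (nat_lit 5600)))
    (Nat.shiftLeft (Nat.add 
    (nat_lit 0x30030010020020000020040020020010020010040000030030000020030020010040000030030040040000000010000020030000000020020040030030040010000010000010030020020000020040000000010010020020020030010030000030000010000040030020000010000030030030030040000030030010030000030030010030020010030040010030040000000040010000010010030020040020040000020030000010030040010020000000030010000030040010020030030030020020010040040030020010030040040030040000030020000000040030000020020020000020030010020030040020000000010010040000030030010000030000020010010040040030030000010040010010040010040020020030040020020040010000020000040040040020000020010020040010000030030040000030010020020000020030020030010010040040000020010030030020020000020010020030030000040030040020000000040000040040030030010010030000000020020030040040040000040020000000040020020030000040020000020040020000020020020040010020030000020030030030040040010020010020000030000000000020040000020020010020020000040030020000000020020030020020010000040020020040000000000040010040030040020010000040020020040040000010040010020020020030030030040020000010040010040010030000010040020030040040040020020000000000020000030000000020040030000040000020040040030000020030010000040040040040030000010040040020000030030030030030040010020030010030000000010020040030000020000040000010040000010010000040030000030020000030020000020010000020010020020000040010010000030020030040030020010030030)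
    (Nat.shiftLeft 
    (nat_lit 0x100000100100100300000300100100200000000200400300000400300000300000100100300400100200100300000200200200200000300400000100000400300300300400100400300400300400400200400100000000400200300300400000400300000400400300000200200200200000400200200100000300100100300000200000300200000100300200100100400000000300000400400100100100300200300100000400000400400400200300100100200000200400100000200200100400300400400400400100300000400200300200000100100000200100300000400000100300200200300000100000300300200300400300100300400200100000100200100200300200100100000400300000300000200)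
    (nat_lit 5600)))
    (nat_lit 11200)))
    (nat_lit 16800)))
    (nat_lit 39200)))
    (nat_lit 72800)))
    = ?xq3 → Nat) ?hq3; (case hq3 => (conv => lhs; whnf)); intro _; exact OfNat.ofNat ?xq3 : Nat)

theorem okP : okG C GP = true := by decide +kernel
theorem okQ : okG C GQ = true := by decide +kernel
theorem okR : okG C GR = true := by decide +kernel
theorem P_eq : checkEq C [Ga, Gz, Gd, Gc, Gd'] [GP] 0 C.n = true := by decide +kernel
theorem Q_eq : checkEq C [Ga', Gc, Gd'] [GQ] 0 C.n = true := by decide +kernel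
theorem R_eq : checkEq C [Gz, Ga', Gc, Gd'] [GR] 0 C.n = true := by decide +kernel
set_option Elab.async false in
theorem P_pow : checkScalar C (List.replicate 67 GP) 1 0 C.n = true := by (rewrite [Cfsg.Agent.Lib.PackCol.checkScalar_col]; decide +kernel)
set_option Elab.async false in
theorem Q_pow : checkScalar C (List.replicate 31 GQ) 1 0 C.n = true := by (rewrite [Cfsg.Agent.Lib.PackCol.checkScalar_col]; decide +kernel)
set_option Elab.async false in
theorem R_pow : checkScalar C (List.replicate 37 GR) 1 0 C.n = true := by (rewrite [Cfsg.Agent.Lib.PackCol.checkScalar_col]; decide +kernel)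
theorem P_dg : Nat.beq (dg C.s GP 1) 1 = true := by decide +kernel
theorem R_dg : Nat.beq (dg C.s GR 111) 4 = true := by decide +kernel

/-- the value of a word in the presented group -/
def ev (w : List (Fin 5 × Bool)) : Spor.Ly := FreeGroup.lift gens (FreeGroup.mk w)

theorem ev_append (v w : List (Fin 5 × Bool)) : ev (v ++ w) = ev v * ev w := by
  rw [ev, ev, ev, ← map_mul, FreeGroup.mul_mk]

theorem ev_eq_one {w : List (Fin 5 × Bool)} (h : checkScalar C (w.map code) 1 0 C.n = true) : ev w = 1 := by
  apply Cfsg.Agent.Ly.Setup.rho_injective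
  rw [ev, rho_lift, map_one]
  exact word_eq_one h

/-- the matrix of a word -/
theorem rho_of {w : List (Fin 5 × Bool)} {g : ℕ} (hg : okG C g = true) (h : checkEq C (w.map code) [g] 0 C.n = true) :
    (rho (ev w)).val = mat C g := by
  rw [ev, rho_lift, coe_word]
  have h1 := prod_eq_of_check good (by decide) (ok_map w) (by
    intro g' hg'
    rw [List.mem_singleton] at hg'
    rw [hg']
    exact hg) h
  have h2 : (([g] : List ℕ).map (mat C)).prod = mat C g := by simp
  exact h1.trans h2

/-- a power from the matrix -/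
theorem pow_of {x : Spor.Ly} {g n : ℕ} (hx : (rho x).val = mat C g) (hg : okG C g = true)
    (h : checkScalar C (List.replicate n g) 1 0 C.n = true) : x ^ n = 1 := by
  apply Cfsg.Agent.Ly.Setup.rho_injective
  apply Units.ext
  rw [map_pow, map_one, Units.val_pow_eq_pow_val, hx, Units.val_one]
  have h1 := prod_one_of_check good (w := List.replicate n g) (by decide) (by
    intro g' hg'
    rw [List.eq_of_mem_replicate hg']
    exact hg) h
  rw [List.map_replicate, List.prod_replicate] at h1
  exact h1

/-- nontrivial by an entry off the diagonal -/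
theorem ne_of {x : Spor.Ly} {g : ℕ} (hx : (rho x).val = mat C g) {i j : Fin C.n} (hij : i ≠ j) {t : ℕ}
    (h : Nat.beq (dg C.s g ((i : ℕ) + C.n * (j : ℕ))) t = true) (ht : (t : ZMod C.p) ≠ 0) : x ≠ 1 := by
  intro h0
  rw [h0, map_one, Units.val_one] at hx
  have h2 := congrFun (congrFun hx i) j
  rw [mat_def, Nat.eq_of_beq_eq_true h] at h2
  have h4 : (1 : Matrix (Fin C.n) (Fin C.n) (ZMod C.p)) i j = 0 := Matrix.one_apply_ne hij
  exact ht (h2.symm.trans h4)

/-- the letters -/
def wa : List (Fin 5 × Bool) := [(0, true), (4, true)]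
def wb : List (Fin 5 × Bool) := [(3, true), (2, true), (3, false)]
def wc : List (Fin 5 × Bool) := [(4, true)]
def wd : List (Fin 5 × Bool) := [(0, false), (2, true), (3, false)]

theorem c_pow : ev [(2, true)] ^ 5 = 1 := by
  have h : ev [(2, true)] ^ 5 = ev [(2, true), (2, true), (2, true), (2, true), (2, true)] := by
    simp only [pow_succ, pow_zero, one_mul]
    rw [← ev_append, ← ev_append, ← ev_append, ← ev_append]
    rfl
  rw [h]
  exact ev_eq_one (by decide +kernel)

theorem a_pow : ev wa ^ 2 ^ 1 = 1 := by
  rw [pow_one, pow_two, ← ev_append]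
  exact ev_eq_one (by decide +kernel)

theorem b_pow : ev wb ^ 5 ^ 1 = 1 := by
  have h : ev wb = ev [(3, true)] * ev [(2, true)] * (ev [(3, true)])⁻¹ := by
    have h1 : (ev [(3, true)])⁻¹ = ev [(3, false)] := by
      rw [inv_eq_iff_mul_eq_one, ← ev_append]
      exact ev_eq_one (by decide +kernel)
    rw [h1, ← ev_append, ← ev_append]
    rfl
  rw [h, pow_one, conj_pow, c_pow, mul_one, mul_inv_cancel]

theorem z_pow : ev wc ^ 2 ^ 3 = 1 := by
  have h : ev wc ^ 2 ^ 3 = ev (List.replicate 8 (4, true)) := by
    simp only [show (2 : ℕ) ^ 3 = 8 from rfl, pow_succ, pow_zero, one_mul]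
    rw [← ev_append, ← ev_append, ← ev_append, ← ev_append, ← ev_append, ← ev_append, ← ev_append]
    rfl
  rw [h]
  exact ev_eq_one (by decide +kernel)

theorem d_pow : ev wd ^ 31 ^ 1 = 1 := by
  rw [pow_one]
  exact pow_of (rho_of okQ Q_eq) okQ Q_pow

theorem order_ab : orderOf (ev wa * ev wb) = 67 := by
  have : Fact (Nat.Prime 67) := ⟨by norm_num⟩
  have h : (rho (ev wa * ev wb)).val = mat C GP := by
    rw [← ev_append]
    exact rho_of okP P_eq
  refine orderOf_eq_prime (pow_of h okP P_pow) ?_
  exact ne_of h (i := ⟨1, by decide⟩) (j := ⟨0, by decide⟩) (by decide) P_dg (by decide)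

theorem order_cd : orderOf (ev wc * ev wd) = 37 := by
  have : Fact (Nat.Prime 37) := ⟨by norm_num⟩
  have h : (rho (ev wc * ev wd)).val = mat C GR := by
    rw [← ev_append]
    exact rho_of okR R_eq
  refine orderOf_eq_prime (pow_of h okR R_pow) ?_
  exact ne_of h (i := ⟨0, by decide⟩) (j := ⟨1, by decide⟩) (by decide) R_dg (by decide)

theorem mult : Cfsg.Agent.H80.Fpf.MultDvd Spor.Ly 1 := Cfsg.Agent.H80.Fpf.multDvd_of_cyclic one_ne_zero Cfsg.Agent.S2050.result

theorem trip67 : TripABC 2 5 67 Spor.Ly :=
  tripABC_of mult (fun s hs h => absurd (Nat.dvd_one.1 h) hs.ne_one) (by norm_num) (by norm_num) (by norm_num)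
    (by norm_num) (by norm_num) (by norm_num) a_pow b_pow order_ab

theorem trip37 : TripABC 2 31 37 Spor.Ly :=
  tripABC_of mult (fun s hs h => absurd (Nat.dvd_one.1 h) hs.ne_one) (by norm_num) (by norm_num) (by norm_num)
    (by norm_num) (by norm_num) (by norm_num) z_pow d_pow order_cd

/-- `2.A11 ≤ Ly` -/
theorem notMin {p : ℕ} (hp : p.Prime) (hp2 : p ≠ 2) (hd : p ∣ (11).factorial) : NotMin p Spor.Ly := by
  obtain ⟨hfin, -, hc, -⟩ := TypeM.FactsLy.facts (M := Spor.Ly) ⟨MulEquiv.refl _⟩
  have hA : 2 * Nat.card ↥(alternatingGroup (Fin 11)) = 39916800 := card_alt (by norm_num)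
  obtain ⟨hz, ⟨e⟩, -⟩ := TypeM.FactsLy.isNonsplit_ly
  have hM := Subgroup.card_eq_card_quotient_mul_card_subgroup
    (Subgroup.center ↥(Subgroup.centralizer ({Ly.Pres.gens 0 ^ 4} : Set Spor.Ly)))
  rw [hz, Nat.card_congr e.toEquiv] at hM
  refine notMin_alt (n := 11) (by norm_num) hp hp2 hd
    (Subgroup.subtype (Subgroup.centralizer ({Ly.Pres.gens 0 ^ 4} : Set Spor.Ly)))
    (e.toMonoidHom.comp (QuotientGroup.mk' _)) (e.surjective.comp (QuotientGroup.mk'_surjective _)) ?_
    (by rw [hM, hc]; omega)
  rw [(MonoidHom.ker_eq_bot_iff _).2 (Subgroup.subtype_injective _)]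
  exact bot_le

/-- **the row** -/
theorem row_Ly : RowOdd Spor.Ly := by
  intro p hp hp2 hd
  obtain ⟨hfin, -, hc, -⟩ := TypeM.FactsLy.facts (M := Spor.Ly) ⟨MulEquiv.refl _⟩
  rw [hc] at hd
  have h1 : p = 2 ∨ p ∣ (11).factorial ∨ p = 31 ∨ p = 37 ∨ p = 67 := by
    have h2 : (51765179004000000 : ℕ) = 2 ^ 8 * 3 ^ 7 * 5 ^ 6 * 7 * 11 * 31 * 37 * 67 := by norm_num
    have h3 : (11).factorial = 39916800 := by decide
    rw [h3]
    rw [h2] at hd
    have key : ∀ q : ℕ, q.Prime → p ∣ q → p = q := fun q hq h => (Nat.prime_dvd_prime_iff_eq hp hq).1 h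
    rcases hp.dvd_mul.1 hd with hd | h
    swap; · exact Or.inr (Or.inr (Or.inr (Or.inr (key _ (by norm_num) h))))
    rcases hp.dvd_mul.1 hd with hd | h
    swap; · exact Or.inr (Or.inr (Or.inr (Or.inl (key _ (by norm_num) h))))
    rcases hp.dvd_mul.1 hd with hd | h
    swap; · exact Or.inr (Or.inr (Or.inl (key _ (by norm_num) h)))
    rcases hp.dvd_mul.1 hd with hd | h
    swap; · exact Or.inr (Or.inl (h.trans (by norm_num)))
    rcases hp.dvd_mul.1 hd with hd | h
    swap; · exact Or.inr (Or.inl (h.trans (by norm_num)))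
    rcases hp.dvd_mul.1 hd with hd | h
    swap; · exact Or.inr (Or.inl ((hp.dvd_of_dvd_pow h).trans (by norm_num)))
    rcases hp.dvd_mul.1 hd with hd | h
    swap; · exact Or.inr (Or.inl ((hp.dvd_of_dvd_pow h).trans (by norm_num)))
    exact Or.inl (key _ Nat.prime_two (hp.dvd_of_dvd_pow hd))
  rcases h1 with h1 | h1 | rfl | rfl | rfl
  · exact absurd h1 hp2
  · exact Or.inl (notMin hp hp2 h1)
  · exact Or.inr ⟨2, 31, 37, by norm_num, by norm_num, trip37⟩
  · exact Or.inr ⟨2, 31, 37, by norm_num, by norm_num, trip37⟩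
  · exact Or.inr ⟨2, 5, 67, by norm_num, by norm_num, trip67⟩

end Cfsg.Agent.H660.RowLy

private theorem dce_99759ece3bf1 : _root_.True := by
  try have : _root_.True := by simp only [_root_.Cfsg.Agent.H660.RowLy.ev.eq_1]
  exact _root_.True.intro
end

-- part: H963/PQR/GTwoThree
section
set_option linter.all false
open scoped Cfsg.Agent.FastGrp

/-!
# The row `G₂(q)` of S3988 (helper963)

`G₂(3)`, `p = 7`: a triple of type `(7, 2, 3)`, the element of order 8 of `SL₃(3)` has a centraliser of order prime to 3.
-/

set_option autoImplicit false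

namespace Cfsg.Agent.H963.PQR

open Cfsg Cfsg.Lie Cfsg.Agent.H562.PQR Cfsg.Agent.H161.Oct
open Matrix (SpecialLinearGroup ProjectiveSpecialLinearGroup)

universe u

section Eight

variable {F : Type u} [Field F]

/-- the matrix of order 8 -/
def yP (F : Type u) [Field F] : Matrix (Fin 3) (Fin 3) F := !![0, 1, 0; 1, 1, 0; 0, 0, -1]

theorem yP_det : (yP F).det = 1 := by
  rw [det3]
  simp [yP]

/-- the element of order 8 of `SL₃(3)` -/
def yS (F : Type u) [Field F] : SpecialLinearGroup (Fin 3) F := ⟨yP F, yP_det⟩

theorem y_apply (x : V F) : slM F (yS F) x = ![x 0, x 2, x 1 + x 2, -x 3, -x 4 + x 5, x 4, -x 6, x 7] := by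
  rw [slM_apply]
  apply ext8
  · rw [slF0]; rfl
  · rw [slF1]; simp [yS, yP]
  · rw [slF2]; simp [yS, yP]
  · rw [slF3]; simp [yS, yP]
  · rw [slF4]; simp [yS, yP]
  · rw [slF5]; simp [yS, yP]
  · rw [slF6]; simp [yS, yP]
  · rw [slF7]; rfl

theorem yS_pow (h3 : (3 : F) = 0) : yS F ^ 8 = 1 := by
  have h2 : yP F * yP F = !![1, 1, 0; 1, 2, 0; 0, 0, 1] := by
    ext i j
    fin_cases i <;> fin_cases j <;> simp [yP, Matrix.mul_apply, Fin.sum_univ_three]
    norm_num
  have h4 : (yP F * yP F) * (yP F * yP F) = !![-1, 0, 0; 0, -1, 0; 0, 0, 1] := by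
    rw [h2]
    ext i j
    fin_cases i <;> fin_cases j <;> simp [Matrix.mul_apply, Fin.sum_univ_three]
    · linear_combination h3
    · linear_combination h3
    · linear_combination h3
    · linear_combination 2 * h3
  apply Subtype.ext
  rw [Matrix.SpecialLinearGroup.coe_pow]
  show yP F ^ 8 = 1
  have e : yP F ^ 8 = ((yP F * yP F) * (yP F * yP F)) * ((yP F * yP F) * (yP F * yP F)) := by noncomm_ring
  rw [e, h4]
  ext i j
  fin_cases i <;> fin_cases j <;> simp [Matrix.mul_apply, Fin.sum_univ_three]

theorem yS_ne : yS F ≠ 1 := by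
  intro h
  have h1 := congrArg (fun A : SpecialLinearGroup (Fin 3) F => A.1 0 1) h
  have h2 : (1 : F) = 0 := h1
  exact one_ne_zero h2

/-- **An automorphism of order dividing 3 commuting with `y` is trivial.** -/
theorem eq_one_of_comm (h3 : (3 : F) = 0) {g : V F ≃ₗ[F] V F} (hg : g ∈ AutO F)
    (hc : ∀ x, g (slM F (yS F) x) = slM F (yS F) (g x)) (h : g ^ 3 = 1) : g = 1 := by
  have hggg : ∀ x, g (g (g x)) = x := fun x => by
    have h1 := congrArg (fun f : V F ≃ₗ[F] V F => f x) h
    exact h1
  have cube : ∀ a : F, a ^ 3 = 1 → a = 1 := by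
    intro a ha
    have h1 : (a - 1) ^ 3 = 0 := by linear_combination ha - (a ^ 2 - a) * h3
    exact sub_eq_zero.1 (pow_eq_zero_iff (by norm_num) |>.1 h1)
  have two0 : ∀ a : F, a + a = 0 → a = 0 := by
    intro a ha
    linear_combination a * h3 - ha
  -- the fixed space
  have hfix : ∀ v : V F, slM F (yS F) v = v → v 1 = 0 ∧ v 2 = 0 ∧ v 3 = 0 ∧ v 4 = 0 ∧ v 5 = 0 ∧ v 6 = 0 := by
    intro v hv
    rw [y_apply] at hv
    have e1 : v 2 = v 1 := congrFun hv 1
    have e2 : v 1 + v 2 = v 2 := congrFun hv 2
    have e3 : -v 3 = v 3 := congrFun hv 3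
    have e4 : -v 4 + v 5 = v 4 := congrFun hv 4
    have e5 : v 4 = v 5 := congrFun hv 5
    have e6 : -v 6 = v 6 := congrFun hv 6
    have f1 : v 1 = 0 := by linear_combination e2
    have f4 : v 4 = 0 := by linear_combination -e4 - e5
    exact ⟨f1, e1.trans f1, two0 _ (by linear_combination -e3), f4, e5.symm.trans f4,
      two0 _ (by linear_combination -e6)⟩
  have hye1 : slM F (yS F) e1 = e1 := by
    rw [y_apply]
    apply ext8 <;> simp [e1]
  have hge : slM F (yS F) (g e1) = g e1 := by rw [← hc, hye1]
  obtain ⟨f1, f2, f3, f4, f5, f6⟩ := hfix _ hge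
  have htr := (tr_nm hg e1).1
  have hnm := (tr_nm hg e1).2
  have htr' : (g e1) 0 + (g e1) 7 = 1 := by
    have : tr (e1 : V F) = 1 := by simp [tr, e1]
    rw [this] at htr
    exact htr
  have hnm' : (g e1) 0 * (g e1) 7 = 0 := by
    have h0 : nm (e1 : V F) = 0 := by simp [nm, e1]
    rw [h0] at hnm
    simp only [nm, f1, f2, f3] at hnm
    linear_combination hnm
  have he : g e1 = e1 := by
    rcases mul_eq_zero.1 hnm' with h0 | h7
    · exfalso
      have h7 : (g e1) 7 = 1 := by rw [h0, zero_add] at htr'; exact htr'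
      have h8 : g e1 = o - e1 := by
        apply ext8
        · rw [h0]; simp [o, e1]
        · rw [f1]; simp [o, e1]
        · rw [f2]; simp [o, e1]
        · rw [f3]; simp [o, e1]
        · rw [f4]; simp [o, e1]
        · rw [f5]; simp [o, e1]
        · rw [f6]; simp [o, e1]
        · rw [h7]; simp [o, e1]
      have h9 : g (g e1) = e1 := by
        rw [h8, map_sub, map_o hg, h8, sub_sub_cancel]
      have h10 := hggg e1
      rw [h9] at h10
      rw [h10] at h0
      have : (e1 : V F) 0 = 1 := by simp [e1]
      rw [this] at h0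
      exact one_ne_zero h0
    · have h0 : (g e1) 0 = 1 := by rw [h7, add_zero] at htr'; exact htr'
      apply ext8
      · rw [h0]; simp [e1]
      · rw [f1]; simp [e1]
      · rw [f2]; simp [e1]
      · rw [f3]; simp [e1]
      · rw [f4]; simp [e1]
      · rw [f5]; simp [e1]
      · rw [f6]; simp [e1]
      · rw [h7]; simp [e1]
  -- the three basis vectors
  obtain ⟨u0, hu0⟩ : ∃ u : V F, u = ![0, 1, 0, 0, 0, 0, 0, 0] := ⟨_, rfl⟩
  obtain ⟨u1, hu1⟩ : ∃ u : V F, u = ![0, 0, 1, 0, 0, 0, 0, 0] := ⟨_, rfl⟩
  obtain ⟨u2, hu2⟩ : ∃ u : V F, u = ![0, 0, 0, 1, 0, 0, 0, 0] := ⟨_, rfl⟩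
  have hA : ∀ v : Fin 3 → F, (g (iA v)) 0 = 0 ∧ (g (iA v)) 4 = 0 ∧ (g (iA v)) 5 = 0 ∧ (g (iA v)) 6 = 0 ∧
      (g (iA v)) 7 = 0 := by
    intro v
    have h1 := map_iA hg he v
    rw [iA_apply] at h1
    exact ⟨congrFun h1 0, congrFun h1 4, congrFun h1 5, congrFun h1 6, congrFun h1 7⟩
  have a0 : u0 = iA ![1, 0, 0] := by rw [hu0, iA_apply]; rfl
  have a1 : u1 = iA ![0, 1, 0] := by rw [hu1, iA_apply]; rfl
  have a2 : u2 = iA ![0, 0, 1] := by rw [hu2, iA_apply]; rfl
  have y0 : slM F (yS F) u0 = u1 := by
    rw [y_apply, hu0, hu1]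
    apply ext8 <;> simp
  have y1 : slM F (yS F) u1 = u0 + u1 := by
    rw [y_apply, hu0, hu1]
    apply ext8 <;> simp
  have y2 : slM F (yS F) u2 = -u2 := by
    rw [y_apply, hu2]
    apply ext8 <;> simp
  obtain ⟨p, hp⟩ : ∃ p, p = g u0 := ⟨_, rfl⟩
  obtain ⟨r, hr⟩ : ∃ r, r = g u2 := ⟨_, rfl⟩
  have hpz := hA ![1, 0, 0]
  have hrz := hA ![0, 0, 1]
  rw [← a0, ← hp] at hpz
  rw [← a2, ← hr] at hrz
  obtain ⟨p0, p4, p5, p6, p7⟩ := hpz
  obtain ⟨r0, r4, r5, r6, r7⟩ := hrz
  have hq : g u1 = ![0, p 2, p 1 + p 2, -p 3, 0, 0, 0, 0] := by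
    rw [← y0, hc, ← hp, y_apply]
    apply ext8 <;> simp [p0, p4, p5, p6, p7]
  have hpq : p + g u1 = slM F (yS F) (g u1) := by
    rw [← hc, y1, map_add, ← hp]
  rw [hq, y_apply] at hpq
  have p3 : p 3 = 0 := by
    have := congrFun hpq 3
    simp at this
    exact this.symm
  have hr' : -r = slM F (yS F) r := by
    rw [hr, ← hc, y2, map_neg]
  rw [y_apply] at hr'
  have r12 : -r 1 = r 2 := congrFun hr' 1
  have r21 : -r 2 = r 1 + r 2 := congrFun hr' 2
  have r1 : r 1 = 0 := by linear_combination (-2 : F) * r12 + r21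
  have r2 : r 2 = 0 := by rw [← r12, r1, neg_zero]
  have ep : p = p 1 • u0 + p 2 • u1 := by
    rw [hu0, hu1]
    apply ext8 <;> simp [p0, p3, p4, p5, p6, p7]
  have eq : g u1 = p 2 • u0 + (p 1 + p 2) • u1 := by
    rw [hq, hu0, hu1]
    apply ext8 <;> simp [p3]
  have er : r = r 3 • u2 := by
    rw [hu2]
    apply ext8 <;> simp [r0, r1, r2, r4, r5, r6, r7]
  obtain ⟨a, ha⟩ : ∃ a, a = p 1 := ⟨_, rfl⟩
  obtain ⟨b, hb⟩ : ∃ b, b = p 2 := ⟨_, rfl⟩
  obtain ⟨c, hc'⟩ : ∃ c, c = r 3 := ⟨_, rfl⟩
  rw [← ha, ← hb] at ep eq
  rw [← hc'] at er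
  rw [hp] at ep
  rw [hr] at er
  have g3 := hggg u0
  rw [ep, map_add, map_smul, map_smul, ep, eq, map_add, map_smul, map_smul, map_add, map_smul, map_smul, map_add,
    map_smul, map_smul, ep, eq] at g3
  have k1 := congrFun g3 1
  have k2 := congrFun g3 2
  rw [hu0, hu1] at k1 k2
  simp only [Pi.add_apply, Pi.smul_apply, smul_eq_mul] at k1 k2
  simp only [Matrix.cons_val_one, Matrix.cons_val, mul_one, mul_zero, add_zero, zero_add] at k1 k2
  have hb0 : b = 0 := by
    have h1 : b ^ 3 = 0 := by linear_combination (-1 : F) * k2 + (a ^ 2 * b + a * b ^ 2 + b ^ 3) * h3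
    exact pow_eq_zero_iff (by norm_num) |>.1 h1
  have ha1 : a = 1 := by
    apply cube
    rw [hb0] at k1
    linear_combination k1
  have g3' := hggg u2
  rw [er, map_smul, er, map_smul, map_smul, er] at g3'
  have k3 := congrFun g3' 3
  rw [hu2] at k3
  simp only [Pi.smul_apply, smul_eq_mul] at k3
  simp only [Matrix.cons_val, mul_one] at k3
  have hc1 : c = 1 := by
    apply cube
    linear_combination k3
  rw [ha1, hb0, one_smul, zero_smul, add_zero] at ep
  rw [ha1, hb0, zero_smul, zero_add, add_zero, one_smul] at eq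
  rw [hc1, one_smul] at er
  -- the other basis vectors
  have m01 : g (zornMul u0 u1) = zornMul u0 u1 := by rw [mem_AutO.1 hg, ep, eq]
  have m12 : g (zornMul u1 u2) = zornMul u1 u2 := by rw [mem_AutO.1 hg, eq, er]
  have m20 : g (zornMul u2 u0) = zornMul u2 u0 := by rw [mem_AutO.1 hg, er, ep]
  have n01 : zornMul u0 u1 = ![0, 0, 0, 0, 0, 0, 1, 0] := by
    rw [hu0, hu1]
    apply ext8 <;> simp [mul0, mul1, mul2, mul3, mul4, mul5, mul6, mul7]
  have n12 : zornMul u1 u2 = ![0, 0, 0, 0, 1, 0, 0, 0] := by
    rw [hu1, hu2]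
    apply ext8 <;> simp [mul0, mul1, mul2, mul3, mul4, mul5, mul6, mul7]
  have n20 : zornMul u2 u0 = ![0, 0, 0, 0, 0, 1, 0, 0] := by
    rw [hu2, hu0]
    apply ext8 <;> simp [mul0, mul1, mul2, mul3, mul4, mul5, mul6, mul7]
  rw [n01] at m01
  rw [n12] at m12
  rw [n20] at m20
  have m7 : g (o - e1) = o - e1 := by rw [map_sub, map_o hg, he]
  apply LinearEquiv.ext
  intro x
  have hx : x = x 0 • e1 + x 1 • u0 + x 2 • u1 + x 3 • u2 + x 4 • ![0, 0, 0, 0, 1, 0, 0, 0] +
      x 5 • ![0, 0, 0, 0, 0, 1, 0, 0] + x 6 • ![0, 0, 0, 0, 0, 0, 1, 0] + x 7 • (o - e1) := by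
    rw [hu0, hu1, hu2]
    (refine And.elim (fun cj1 => And.elim fun cj2 => And.elim fun cj3 => And.elim fun cj4 => And.elim fun cj5 => And.elim fun cj6 => And.elim fun cj7 cj8 => by apply ext8; exacts [cj1, cj2, cj3, cj4, cj5, cj6, cj7, cj8]) ?_; simp [e1, o])
  show g x = x
  rw [hx]
  simp only [map_add, map_smul, he, ep, eq, er, m01, m12, m20, m7]

end Eight

variable {F : Type} [Field F] [Fintype F]

/-- the element of order 8 has a centraliser of order prime to 3 -/
theorem exists_eight (hF : Fintype.card F = 3) : ∃ y : ↥(chevG2.group F), PE 2 y ∧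
    ¬ 3 ∣ Nat.card ↥(Subgroup.centralizer ({y} : Set ↥(chevG2.group F))) := by
  have h3 : (3 : F) = 0 := by
    have h1 : ((Fintype.card F : ℕ) : F) = 0 := by simp
    rw [hF] at h1
    exact_mod_cast h1
  obtain ⟨e⟩ := Cfsg.Agent.H148.Oct.nonempty_equiv F
  obtain ⟨y, hy⟩ : ∃ y : ↥(AutO F), y = ⟨slM F (yS F), slM_mem _⟩ := ⟨_, rfl⟩
  have hy8 : y ^ 8 = 1 := by
    apply Subtype.ext
    rw [Subgroup.coe_pow, hy]
    show slM F (yS F) ^ 8 = 1
    rw [← map_pow, yS_pow h3, map_one]
  have hy1 : y ≠ 1 := by
    intro h
    have h1 : slM F (yS F) = 1 := by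
      have := congrArg Subtype.val h
      rw [hy] at this
      exact this
    exact yS_ne (slM_inj (h1.trans (map_one _).symm))
  refine ⟨e y, ⟨fun h => hy1 (e.injective (h.trans (map_one e).symm)), ?_⟩, ?_⟩
  · rw [e.orderOf_eq]
    have h1 : orderOf y ∣ 2 ^ 3 := orderOf_dvd_of_pow_eq_one hy8
    obtain ⟨k, -, hk⟩ := (Nat.dvd_prime_pow Nat.prime_two).1 h1
    exact ⟨k, hk⟩
  · intro hd
    have : Fact (Nat.Prime 3) := ⟨Nat.prime_three⟩
    obtain ⟨⟨u, hu⟩, huo⟩ := exists_prime_orderOf_dvd_card' 3 hd
    rw [Subgroup.orderOf_mk] at huo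
    rw [Subgroup.mem_centralizer_singleton_iff] at hu
    have h1 : e.symm u * y = y * e.symm u := by
      apply e.injective
      rw [map_mul, map_mul, e.apply_symm_apply, hu]
    have h2 : (e.symm u) ^ 3 = 1 := by
      rw [← map_pow, ← huo, pow_orderOf_eq_one, map_one]
    have h3' : ((e.symm u : ↥(AutO F)) : V F ≃ₗ[F] V F) = 1 := by
      refine eq_one_of_comm h3 (e.symm u).2 ?_ ?_
      · intro x
        have h4 := congrArg (fun f : ↥(AutO F) => (f : V F ≃ₗ[F] V F) x) h1
        rw [hy] at h4
        exact h4
      · exact congrArg Subtype.val h2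
    have h5 : e.symm u = 1 := Subtype.ext h3'
    have h6 : u = 1 := by
      rw [← e.apply_symm_apply u, h5, map_one]
    rw [h6, orderOf_one] at huo
    norm_num at huo

theorem trip_g2_three (hF : Fintype.card F = 3) : Trip 7 ↥(chevG2.group F) := by
  have hcard := S1059.result (F := F) hF
  have h7 : 7 ∣ Nat.card ↥(chevG2.group F) := by rw [hcard]; norm_num
  have : Fact (Nat.Prime 7) := ⟨by norm_num⟩
  obtain ⟨x, hx⟩ := exists_prime_orderOf_dvd_card' 7 h7
  obtain ⟨y, hy, hyc⟩ := exists_eight hF
  have hchar : CharP F 3 := by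
    obtain ⟨r, hrc⟩ := CharP.exists F
    have hr : r.Prime := CharP.char_is_prime F r
    have hrF : r ∣ Fintype.card F := (CharP.cast_eq_zero_iff F r (Fintype.card F)).1 (by simp)
    rw [hF, Nat.prime_dvd_prime_iff_eq hr Nat.prime_three] at hrF
    rwa [← hrF]
  obtain ⟨x', y', z', h4, h5, h6, h8⟩ := tri_char Nat.prime_three (lie_g2 3 (by omega)) (by norm_num : Nat.Prime 7)
    Nat.prime_two (by norm_num) (PE.of_orderOf (by norm_num) hx) hy
    (cent_six (by norm_num) (by norm_num) (by rw [hF]; norm_num) hx Nat.prime_three (by rw [hF])) hyc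
  refine ⟨7, 2, 3, Or.inl rfl, Or.inr (Or.inl rfl), ?_⟩
  refine TripABC.of_mult (Cfsg.Agent.H80.Fpf.multDvd_of_cyclic (by norm_num) (S2101.result hF)) ?_ (by norm_num)
    Nat.prime_two Nat.prime_three (by norm_num) (by norm_num) (by norm_num) h4 h5 h6 h8
  intro s hs hs3
  exact Or.inr (Or.inr (Or.inr ((Nat.prime_dvd_prime_iff_eq hs Nat.prime_three).1 hs3)))

/-- **The row `G₂(q)`, `q ≥ 3`.** -/
theorem rowOdd_chevG2 (h3 : 3 ≤ Fintype.card F) : RowOdd ↥(chevG2.group F) := by
  intro p hp hp2 hd
  rcases card_dvd_iff hp hd with h | ⟨hp3, h⟩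
  · exact Or.inl (notMin_g2 hp h)
  · right
    rcases Nat.eq_or_lt_of_le h3 with h4 | h4
    · rw [← h4] at h
      have h7 : p = 7 := (Nat.prime_dvd_prime_iff_eq hp (by norm_num)).1 h
      rw [h7]
      exact trip_g2_three h4.symm
    · exact trip_g2 h4 hp hp2 hp3 h

theorem row_G2 {S : Type u} [Group S] (h : Cfsg.Lie.IsoChevG2 S) : RowOdd S := by
  obtain ⟨F, _, _, h3, ⟨e⟩⟩ := h
  exact (rowOdd_chevG2 h3).congr e.symm

end Cfsg.Agent.H963.PQR

private theorem dce_f37c0f9e32fd : _root_.True := by
  try have : _root_.True := by simp only [_root_.Cfsg.Agent.H963.PQR.yS.eq_1]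
  try have : _root_.True := by simp only [_root_.Cfsg.Agent.H963.PQR.yP.eq_1]
  exact _root_.True.intro
end

-- part: H562/PQR/Assemble_mg
section
prune_inst 0x4547067455540020000040096010022857d0004900060000149a408400108e3624902a9400c803118080a22000004002815001894624000000e840400000505218080920c71c10115e6009f80008c010000100000000000000000000000000004210000000
set_option linter.all false
open scoped Cfsg.Agent.FastGrp

-- part: H562/PQR/Assemble
section
/-!
# S3988 (helper562): from the rows of the explicit groups to all simple groups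
-/

set_option autoImplicit false

namespace Cfsg.Agent.H562.PQR

open Cfsg

universe u

/-- the rows for the odd primes -/
structure RowsOdd : Prop where
  alt : ∀ n : ℕ, 5 ≤ n → RowOdd (alternatingGroup (Fin n))
  psl2 : ∀ (F : Type) [Field F] [Fintype F], 4 ≤ Fintype.card F →
    RowOdd (Matrix.ProjectiveSpecialLinearGroup (Fin 2) F)
  psl : ∀ (F : Type) [Field F] [Fintype F] (n : ℕ), 3 ≤ n → RowOdd (Matrix.ProjectiveSpecialLinearGroup (Fin n) F)
  psp : ∀ (F : Type) [Field F] [Fintype F] (m : ℕ), 2 ≤ m → (m = 2 → 3 ≤ Fintype.card F) → RowOdd (PSp m F)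
  psu : ∀ (F : Type) [Field F] [Fintype F] (n q : ℕ), Fintype.card F = q ^ 2 → 3 ≤ n → ¬ (n = 3 ∧ q = 2) →
    RowOdd (PSU n F q)
  omegaOdd : ∀ (F : Type) [Field F] [Fintype F] (m : ℕ), 3 ≤ m → Odd (Fintype.card F) →
    RowOdd (POmega F (quadFormOdd m F))
  omegaPlus : ∀ (F : Type) [Field F] [Fintype F] (m : ℕ), 4 ≤ m → RowOdd (POmega F (quadFormPlus m F))
  omegaMinus : ∀ (F : Type) [Field F] [Fintype F] (m : ℕ) (a b : F), 4 ≤ m →
    (∀ z₁ z₂ : F, z₁ ^ 2 + a * z₁ * z₂ + b * z₂ ^ 2 = 0 → z₁ = 0 ∧ z₂ = 0) →
    RowOdd (POmega F (quadFormMinus (m - 1) F a b))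
  g2 : ∀ (F : Type) [Field F] [Fintype F], 3 ≤ Fintype.card F → RowOdd (Lie.chevG2.group F)
  f4 : ∀ (F : Type) [Field F] [Fintype F], RowOdd (Lie.chevF4.group F)
  e6 : ∀ (F : Type) [Field F] [Fintype F], RowOdd (Lie.chevE6.group F)
  e7 : ∀ (F : Type) [Field F] [Fintype F], RowOdd (Lie.chevE7.group F)
  e8 : ∀ (F : Type) [Field F] [Fintype F], RowOdd (Lie.chevE8.group F)
  e6t : ∀ (K : Type) [Field K] [Fintype K] (q : ℕ), IsPrimePow q → Fintype.card K = q ^ 2 →
    RowOdd (Lie.twistedE6 K q)
  d4t : ∀ (K : Type) [Field K] [Fintype K] (q : ℕ), IsPrimePow q → Fintype.card K = q ^ 3 →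
    RowOdd (Lie.twistedD4 K q)
  sz : ∀ (F : Type) [Field F] [Fintype F] (m : ℕ), 1 ≤ m → Fintype.card F = 2 ^ (2 * m + 1) →
    RowOdd (Lie.Sz F (2 ^ (m + 1)))
  ree : ∀ (K : Type) [Field K] [Fintype K] (m : ℕ), 1 ≤ m → Fintype.card K = 3 ^ (2 * m + 1) →
    RowOdd (Lie.twistedG2 K (3 ^ m))
  f4t : ∀ (K : Type) [Field K] [Fintype K] (m : ℕ), 1 ≤ m → Fintype.card K = 2 ^ (2 * m + 1) →
    RowOdd (Lie.twistedF4 K (2 ^ m))
  tits : RowOdd Lie.TitsGroup
  m11 : RowOdd Spor.M11
  m12 : RowOdd Spor.M12
  m22 : RowOdd Spor.M22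
  m23 : RowOdd Spor.M23
  m24 : RowOdd M24
  j1 : RowOdd Spor.J1
  j2 : RowOdd Spor.J2
  j3 : ∀ (F : Type) [Field F] [Fintype F] (ω : F), Fintype.card F = 4 → ω ^ 2 + ω + 1 = 0 → RowOdd (Spor.J3 F ω)
  j4 : RowOdd Spor.J4
  co1 : RowOdd Spor.Co1
  co2 : RowOdd Spor.Co2
  co3 : RowOdd Spor.Co3
  mcl : RowOdd Spor.McL
  hs : RowOdd Spor.HS
  suz : RowOdd Spor.Suz
  he : RowOdd Spor.He
  ru : RowOdd Spor.Ru
  on : RowOdd Spor.ON
  ly : RowOdd Spor.Ly
  fi22 : RowOdd Spor.Fi22
  fi23 : RowOdd Spor.Fi23
  fi24 : RowOdd Spor.Fi24'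
  hn : RowOdd Spor.HN
  th : RowOdd Spor.Th
  b : RowOdd Spor.BabyMonster
  m : RowOdd Spor.Monster

/-- **all known non-abelian simple groups, odd primes** -/
theorem RowsOdd.of_known (R : RowsOdd) {S : Type u} [Group S] [Finite S] (hnp : ¬ (Nat.card S).Prime)
    (h : IsKnownSimple' S) : RowOdd S := by
  rcases h with h | ⟨n, hn, ⟨e⟩⟩ | ⟨F, _, _, n, hn, hn2, ⟨e⟩⟩ | ⟨F, _, _, m, hm, hm2, ⟨e⟩⟩ | ⟨F, _, _, n, q, hF, hn, hn2, ⟨e⟩⟩ |
    ⟨F, _, _, m, hm, ho, ⟨e⟩⟩ | ⟨F, _, _, m, hm, ⟨e⟩⟩ | ⟨F, _, _, m, a, b, hm, hab, ⟨e⟩⟩ | h | h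
  · exact absurd h hnp
  · exact (R.alt n hn).congr e.symm
  · by_cases h2 : n = 2
    · subst h2
      exact (R.psl2 F (hn2 rfl)).congr e.symm
    · exact (R.psl F n (by omega)).congr e.symm
  · exact (R.psp F m hm hm2).congr e.symm
  · exact (R.psu F n q hF hn hn2).congr e.symm
  · exact (R.omegaOdd F m hm ho).congr e.symm
  · exact (R.omegaPlus F m hm).congr e.symm
  · exact (R.omegaMinus F m a b hm hab).congr e.symm
  · rcases h with ⟨F, _, _, hF, ⟨e⟩⟩ | ⟨F, _, _, ⟨e⟩⟩ | ⟨F, _, _, ⟨e⟩⟩ | ⟨F, _, _, ⟨e⟩⟩ | ⟨F, _, _, ⟨e⟩⟩ |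
      ⟨K, _, _, q, hq, hK, ⟨e⟩⟩ | ⟨K, _, _, q, hq, hK, ⟨e⟩⟩ | ⟨F, _, _, m, hm, hF, ⟨e⟩⟩ | ⟨K, _, _, m, hm, hK, ⟨e⟩⟩ |
      ⟨K, _, _, m, hm, hK, ⟨e⟩⟩ | ⟨⟨e⟩⟩
    · exact (R.g2 F hF).congr e.symm
    · exact (R.f4 F).congr e.symm
    · exact (R.e6 F).congr e.symm
    · exact (R.e7 F).congr e.symm
    · exact (R.e8 F).congr e.symm
    · exact (R.e6t K q hq hK).congr e.symm
    · exact (R.d4t K q hq hK).congr e.symm
    · exact (R.sz F m hm hF).congr e.symm
    · exact (R.ree K m hm hK).congr e.symm
    · exact (R.f4t K m hm hK).congr e.symm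
    · exact RowOdd.congr (S := Lie.TitsGroup) e.symm R.tits
  · rcases h with ⟨⟨e⟩⟩ | ⟨⟨e⟩⟩ | ⟨⟨e⟩⟩ | ⟨⟨e⟩⟩ | ⟨⟨e⟩⟩ | ⟨⟨e⟩⟩ | ⟨⟨e⟩⟩ | ⟨F, _, _, ω, hF, hω, ⟨e⟩⟩ | ⟨⟨e⟩⟩ |
      ⟨⟨e⟩⟩ | ⟨⟨e⟩⟩ | ⟨⟨e⟩⟩ | ⟨⟨e⟩⟩ | ⟨⟨e⟩⟩ | ⟨⟨e⟩⟩ | ⟨⟨e⟩⟩ | ⟨⟨e⟩⟩ | ⟨⟨e⟩⟩ |
      ⟨⟨e⟩⟩ | ⟨⟨e⟩⟩ | ⟨⟨e⟩⟩ | ⟨⟨e⟩⟩ | ⟨⟨e⟩⟩ | ⟨⟨e⟩⟩ | ⟨⟨e⟩⟩ | ⟨⟨e⟩⟩
    · exact R.m11.congr e.symm
    · exact R.m12.congr e.symm
    · exact R.m22.congr e.symm
    · exact R.m23.congr e.symm
    · exact R.m24.congr e.symm
    · exact R.j1.congr e.symm
    · exact R.j2.congr e.symm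
    · exact (R.j3 F ω hF hω).congr e.symm
    · exact R.j4.congr e.symm
    · exact R.co1.congr e.symm
    · exact R.co2.congr e.symm
    · exact R.co3.congr e.symm
    · exact R.mcl.congr e.symm
    · exact R.hs.congr e.symm
    · exact R.suz.congr e.symm
    · exact R.he.congr e.symm
    · exact R.ru.congr e.symm
    · exact R.on.congr e.symm
    · exact R.ly.congr e.symm
    · exact R.fi22.congr e.symm
    · exact R.fi23.congr e.symm
    · exact R.fi24.congr e.symm
    · exact R.hn.congr e.symm
    · exact R.th.congr e.symm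
    · exact R.b.congr e.symm
    · exact R.m.congr e.symm

/-- all primes -/
theorem RowsOdd.row (R : RowsOdd) {S : Type u} [Group S] [Finite S] (hnp : ¬ (Nat.card S).Prime)
    (h : IsKnownSimple' S) (h2 : NotMin 2 S ∨ Trip 2 S) : Row S := by
  intro p hp hd
  by_cases hp2 : p = 2
  · subst hp2
    exact h2
  · exact R.of_known hnp h p hp hp2 hd

end Cfsg.Agent.H562.PQR
end

-- part: H973/PQR/PSp
section
/-!
# S3988, the row `PSp_{2m}(q)`, `m ≥ 2` (task 2729, poster helper562)

`SL_2(q^j) → Sp_{2j}(q) → Sp_{2m}(q) → PSp_{2m}(q)`, `2 ≤ j ≤ m`, `p ∣ q^j (q^{2j} - 1)`.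
-/

set_option autoImplicit false

namespace Cfsg.Agent.H973.PQR

open Cfsg Subgroup
open Cfsg.Agent.H562.PQR

universe u

variable {F : Type u} [Field F] {m : ℕ}

/-- `|SL_2(q)| = q (q² - 1)` -/
theorem card_sl_two {K : Type*} [Field K] [Finite K] {q : ℕ} (hq : Nat.card K = q) :
    Nat.card (Matrix.SpecialLinearGroup (Fin 2) K) = q * (q ^ 2 - 1) := by
  have : Fintype K := Fintype.ofFinite K
  have h1 := Cfsg.Agent.S0242.result (F := K) (q := q) (by rw [← Nat.card_eq_fintype_card, hq]) 2 (by norm_num)
  have hq1 : 1 < q := by rw [← hq]; exact Finite.one_lt_card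
  rw [Fin.prod_univ_two] at h1
  simp only [Fin.val_zero, Fin.val_one, pow_zero, pow_one] at h1
  obtain ⟨r, rfl⟩ : ∃ r, q = r + 1 := ⟨q - 1, by omega⟩
  have h2 : (r + 1) ^ 2 - (r + 1) = (r + 1) * r := by
    rw [show (r + 1) ^ 2 = (r + 1) * r + (r + 1) by ring, Nat.add_sub_cancel]
  rw [h2, Nat.add_sub_cancel] at h1
  have h3 : 0 < r := by omega
  apply Nat.eq_of_mul_eq_mul_left h3
  rw [h1]
  ring

/-- the block embedding of `Sp_{2j}(F)` -/
noncomputable def emb (j k : ℕ) : Matrix.symplecticGroup (Fin j) F →* Matrix.symplecticGroup (Fin (j + k)) F :=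
  ((H376.SpEmb.reidx finSumFinEquiv).comp (H376.SpEmb.blk (Fin j) (Fin k))).comp (MonoidHom.inl _ _)

theorem emb_injective (j k : ℕ) : Function.Injective (emb (F := F) j k) := by
  intro x y h
  have h1 := H376.SpEmb.blk_injective _ _ (H376.SpEmb.reidx_injective finSumFinEquiv h)
  exact congrArg Prod.fst h1

variable [Finite F]

/-- the order of `PSp_{2m}(q)` is larger than that of `SL_2(q^j)` -/
theorem card_lt {j : ℕ} (hj : 2 ≤ j) (hjm : j ≤ m) {q : ℕ} (hq : Nat.card F = q) :
    q ^ j * ((q ^ j) ^ 2 - 1) < Nat.card (Cfsg.PSp m F) := by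
  have : Fintype F := Fintype.ofFinite F
  have hF : Fintype.card F = q := by rw [← Nat.card_eq_fintype_card, hq]
  have hq1 : 1 < q := by rw [← hq]; exact Finite.one_lt_card
  have h1 := Cfsg.Agent.S0245.result hF m
  have h2 := Cfsg.Agent.S0246.result hF m (by omega)
  have h3 := Subgroup.card_eq_card_quotient_mul_card_subgroup
    (Subgroup.center (Matrix.symplecticGroup (Fin m) F))
  rw [h1, h2] at h3
  have h4 : Nat.gcd 2 (q - 1) ≤ 2 := Nat.le_of_dvd (by norm_num) (Nat.gcd_dvd_left _ _)
  have h5 : (q ^ 2 - 1) * (q ^ (2 * j) - 1) ≤ ∏ i ∈ Finset.range m, (q ^ (2 * (i + 1)) - 1) := by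
    have hpos : ∀ i ∈ Finset.range m, 1 ≤ q ^ (2 * (i + 1)) - 1 := by
      intro i _
      have : q ^ 1 ≤ q ^ (2 * (i + 1)) := Nat.pow_le_pow_right (by omega) (by omega)
      rw [pow_one] at this
      omega
    have hsub : ({0, j - 1} : Finset ℕ) ⊆ Finset.range m := by
      intro i hi
      rw [Finset.mem_insert, Finset.mem_singleton] at hi
      rw [Finset.mem_range]
      omega
    have h6 := Finset.prod_le_prod_of_subset_of_one_le' (f := fun i => q ^ (2 * (i + 1)) - 1) hsub
      (fun i hi _ => hpos i hi)
    refine le_trans (le_of_eq ?_) h6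
    rw [Finset.prod_pair (by omega)]
    rw [show 2 * (0 + 1) = 2 by rfl, show 2 * (j - 1 + 1) = 2 * j by omega]
  have h6 : q ^ m * q ^ j ≤ q ^ (m ^ 2) := by
    rw [← pow_add]
    apply Nat.pow_le_pow_right (by omega)
    nlinarith only [hj, hjm]
  have h7 : 4 ≤ q ^ 2 := by nlinarith only [hq1]
  have h8 : 4 ≤ q ^ m := by
    calc 4 ≤ q ^ 2 := h7
      _ ≤ q ^ m := Nat.pow_le_pow_right (by omega) (by omega)
  have h9 : 1 ≤ q ^ j := Nat.one_le_pow _ _ (by omega)
  have h10 : 1 ≤ q ^ (2 * j) - 1 := by
    have : q ^ 1 ≤ q ^ (2 * j) := Nat.pow_le_pow_right (by omega) (by omega)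
    rw [pow_one] at this
    omega
  rw [← pow_mul, mul_comm j 2]
  generalize q ^ (2 * j) - 1 = A at *
  generalize q ^ j = B at *
  set N := Nat.card (Cfsg.PSp m F) with hN
  have h11 : (4 * B) * (3 * A) ≤ N * 2 := by
    calc (4 * B) * (3 * A) ≤ (q ^ m * B) * ((q ^ 2 - 1) * A) := by
          apply Nat.mul_le_mul
          · exact Nat.mul_le_mul_right _ h8
          · exact Nat.mul_le_mul_right _ (by omega)
      _ ≤ q ^ (m ^ 2) * ∏ i ∈ Finset.range m, (q ^ (2 * (i + 1)) - 1) := Nat.mul_le_mul h6 h5
      _ = N * Nat.gcd 2 (q - 1) := h3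
      _ ≤ N * 2 := Nat.mul_le_mul_left _ h4
  have h12 : 1 ≤ B * A := Nat.mul_pos h9 h10
  linarith only [h11, h12]

/-- a proper subgroup of `PSp_{2m}(q)` involving `PSL_2(q^j)` -/
theorem notMin_of_dvd {j p : ℕ} (hj : 2 ≤ j) (hjm : j ≤ m) (hp : p.Prime) (hp2 : p ≠ 2)
    (hd : p ∣ Nat.card F ^ j * ((Nat.card F ^ j) ^ 2 - 1)) : NotMin p (Cfsg.PSp m F) := by
  classical
  have : NeZero j := ⟨by omega⟩
  obtain ⟨r, hr⟩ := CharP.exists F
  have : Fact r.Prime := ⟨CharP.char_is_prime F r⟩
  have hKc : Nat.card (FiniteField.Extension F r j) = Nat.card F ^ j := FiniteField.natCard_extension F r j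
  have hK : Finite (FiniteField.Extension F r j) := Nat.finite_of_card_ne_zero (by
    rw [hKc]; exact pow_ne_zero _ Nat.card_pos.ne')
  have hF2 : 2 ≤ Nat.card F := Finite.one_lt_card
  have h4 : 4 ≤ Nat.card (FiniteField.Extension F r j) := by
    rw [hKc]
    calc 4 = 2 ^ 2 := by norm_num
      _ ≤ Nat.card F ^ 2 := Nat.pow_le_pow_left hF2 2
      _ ≤ Nat.card F ^ j := Nat.pow_le_pow_right (by omega) hj
  have hqs := SignalizersComponents.SLQuasisimple.isQuasisimple_two h4
  let b := Module.finBasisOfFinrankEq F (FiniteField.Extension F r j) (FiniteField.finrank_extension F r j)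
  obtain ⟨k, rfl⟩ : ∃ k, m = j + k := ⟨m - j, by omega⟩
  let f0 : Matrix.SpecialLinearGroup (Fin 2) (FiniteField.Extension F r j) →*
      Matrix.symplecticGroup (Fin (j + k)) F := (emb j k).comp (H376.SpEmb.ofSLTwo b)
  have hf0 : Function.Injective f0 := (emb_injective j k).comp (H376.SpEmb.ofSLTwo_injective b)
  let f : Matrix.SpecialLinearGroup (Fin 2) (FiniteField.Extension F r j) →* Cfsg.PSp (j + k) F :=
    (QuotientGroup.mk' (center (Matrix.symplecticGroup (Fin (j + k)) F))).comp f0
  let g := QuotientGroup.mk' (center (Matrix.SpecialLinearGroup (Fin 2) (FiniteField.Extension F r j)))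
  have hs : IsSimpleGroup (Matrix.SpecialLinearGroup (Fin 2) (FiniteField.Extension F r j) ⧸
    center (Matrix.SpecialLinearGroup (Fin 2) (FiniteField.Extension F r j))) := hqs.2
  have hna : ∃ x y : Matrix.SpecialLinearGroup (Fin 2) (FiniteField.Extension F r j) ⧸
      center (Matrix.SpecialLinearGroup (Fin 2) (FiniteField.Extension F r j)), x * y ≠ y * x := by
    by_contra hcon
    push Not at hcon
    have h1 : _root_.commutator (Matrix.SpecialLinearGroup (Fin 2) (FiniteField.Extension F r j)) = ⊤ :=
      hqs.1.commutator_eq_top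
    have h2 : _root_.commutator (Matrix.SpecialLinearGroup (Fin 2) (FiniteField.Extension F r j)) ≤
        center (Matrix.SpecialLinearGroup (Fin 2) (FiniteField.Extension F r j)) := by
      rw [commutator_def, Subgroup.commutator_le]
      intro x _ y _
      rw [← QuotientGroup.eq_one_iff]
      have h3 := hcon (QuotientGroup.mk x) (QuotientGroup.mk y)
      rw [commutatorElement_def]
      change (QuotientGroup.mk x * QuotientGroup.mk y * (QuotientGroup.mk x)⁻¹ * (QuotientGroup.mk y)⁻¹ :
        Matrix.SpecialLinearGroup (Fin 2) (FiniteField.Extension F r j) ⧸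
        center (Matrix.SpecialLinearGroup (Fin 2) (FiniteField.Extension F r j))) = 1
      rw [h3]
      group
    rw [h1, top_le_iff] at h2
    have h3 := hs.exists_pair_ne
    obtain ⟨x, y, hxy⟩ := h3
    apply hxy
    obtain ⟨x', rfl⟩ := QuotientGroup.mk_surjective x
    obtain ⟨y', rfl⟩ := QuotientGroup.mk_surjective y
    have e1 : (QuotientGroup.mk x' : Matrix.SpecialLinearGroup (Fin 2) (FiniteField.Extension F r j) ⧸
        center (Matrix.SpecialLinearGroup (Fin 2) (FiniteField.Extension F r j))) = 1 :=
      (QuotientGroup.eq_one_iff _).2 (h2 ▸ Subgroup.mem_top x')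
    have e2 : (QuotientGroup.mk y' : Matrix.SpecialLinearGroup (Fin 2) (FiniteField.Extension F r j) ⧸
        center (Matrix.SpecialLinearGroup (Fin 2) (FiniteField.Extension F r j))) = 1 :=
      (QuotientGroup.eq_one_iff _).2 (h2 ▸ Subgroup.mem_top y')
    rw [e1, e2]
  have hcS : Nat.card (Matrix.SpecialLinearGroup (Fin 2) (FiniteField.Extension F r j)) =
      Nat.card F ^ j * ((Nat.card F ^ j) ^ 2 - 1) := card_sl_two hKc
  have hpd : p ∣ Nat.card (Matrix.SpecialLinearGroup (Fin 2) (FiniteField.Extension F r j) ⧸
      center (Matrix.SpecialLinearGroup (Fin 2) (FiniteField.Extension F r j))) := by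
    have h1 := Subgroup.card_eq_card_quotient_mul_card_subgroup
      (center (Matrix.SpecialLinearGroup (Fin 2) (FiniteField.Extension F r j)))
    rw [← hcS, h1] at hd
    refine ((Nat.Prime.dvd_mul hp).1 hd).resolve_right fun h2 => hp2 ?_
    have : Fintype (FiniteField.Extension F r j) := Fintype.ofFinite _
    have h3 := Cfsg.Agent.S0242.result (F := FiniteField.Extension F r j) rfl 2 (by norm_num)
    have h4' := Cfsg.Agent.S0243.result (F := FiniteField.Extension F r j) rfl 2 le_rfl
    rw [← h3] at h4'
    have h5 : 0 < Fintype.card (FiniteField.Extension F r j) - 1 := by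
      rw [← Nat.card_eq_fintype_card]; omega
    have h6 : Nat.gcd 2 (Fintype.card (FiniteField.Extension F r j) - 1) *
        Nat.card (Matrix.SpecialLinearGroup (Fin 2) (FiniteField.Extension F r j) ⧸
          center (Matrix.SpecialLinearGroup (Fin 2) (FiniteField.Extension F r j))) =
        Nat.card (Matrix.SpecialLinearGroup (Fin 2) (FiniteField.Extension F r j)) := by
      apply Nat.eq_of_mul_eq_mul_left h5
      rw [← h4']
      change _ = Nat.gcd 2 (Fintype.card (FiniteField.Extension F r j) - 1) *
        ((Fintype.card (FiniteField.Extension F r j) - 1) *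
        Nat.card (Matrix.SpecialLinearGroup (Fin 2) (FiniteField.Extension F r j) ⧸
          center (Matrix.SpecialLinearGroup (Fin 2) (FiniteField.Extension F r j))))
      ring
    rw [h1, mul_comm] at h6
    have h7 : Nat.card (center (Matrix.SpecialLinearGroup (Fin 2) (FiniteField.Extension F r j))) =
        Nat.gcd 2 (Fintype.card (FiniteField.Extension F r j) - 1) :=
      (Nat.eq_of_mul_eq_mul_left Nat.card_pos h6).symm
    rw [h7] at h2
    exact (Nat.prime_dvd_prime_iff_eq hp Nat.prime_two).1 (h2.trans (Nat.gcd_dvd_left _ _))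
  refine NotMin.of_hom_lt hna hp hpd f g (QuotientGroup.mk'_surjective _) ?_ ?_
  · intro x hx
    rw [MonoidHom.mem_ker] at hx ⊢
    have h1 : f0 x ∈ center (Matrix.symplecticGroup (Fin (j + k)) F) := (QuotientGroup.eq_one_iff _).1 hx
    refine (QuotientGroup.eq_one_iff _).2 ?_
    rw [Subgroup.mem_center_iff] at h1 ⊢
    intro y
    apply hf0
    rw [map_mul, map_mul]
    exact h1 (f0 y)
  · rw [hcS]
    exact card_lt hj hjm rfl

/-- **the row `PSp_{2m}(q)`**, `m ≥ 2`: `NotMin p` for every odd prime `p` -/
theorem notMin_psp (hm : 2 ≤ m) {p : ℕ} (hp : p.Prime) (hp2 : p ≠ 2) (hd : p ∣ Nat.card (Cfsg.PSp m F)) :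
    NotMin p (Cfsg.PSp m F) := by
  have : Fintype F := Fintype.ofFinite F
  have hF : Fintype.card F = Nat.card F := by rw [← Nat.card_eq_fintype_card]
  have h1 := Cfsg.Agent.S0245.result hF m
  have h3 := Subgroup.card_eq_card_quotient_mul_card_subgroup
    (Subgroup.center (Matrix.symplecticGroup (Fin m) F))
  have h4 : p ∣ Nat.card (Matrix.symplecticGroup (Fin m) F) := by
    rw [h3]
    exact hd.mul_right _
  rw [h1] at h4
  rcases hp.dvd_mul.1 h4 with h5 | h5
  · exact notMin_of_dvd le_rfl hm hp hp2 ((dvd_pow (hp.dvd_of_dvd_pow h5) (by norm_num)).mul_right _)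
  · obtain ⟨i, hi, h6⟩ := (Prime.dvd_finsetProd_iff hp.prime _).1 h5
    rw [Finset.mem_range] at hi
    rcases Nat.eq_zero_or_pos i with h0 | h0
    · subst h0
      refine notMin_of_dvd le_rfl hm hp hp2 (Dvd.dvd.mul_left (h6.trans ?_) _)
      rw [← pow_mul]
      exact Nat.pow_sub_one_dvd_pow_sub_one _ ⟨2, by norm_num⟩
    · refine notMin_of_dvd (j := i + 1) (by omega) (by omega) hp hp2 (Dvd.dvd.mul_left ?_ _)
      rw [← pow_mul, mul_comm (i + 1) 2]
      exact h6

theorem row_psp (hm : 2 ≤ m) : RowOdd (Cfsg.PSp m F) := fun _ hp hp2 hd => Or.inl (notMin_psp hm hp hp2 hd)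

end Cfsg.Agent.H973.PQR
end

-- part: H759/PQR/Mathieu
section
/-!
# S3988, rows `M11`, `M12`, `M22`, `M23`, `M24` (helper759)

Explicit triples `x y z = 1`, `x` a 2-element, `y` of order 3, `z` a `p`-element for `p = 5, 7, 11, 23`, so the part 3
of the Schur multiplier does not matter.
-/

set_option autoImplicit false

namespace Cfsg.Agent.H759.PQR

open Cfsg Cfsg.Agent.H562.PQR Cfsg.Agent.GH.LowRankMathieu Cfsg.Agent.J4Type.CocodeMask
open Cfsg.Agent.SporadicA.GolayBase
open Cfsg.Agent.SporadicA.GolayPerm hiding pcomp papp_pcomp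
open Cfsg.Agent.H80.Fpf (MultDvd multDvd_of_cyclic)
open scoped Pointwise

theorem sq_eq : Spor.squareDodecad = fin 340831 := by
  apply Finset.ext
  decide +kernel

/-- an element of `M₁₁` with a given table -/
theorem mem_M11 {P : ℕ} (h : (isPerm P && isAut P) = true) (h1 : pimg P 340831 = 340831) (h2 : papp P 0 = 0) :
    ((mk P h : M24) : Equiv.Perm GolayPt) ∈ Spor.M11 := by
  have hP : isPerm P = true := by
    rw [Bool.and_eq_true] at h
    exact h.1
  refine ⟨⟨(mk P h).2, ?_⟩, ?_⟩
  · show _ ∈ MulAction.stabilizer _ _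
    rw [MulAction.mem_stabilizer_iff, sq_eq]
    exact (smul_fin hP 340831).trans (by rw [h1])
  · show _ ∈ MulAction.stabilizer _ _
    rw [MulAction.mem_stabilizer_iff]
    apply idx_injective
    show idx (((mk P h : M24) : Equiv.Perm GolayPt) (some 0)) = idx (some 0)
    rw [isTab_mk P h (some 0), idx_zero, h2]

theorem mem_M23 {P : ℕ} (h : (isPerm P && isAut P) = true) (h1 : papp P 23 = 23) :
    ((mk P h : M24) : Equiv.Perm GolayPt) ∈ Spor.M23 := by
  refine ⟨(mk P h).2, ?_⟩
  show _ ∈ MulAction.stabilizer _ _
  rw [MulAction.mem_stabilizer_iff]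
  apply idx_injective
  show idx (((mk P h : M24) : Equiv.Perm GolayPt) none) = idx none
  rw [isTab_mk P h none, idx_none, h1]

/-- table of a permutation -/
def Tab (g : Equiv.Perm GolayPt) (P : ℕ) : Prop := ∀ p : GolayPt, idx (g p) = papp P (idx p)

theorem Tab.mul {g h : Equiv.Perm GolayPt} {P Q : ℕ} (hg : Tab g P) (hh : Tab h Q) : Tab (g * h) (pcomp P Q) := by
  intro p
  rw [papp_pcomp P Q (idx_lt p), ← hh p, ← hg]
  rfl

theorem tab_one : Tab 1 pone := isTab_one

theorem Tab.eq {g h : Equiv.Perm GolayPt} {P : ℕ} (hg : Tab g P) (hh : Tab h P) : g = h := by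
  apply Equiv.ext
  intro p
  apply idx_injective
  rw [hg, hh]

/-- power of a table -/
def ppow (P : ℕ) : ℕ → ℕ
  | 0 => pone
  | n + 1 => pcomp (ppow P n) P

theorem Tab.pow {g : Equiv.Perm GolayPt} {P : ℕ} (hg : Tab g P) : ∀ n, Tab (g ^ n) (ppow P n)
  | 0 => by rw [pow_zero]; exact tab_one
  | n + 1 => by rw [pow_succ]; exact (hg.pow n).mul hg

theorem Tab.pow_eq_one {g : Equiv.Perm GolayPt} {P : ℕ} (hg : Tab g P) {n : ℕ} (h : ppow P n = pone) : g ^ n = 1 :=
  (hg.pow n).eq (h ▸ tab_one)

theorem Tab.ne_one {g : Equiv.Perm GolayPt} {P : ℕ} (hg : Tab g P) {i : ℕ} (hi : i < 24) (h : papp P i ≠ i) :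
    g ≠ 1 := by
  rintro rfl
  have h1 := hg (pt i)
  have h2 : idx (pt i) = i := by
    have h3 : ∀ j : Fin 24, idx (pt j) = j := by decide +kernel
    exact h3 ⟨i, hi⟩
  rw [Equiv.Perm.one_apply, h2] at h1
  exact h h1.symm

/-- the check of a 2-element `P`, an element `Q` of order 3, `P Q` a `p`-element -/
def chk (p : ℕ) (P Q i l a b c : ℕ) : Bool :=
  Nat.beq (ppow P (2 ^ i)) pone && Nat.beq (ppow Q 3) pone && Nat.beq (ppow (pcomp P Q) (p ^ l)) pone &&
    Nat.blt a 24 && Nat.blt b 24 && Nat.blt c 24 && !Nat.beq (papp P a) a && !Nat.beq (papp Q b) b &&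
    !Nat.beq (papp (pcomp P Q) c) c

theorem trip_of_chk {K : Subgroup (Equiv.Perm GolayPt)} {m : ℕ} (hm : MultDvd K m)
    (hm' : ∀ s : ℕ, s.Prime → s ∣ m → s = 2 ∨ s = 3) {p : ℕ} (hp : p.Prime) (h2 : 2 ≠ p) (h3 : 3 ≠ p) {x y : K}
    {P Q i l a b c : ℕ} (hx : Tab x P) (hy : Tab y Q) (h : chk p P Q i l a b c = true) : TripABC 2 3 p K := by
  unfold chk at h
  simp only [Bool.and_eq_true, Nat.beq_eq, Bool.not_eq_true', Nat.blt_eq] at h
  obtain ⟨⟨⟨⟨⟨⟨⟨⟨e1, e2⟩, e3⟩, ha⟩, hb⟩, hc⟩, na⟩, nb⟩, nc⟩ := h
  have ne : ∀ {u v : ℕ}, Nat.beq u v = false → u ≠ v := by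
    intro u v huv h
    rw [h, Nat.beq_refl] at huv
    exact absurd huv (by decide)
  have key : ∀ {q : ℕ} (_ : q.Prime) {z : K} {R n t : ℕ} (_ : Tab z R) (_ : ppow R (q ^ n) = pone) (_ : t < 24)
      (_ : papp R t ≠ t), PE q z := by
    intro q hq z R n t hz h1 ht h2
    refine ⟨fun h => hz.ne_one ht h2 (congrArg Subtype.val h), ?_⟩
    have h4 : z ^ q ^ n = 1 := Subtype.ext (hz.pow_eq_one h1)
    obtain ⟨j, -, hj⟩ := (Nat.dvd_prime_pow hq).1 (orderOf_dvd_of_pow_eq_one h4)
    exact ⟨j, hj⟩
  have hxy : Tab ((x * y : K) : Equiv.Perm GolayPt) (pcomp P Q) := hx.mul hy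
  refine TripABC.of_mult hm (fun s hs h => ?_) Nat.prime_two Nat.prime_three hp (by norm_num) h2 h3
    (key Nat.prime_two hx e1 ha (ne na)) (key Nat.prime_three (n := 1) hy e2 hb (ne nb))
    (key hp hxy e3 hc (ne nc)).inv (mul_inv_cancel (x * y))
  rcases hm' s hs h with h | h
  · exact Or.inl h
  · exact Or.inr (Or.inr (Or.inl h))

theorem not_prime_dvd_one {s : ℕ} (hs : s.Prime) (h : s ∣ 1) : s = 2 ∨ s = 3 :=
  absurd (Nat.dvd_one.1 h) hs.one_lt.ne'

/-! ### the data -/

def X5 : ℕ := 858744987557589030038763264015616032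
def Y5 : ℕ := 965387327213236783394459070686642464
def X11 : ℕ := 297889904300481246071970080215042624
def Y11 : ℕ := 594828054250596267137404573885665792

theorem okX5 : (isPerm X5 && isAut X5) = true := by decide +kernel
theorem okY5 : (isPerm Y5 && isAut Y5) = true := by decide +kernel
theorem okX11 : (isPerm X11 && isAut X11) = true := by decide +kernel
theorem okY11 : (isPerm Y11 && isAut Y11) = true := by decide +kernel

def A5 : ℕ := 983221043813328426561100639796244704
def B5 : ℕ := 984347974429069799681770055641712224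
def A7 : ℕ := 982939542848543621274871607542748768
def B7 : ℕ := 984804888171720684873816987742028256
def A11 : ℕ := 969970289749353299053877192376633408
def B11 : ℕ := 960073669110977755758225290057788640
def A23 : ℕ := 971264208093517430473990687215272961
def B23 : ℕ := 969280404778191350925093766198402086

theorem okA5 : (isPerm A5 && isAut A5) = true := by decide +kernel
theorem okB5 : (isPerm B5 && isAut B5) = true := by decide +kernel
theorem okA7 : (isPerm A7 && isAut A7) = true := by decide +kernel
theorem okB7 : (isPerm B7 && isAut B7) = true := by decide +kernel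
theorem okA11 : (isPerm A11 && isAut A11) = true := by decide +kernel
theorem okB11 : (isPerm B11 && isAut B11) = true := by decide +kernel
theorem okA23 : (isPerm A23 && isAut A23) = true := by decide +kernel
theorem okB23 : (isPerm B23 && isAut B23) = true := by decide +kernel

theorem c5 : chk 5 X5 Y5 3 1 2 1 1 = true := by decide +kernel
theorem c11 : chk 11 X11 Y11 3 1 1 1 1 = true := by decide +kernel
theorem d5 : chk 5 A5 B5 2 1 1 1 1 = true := by decide +kernel
theorem d7 : chk 7 A7 B7 3 1 1 1 2 = true := by decide +kernel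
theorem d11 : chk 11 A11 B11 2 1 1 1 1 = true := by decide +kernel
theorem d23 : chk 23 A23 B23 3 1 0 0 0 = true := by decide +kernel

/-! ### the rows -/

section General

variable {K : Subgroup (Equiv.Perm GolayPt)} {m : ℕ}

theorem trip_three {p : ℕ} (h : TripABC 2 3 p K) : Trip 3 K := ⟨2, 3, p, Or.inr (Or.inl rfl), Or.inl rfl, h⟩

theorem trip_self {p : ℕ} (h : TripABC 2 3 p K) : Trip p K := ⟨2, 3, p, Or.inr (Or.inr rfl), Or.inl rfl, h⟩

theorem small (hm : MultDvd K m) (hm' : ∀ s : ℕ, s.Prime → s ∣ m → s = 2 ∨ s = 3) (hK : Spor.M11 ≤ K) :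
    TripABC 2 3 5 K ∧ TripABC 2 3 11 K := by
  constructor
  · exact trip_of_chk hm hm' (by norm_num) (by norm_num) (by norm_num)
      (x := ⟨_, hK (mem_M11 okX5 (by decide +kernel) (by decide +kernel))⟩)
      (y := ⟨_, hK (mem_M11 okY5 (by decide +kernel) (by decide +kernel))⟩) (isTab_mk _ okX5) (isTab_mk _ okY5) c5
  · exact trip_of_chk hm hm' (by norm_num) (by norm_num) (by norm_num)
      (x := ⟨_, hK (mem_M11 okX11 (by decide +kernel) (by decide +kernel))⟩)
      (y := ⟨_, hK (mem_M11 okY11 (by decide +kernel) (by decide +kernel))⟩) (isTab_mk _ okX11) (isTab_mk _ okY11) c11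

theorem large (hm : MultDvd K m) (hm' : ∀ s : ℕ, s.Prime → s ∣ m → s = 2 ∨ s = 3) (hK : Spor.M22 ≤ K) :
    TripABC 2 3 5 K ∧ TripABC 2 3 7 K ∧ TripABC 2 3 11 K := by
  refine ⟨?_, ?_, ?_⟩
  · exact trip_of_chk hm hm' (by norm_num) (by norm_num) (by norm_num)
      (x := ⟨_, hK (mem_M22 okA5 (by decide +kernel) (by decide +kernel))⟩)
      (y := ⟨_, hK (mem_M22 okB5 (by decide +kernel) (by decide +kernel))⟩) (isTab_mk _ okA5) (isTab_mk _ okB5) d5
  · exact trip_of_chk hm hm' (by norm_num) (by norm_num) (by norm_num)
      (x := ⟨_, hK (mem_M22 okA7 (by decide +kernel) (by decide +kernel))⟩)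
      (y := ⟨_, hK (mem_M22 okB7 (by decide +kernel) (by decide +kernel))⟩) (isTab_mk _ okA7) (isTab_mk _ okB7) d7
  · exact trip_of_chk hm hm' (by norm_num) (by norm_num) (by norm_num)
      (x := ⟨_, hK (mem_M22 okA11 (by decide +kernel) (by decide +kernel))⟩)
      (y := ⟨_, hK (mem_M22 okB11 (by decide +kernel) (by decide +kernel))⟩) (isTab_mk _ okA11) (isTab_mk _ okB11) d11

theorem large23 (hm : MultDvd K m) (hm' : ∀ s : ℕ, s.Prime → s ∣ m → s = 2 ∨ s = 3) (hK : Spor.M23 ≤ K) :
    TripABC 2 3 23 K :=
  trip_of_chk hm hm' (by norm_num) (by norm_num) (by norm_num)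
      (x := ⟨_, hK (mem_M23 okA23 (by decide +kernel))⟩)
      (y := ⟨_, hK (mem_M23 okB23 (by decide +kernel))⟩) (isTab_mk _ okA23) (isTab_mk _ okB23) d23

end General

theorem p_m12 {p : ℕ} (hp : p.Prime) (h2 : p ≠ 2) (h : p ∣ 95040) : p = 3 ∨ p = 5 ∨ p = 11 := by
  have h1 : (95040 : ℕ) = 2 ^ 6 * (3 ^ 3 * (5 * 11)) := by norm_num
  rw [h1] at h
  rcases hp.dvd_mul.1 h with h | h
  · exact absurd ((Nat.prime_dvd_prime_iff_eq hp Nat.prime_two).1 (hp.dvd_of_dvd_pow h)) h2
  rcases hp.dvd_mul.1 h with h | h
  · exact Or.inl ((Nat.prime_dvd_prime_iff_eq hp Nat.prime_three).1 (hp.dvd_of_dvd_pow h))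
  rcases hp.dvd_mul.1 h with h | h
  · exact Or.inr (Or.inl ((Nat.prime_dvd_prime_iff_eq hp (by norm_num)).1 h))
  · exact Or.inr (Or.inr ((Nat.prime_dvd_prime_iff_eq hp (by norm_num)).1 h))

theorem p_m24 {p : ℕ} (hp : p.Prime) (h2 : p ≠ 2) (h : p ∣ 244823040) : p = 3 ∨ p = 5 ∨ p = 7 ∨ p = 11 ∨ p = 23 := by
  have h1 : (244823040 : ℕ) = 2 ^ 10 * (3 ^ 3 * (5 * (7 * (11 * 23)))) := by norm_num
  rw [h1] at h
  rcases hp.dvd_mul.1 h with h | h
  · exact absurd ((Nat.prime_dvd_prime_iff_eq hp Nat.prime_two).1 (hp.dvd_of_dvd_pow h)) h2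
  rcases hp.dvd_mul.1 h with h | h
  · exact Or.inl ((Nat.prime_dvd_prime_iff_eq hp Nat.prime_three).1 (hp.dvd_of_dvd_pow h))
  rcases hp.dvd_mul.1 h with h | h
  · exact Or.inr (Or.inl ((Nat.prime_dvd_prime_iff_eq hp (by norm_num)).1 h))
  rcases hp.dvd_mul.1 h with h | h
  · exact Or.inr (Or.inr (Or.inl ((Nat.prime_dvd_prime_iff_eq hp (by norm_num)).1 h)))
  rcases hp.dvd_mul.1 h with h | h
  · exact Or.inr (Or.inr (Or.inr (Or.inl ((Nat.prime_dvd_prime_iff_eq hp (by norm_num)).1 h))))
  · exact Or.inr (Or.inr (Or.inr (Or.inr ((Nat.prime_dvd_prime_iff_eq hp (by norm_num)).1 h))))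

theorem p_m22 {p : ℕ} (hp : p.Prime) (h2 : p ≠ 2) (h : p ∣ 443520) : p = 3 ∨ p = 5 ∨ p = 7 ∨ p = 11 := by
  rcases p_m24 hp h2 (h.trans (by norm_num)) with h1 | h1 | h1 | h1 | h1
  · exact Or.inl h1
  · exact Or.inr (Or.inl h1)
  · exact Or.inr (Or.inr (Or.inl h1))
  · exact Or.inr (Or.inr (Or.inr h1))
  · subst h1
    norm_num at h

/-- `M11` -/
theorem row_M11 : RowOdd Spor.M11 := by
  intro p hp h2 hd
  rw [Cfsg.Agent.FooteOdd.SporMEleven.card] at hd
  have hs := small (multDvd_of_cyclic one_ne_zero Cfsg.Agent.S2034.result) (fun s hs h => not_prime_dvd_one hs h)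
    (le_refl Spor.M11)
  rcases p_m12 hp h2 (hd.trans (by norm_num)) with rfl | rfl | rfl
  · exact Or.inr (trip_three hs.1)
  · exact Or.inr (trip_self hs.1)
  · exact Or.inr (trip_self hs.2)

/-- `M12` -/
theorem row_M12 : RowOdd Spor.M12 := by
  intro p hp h2 hd
  rw [Cfsg.Agent.MTwelveType.SylowModel.card_M12] at hd
  have hs := small (K := Spor.M12) (multDvd_of_cyclic two_ne_zero Cfsg.Agent.S2035.result)
    (fun s hs h => Or.inl ((Nat.prime_dvd_prime_iff_eq hs Nat.prime_two).1 h)) (fun _ h => h.1)
  rcases p_m12 hp h2 hd with rfl | rfl | rfl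
  · exact Or.inr (trip_three hs.1)
  · exact Or.inr (trip_self hs.1)
  · exact Or.inr (trip_self hs.2)

theorem dvd_twelve {s : ℕ} (hs : s.Prime) (h : s ∣ 12) : s = 2 ∨ s = 3 := by
  have h1 : (12 : ℕ) = 2 ^ 2 * 3 := by norm_num
  rw [h1] at h
  rcases hs.dvd_mul.1 h with h | h
  · exact Or.inl ((Nat.prime_dvd_prime_iff_eq hs Nat.prime_two).1 (hs.dvd_of_dvd_pow h))
  · exact Or.inr ((Nat.prime_dvd_prime_iff_eq hs Nat.prime_three).1 h)

/-- `M22` -/
theorem row_M22 : RowOdd Spor.M22 := by
  intro p hp h2 hd
  rw [Cfsg.Agent.SporadicA.MathieuRecog.card_M22] at hd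
  have hs := large (K := Spor.M22) (multDvd_of_cyclic (by norm_num) Cfsg.Agent.S2036.result)
    (fun s hs h => dvd_twelve hs h) le_rfl
  rcases p_m22 hp h2 hd with rfl | rfl | rfl | rfl
  · exact Or.inr (trip_three hs.1)
  · exact Or.inr (trip_self hs.1)
  · exact Or.inr (trip_self hs.2.1)
  · exact Or.inr (trip_self hs.2.2)

/-- `M23` -/
theorem row_M23 : RowOdd Spor.M23 := by
  intro p hp h2 hd
  rw [Cfsg.Agent.SporadicA.MathieuRecog.card_M23] at hd
  have hs := large (K := Spor.M23) (multDvd_of_cyclic one_ne_zero Cfsg.Agent.S2037.result)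
    (fun s hs h => not_prime_dvd_one hs h) (fun _ h => h.1)
  have ht := large23 (K := Spor.M23) (multDvd_of_cyclic one_ne_zero Cfsg.Agent.S2037.result)
    (fun s hs h => not_prime_dvd_one hs h) le_rfl
  rcases p_m24 hp h2 (hd.trans (by norm_num)) with rfl | rfl | rfl | rfl | rfl
  · exact Or.inr (trip_three hs.1)
  · exact Or.inr (trip_self hs.1)
  · exact Or.inr (trip_self hs.2.1)
  · exact Or.inr (trip_self hs.2.2)
  · exact Or.inr (trip_self ht)

/-- `M24` -/
theorem row_M24 : RowOdd M24 := by
  intro p hp h2 hd
  rw [Cfsg.Agent.S0364.result] at hd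
  have hs := large (K := M24) (multDvd_of_cyclic one_ne_zero Cfsg.Agent.S2038.result)
    (fun s hs h => not_prime_dvd_one hs h) (fun _ h => h.1.1)
  have ht := large23 (K := M24) (multDvd_of_cyclic one_ne_zero Cfsg.Agent.S2038.result)
    (fun s hs h => not_prime_dvd_one hs h) (fun _ h => h.1)
  rcases p_m24 hp h2 hd with rfl | rfl | rfl | rfl | rfl
  · exact Or.inr (trip_three hs.1)
  · exact Or.inr (trip_self hs.1)
  · exact Or.inr (trip_self hs.2.1)
  · exact Or.inr (trip_self hs.2.2)
  · exact Or.inr (trip_self ht)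

end Cfsg.Agent.H759.PQR
end

-- part: H984/PQR/Tool
section
/-!
# Triples of prime power orders from words (helper984, for S3988)
-/

set_option autoImplicit false

namespace Cfsg.Agent.H984.PQR

open Cfsg.Agent.H80.Fpf (IsCover MultDvd)
open Cfsg.Agent.H562.PQR

universe v

/-- `x ^ a ^ i = 1`, `x ≠ 1` -/
theorem pe_of_pow {a i : ℕ} (ha : a.Prime) {G : Type v} [Group G] {x : G} (h1 : x ≠ 1) (h : x ^ a ^ i = 1) : PE a x := by
  obtain ⟨k, -, hk⟩ := (Nat.dvd_prime_pow ha).1 (orderOf_dvd_of_pow_eq_one h)
  exact ⟨h1, k, hk⟩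

/-- two elements of coprime prime power orders with product of prime power order, one of them nontrivial -/
theorem trip_of_pow {S : Type v} [Group S] {a b c i j k m : ℕ} (hm : MultDvd S m)
    (hm' : ∀ s : ℕ, s.Prime → s ∣ m → s = 2 ∨ s = a ∨ s = b ∨ s = c)
    (ha : a.Prime) (hb : b.Prime) (hc : c.Prime) (hab : a ≠ b) (hac : a ≠ c) (hbc : b ≠ c) {x y : S}
    (hx : x ^ a ^ i = 1) (hy : y ^ b ^ j = 1) (hz : (x * y) ^ c ^ k = 1) (hne : x ≠ 1) : TripABC a b c S := by
  have cop : ∀ {p q r s : ℕ}, p.Prime → q.Prime → p ≠ q → ∀ {u : S}, u ^ p ^ r = 1 → u ^ q ^ s = 1 → u = 1 := by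
    intro p q r s hp hq hpq u h1 h2
    have h3 : orderOf u ∣ 1 := by
      have h4 : Nat.Coprime (p ^ r) (q ^ s) := Nat.Coprime.pow _ _ ((Nat.coprime_primes hp hq).2 hpq)
      rw [← h4.gcd_eq_one]
      exact Nat.dvd_gcd (orderOf_dvd_of_pow_eq_one h1) (orderOf_dvd_of_pow_eq_one h2)
    exact orderOf_eq_one_iff.1 (Nat.dvd_one.1 h3)
  have hy1 : y ≠ 1 := by
    rintro rfl
    rw [mul_one] at hz
    exact hne (cop ha hc hac hx hz)
  have hz1 : x * y ≠ 1 := by
    intro h
    have h1 : y = x⁻¹ := eq_inv_of_mul_eq_one_right h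
    rw [h1, inv_pow, inv_eq_one] at hy
    exact hne (cop ha hb hab hx hy)
  exact TripABC.of_mult hm hm' ha hb hc hab hac hbc (x := x) (y := y) (z := (x * y)⁻¹) (pe_of_pow ha hne hx)
    (pe_of_pow hb hy1 hy) (PE.inv (pe_of_pow hc hz1 hz)) (mul_inv_cancel _)

end Cfsg.Agent.H984.PQR
end

-- part: H796/PQR/JFourWords
section
/-!
# S3988: triples of the fourth Janko group (helper796)

Products of an involution and an element of order 3 of order 29, 31, 37, 43 in `J4`, checked in the 112-dimensional
representation over `GF(2)`.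
-/

set_option autoImplicit false
set_option maxRecDepth 20000

namespace Cfsg.Agent.H796.PQR.JFourWords

open Cfsg.Agent.Lib.F2MatGroup Cfsg.Agent.J4.Rep112 Cfsg.Agent.J4.Final

/-- the straight line program -/
def ws : List (List ℕ) := [
  [2, 3, 0, 1, 0, 3, 1], [4, 0], [4, 5, 3, 5, 3, 5, 4, 5, 3], [3, 0], [5, 4, 6, 7, 5, 7, 5, 4, 6], [5, 0],
  [8, 6, 9, 8, 9, 7, 9, 7, 9, 6, 7], [7, 0]]

/-- the relations -/
def es : List (List ℕ × List ℕ) := [([8, 8], []), ([11, 11], []), ([1, 1, 1], []), ([3, 3, 3], []), ([5, 5, 5], []),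
  ([7, 7, 7], []), ([0], [8, 1]), ([2], [8, 3]), ([4], [8, 5]), ([6], [11, 7]),
  (List.replicate 43 0, []), (List.replicate 29 2, []), (List.replicate 31 4, []), (List.replicate 37 6, [])]

/-- the inequalities -/
def ns : List (List ℕ × List ℕ) := [([8], []), ([11], []), ([1], []), ([3], []), ([5], []), ([7], []), ([0], []),
  ([2], []), ([4], []), ([6], [])]

theorem chk : check 112 codes ws es ns = true := by decide +kernel

theorem facts : (∀ p ∈ es, evG (runG ws gens) p.1 = evG (runG ws gens) p.2) ∧
    (∀ p ∈ ns, evG (runG ws gens) p.1 ≠ evG (runG ws gens) p.2) := by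
  have h := check_sound (by norm_num) codes_gens chk
  rw [runG_map] at h
  simp only [evG_map] at h
  exact ⟨fun p hp => rho_injective (h.1 p hp), fun p hp h0 => h.2 p hp (congrArg rho h0)⟩

theorem evG_replicate {G : Type*} [Group G] (L : List G) (i : ℕ) (n : ℕ) :
    evG L (List.replicate n i) = getG L i ^ n := by
  induction n with
  | zero => rw [List.replicate_zero, evG_nil, pow_zero]
  | succ n ih => rw [List.replicate_succ, evG_cons, ih, pow_succ']

/-- **J4 has `(2,3,p)`-triples for `p = 29, 31, 37, 43`** -/
theorem exists_triple {p : ℕ} (hp : p = 29 ∨ p = 31 ∨ p = 37 ∨ p = 43) :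
    ∃ a b : Cfsg.Spor.J4, a * a = 1 ∧ a ≠ 1 ∧ b ^ 3 = 1 ∧ b ≠ 1 ∧ (a * b) ^ p = 1 ∧ a * b ≠ 1 := by
  obtain ⟨he, hn⟩ := facts
  generalize runG ws gens = L at he hn
  have one : ∀ i : ℕ, evG L [i] = getG L i := fun i => by rw [evG_cons, evG_nil, mul_one]
  have e8 := he ([8, 8], []) (by simp only [es, _root_.List.reduceReplicate, _root_.List.mem_cons, _root_.Prod.mk.injEq, _root_.List.cons.injEq, _root_.Nat.reduceEqDiff, _root_.and_true, _root_.and_self, _root_.OfNat.ofNat_ne_one, _root_.List.ne_cons_self, _root_.Nat.succ_ne_self, _root_.OfNat.ofNat_ne_zero, _root_.List.cons_ne_self, _root_.List.nil_eq, _root_.reduceCtorEq, _root_.List.not_mem_nil, _root_.or_self, _root_.or_false])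
  have e11 := he ([11, 11], []) (by simp [es])
  have e1 := he ([1, 1, 1], []) (by simp only [es, _root_.List.reduceReplicate, _root_.List.mem_cons, _root_.Prod.mk.injEq, _root_.List.cons.injEq, _root_.OfNat.one_ne_ofNat, _root_.List.cons_ne_self, _root_.and_self, _root_.and_true, _root_.one_ne_zero, _root_.reduceCtorEq, _root_.List.nil_eq, _root_.List.not_mem_nil, _root_.or_self, _root_.or_false, _root_.or_true])
  have e3 := he ([3, 3, 3], []) (by simp [es])
  have e5 := he ([5, 5, 5], []) (by simp only [es, _root_.List.reduceReplicate, _root_.List.mem_cons, _root_.Prod.mk.injEq, _root_.List.cons.injEq, _root_.Nat.reduceEqDiff, _root_.List.cons_ne_self, _root_.and_self, _root_.and_true, _root_.OfNat.ofNat_ne_one, _root_.OfNat.ofNat_ne_zero, _root_.reduceCtorEq, _root_.List.nil_eq, _root_.Nat.succ_ne_self, _root_.List.not_mem_nil, _root_.or_self, _root_.or_false, _root_.or_true])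
  have e7 := he ([7, 7, 7], []) (by simp only [es, _root_.List.reduceReplicate, _root_.List.mem_cons, _root_.Prod.mk.injEq, _root_.List.cons.injEq, _root_.Nat.reduceEqDiff, _root_.List.cons_ne_self, _root_.and_self, _root_.and_true, _root_.OfNat.ofNat_ne_one, _root_.OfNat.ofNat_ne_zero, _root_.reduceCtorEq, _root_.List.nil_eq, _root_.Nat.succ_ne_self, _root_.List.not_mem_nil, _root_.or_self, _root_.or_false, _root_.or_true])
  have p43 := he ([0], [8, 1]) (by simp [es])
  have p29 := he ([2], [8, 3]) (by simp [es])
  have p31 := he ([4], [8, 5]) (by simp [es])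
  have p37 := he ([6], [11, 7]) (by simp [es])
  have q43 := he (List.replicate 43 0, []) (by simp only [es, _root_.List.reduceReplicate, _root_.List.mem_cons, _root_.Prod.mk.injEq, _root_.List.cons.injEq, _root_.OfNat.zero_ne_ofNat, _root_.reduceCtorEq, _root_.and_self, _root_.and_true, _root_.zero_ne_one, _root_.and_false, _root_.List.nil_eq, _root_.List.not_mem_nil, _root_.or_self, _root_.or_false, _root_.or_true])
  have q29 := he (List.replicate 29 2, []) (by simp only [es, _root_.List.reduceReplicate, _root_.List.mem_cons, _root_.Prod.mk.injEq, _root_.List.cons.injEq, _root_.Nat.reduceEqDiff, _root_.reduceCtorEq, _root_.and_self, _root_.and_true, _root_.OfNat.ofNat_ne_one, _root_.OfNat.ofNat_ne_zero, _root_.List.nil_eq, _root_.and_false, _root_.List.not_mem_nil, _root_.or_self, _root_.or_false, _root_.or_true])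
  have q31 := he (List.replicate 31 4, []) (by simp only [es, _root_.List.reduceReplicate, _root_.List.mem_cons, _root_.Prod.mk.injEq, _root_.List.cons.injEq, _root_.Nat.reduceEqDiff, _root_.reduceCtorEq, _root_.and_self, _root_.and_true, _root_.OfNat.ofNat_ne_one, _root_.Nat.succ_ne_self, _root_.OfNat.ofNat_ne_zero, _root_.List.nil_eq, _root_.and_false, _root_.List.not_mem_nil, _root_.or_self, _root_.or_false, _root_.or_true])
  have q37 := he (List.replicate 37 6, []) (by simp only [es, _root_.List.reduceReplicate, _root_.List.mem_cons, _root_.Prod.mk.injEq, _root_.List.cons.injEq, _root_.Nat.reduceEqDiff, _root_.reduceCtorEq, _root_.and_self, _root_.and_true, _root_.OfNat.ofNat_ne_one, _root_.Nat.succ_ne_self, _root_.OfNat.ofNat_ne_zero, _root_.List.nil_eq, _root_.and_false, _root_.List.not_mem_nil, _root_.or_false, _root_.or_true])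
  have n8 := hn ([8], []) (by simp [ns])
  have n11 := hn ([11], []) (by simp [ns])
  have n1 := hn ([1], []) (by simp [ns])
  have n3 := hn ([3], []) (by simp [ns])
  have n5 := hn ([5], []) (by simp [ns])
  have n7 := hn ([7], []) (by simp [ns])
  have n0 := hn ([0], []) (by simp [ns])
  have n2 := hn ([2], []) (by simp [ns])
  have n4 := hn ([4], []) (by simp [ns])
  have n6 := hn ([6], []) (by simp [ns])
  dsimp only at e8 e11 e1 e3 e5 e7 p43 p29 p31 p37 q43 q29 q31 q37 n8 n11 n1 n3 n5 n7 n0 n2 n4 n6
  rw [evG_replicate, evG_nil] at q43 q29 q31 q37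
  simp only [evG_cons, evG_nil, mul_one] at e8 e11 e1 e3 e5 e7 p43 p29 p31 p37 n8 n11 n1 n3 n5 n7 n0 n2 n4 n6
  have cube : ∀ g : Cfsg.Spor.J4, g * (g * g) = 1 → g ^ 3 = 1 := fun g hg => by
    rw [pow_succ', pow_two]; exact hg
  rcases hp with rfl | rfl | rfl | rfl
  · exact ⟨_, _, e8, n8, cube _ e3, n3, by rw [← p29]; exact q29, by rw [← p29]; exact n2⟩
  · exact ⟨_, _, e8, n8, cube _ e5, n5, by rw [← p31]; exact q31, by rw [← p31]; exact n4⟩
  · exact ⟨_, _, e11, n11, cube _ e7, n7, by rw [← p37]; exact q37, by rw [← p37]; exact n6⟩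
  · exact ⟨_, _, e8, n8, cube _ e1, n1, by rw [← p43]; exact q43, by rw [← p43]; exact n0⟩

end Cfsg.Agent.H796.PQR.JFourWords
end

-- part: H796/PQR/RowJFour
section
/-!
# S3988: the row of the fourth Janko group (helper796)

`M24 ≤ J4` for `p = 3, 5, 7, 11, 23`, triples `(2, 3, p)` for `p = 29, 31, 37, 43`.
-/

set_option autoImplicit false

namespace Cfsg.Agent.H796.PQR.RowJFour

open Cfsg.Agent.H562.PQR
open Cfsg.Agent.J4.M24Hom Cfsg.Agent.J4.Rep112

theorem primes {p : ℕ} (hp : p.Prime) (h : p ∣ 86775571046077562880) :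
    p = 2 ∨ p = 3 ∨ p = 5 ∨ p = 7 ∨ p = 11 ∨ p = 23 ∨ p = 29 ∨ p = 31 ∨ p = 37 ∨ p = 43 := by
  have h1 : (86775571046077562880 : ℕ) = 2 ^ 21 * 3 ^ 3 * 5 * 7 * 11 ^ 3 * 23 * 29 * 31 * 37 * 43 := by norm_num
  rw [h1] at h
  have key : ∀ q : ℕ, q.Prime → p ∣ q → p = q := fun q hq hpq => (Nat.prime_dvd_prime_iff_eq hp hq).1 hpq
  rcases (Nat.Prime.dvd_mul hp).1 h with h | h
  · rcases (Nat.Prime.dvd_mul hp).1 h with h | h
    · rcases (Nat.Prime.dvd_mul hp).1 h with h | h
      · rcases (Nat.Prime.dvd_mul hp).1 h with h | h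
        · rcases (Nat.Prime.dvd_mul hp).1 h with h | h
          · rcases (Nat.Prime.dvd_mul hp).1 h with h | h
            · rcases (Nat.Prime.dvd_mul hp).1 h with h | h
              · rcases (Nat.Prime.dvd_mul hp).1 h with h | h
                · rcases (Nat.Prime.dvd_mul hp).1 h with h | h
                  · exact Or.inl (key 2 (by norm_num) (hp.dvd_of_dvd_pow h))
                  · exact Or.inr (Or.inl (key 3 (by norm_num) (hp.dvd_of_dvd_pow h)))
                · have := key 5 (by norm_num) h; omega
              · have := key 7 (by norm_num) h; omega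
            · have := key 11 (by norm_num) (hp.dvd_of_dvd_pow h); omega
          · have := key 23 (by norm_num) h; omega
        · have := key 29 (by norm_num) h; omega
      · have := key 31 (by norm_num) h; omega
    · have := key 37 (by norm_num) h; omega
  · have := key 43 (by norm_num) h; omega

theorem card : Nat.card Cfsg.Spor.J4 = 86775571046077562880 := Cfsg.Agent.J4.Final.card_J4

/-- **the row `J4`** -/
theorem row_J4 : RowOdd Cfsg.Spor.J4 := by
  intro p hp hp2 hd
  rw [card] at hd
  have hfin : Finite Cfsg.Spor.J4 := Nat.finite_of_card_ne_zero (by rw [card]; norm_num)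
  have hF : Fact p.Prime := ⟨hp⟩
  have small : p ∣ 244823040 → NotMin p Cfsg.Spor.J4 := by
    intro h24
    have hs : IsSimpleGroup Cfsg.M24 := Cfsg.Agent.S0365.result
    have hc : Nat.card Cfsg.M24 = 244823040 := Cfsg.Agent.S0364.result
    obtain ⟨φ, hX, hY⟩ := exists_hom Cfsg.Agent.J4.Pres.rels_xy
    have hxy : Cfsg.Agent.J4.Rep112.x ≠ 1 := fun h => by
      have h1 := Cfsg.Agent.J4.Lower.xg_ne
      rw [h] at h1
      exact h1 (map_one _)
    have hinj : Function.Injective φ := by
      rw [← MonoidHom.ker_eq_bot_iff]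
      rcases (MonoidHom.normal_ker φ).eq_bot_or_eq_top with h1 | h1
      · exact h1
      · exfalso
        apply hxy
        rw [← hX]
        have : XM ∈ φ.ker := by rw [h1]; trivial
        exact this
    have hna : ∃ a b : Cfsg.M24, a * b ≠ b * a := by
      by_contra hcon
      push Not at hcon
      have hcomm : ∀ a b : Cfsg.M24, a * b = b * a := hcon
      let _ : CommGroup Cfsg.M24 := { (inferInstance : Group Cfsg.M24) with mul_comm := hcomm }
      have h1 := IsSimpleGroup.prime_card (α := Cfsg.M24)
      rw [hc] at h1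
      norm_num at h1
    refine NotMin.of_injective φ hinj (not_isPSolvable_of_simple hna hp (by rw [hc]; exact h24)) ?_
    rw [hc, card]
    norm_num
  have big : (p = 29 ∨ p = 31 ∨ p = 37 ∨ p = 43) → Trip p Cfsg.Spor.J4 := by
    intro h
    obtain ⟨a, b, ha, ha1, hb, hb1, hab, hab1⟩ := JFourWords.exists_triple h
    refine ⟨2, 3, p, Or.inr (Or.inr rfl), Or.inl rfl, ?_⟩
    have ha2 : orderOf a = 2 := orderOf_eq_prime (by rw [pow_two]; exact ha) ha1
    have hb3 : orderOf b = 3 := orderOf_eq_prime hb hb1
    have hc1 : orderOf (a * b) = p := orderOf_eq_prime hab hab1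
    refine TripABC.of_mult (H80.Fpf.multDvd_of_cyclic one_ne_zero Cfsg.Agent.S2042.result)
      (fun s hs h1 => absurd (Nat.dvd_one.1 h1) hs.one_lt.ne') Nat.prime_two Nat.prime_three hp (by norm_num)
      (by rintro rfl; omega) (by rintro rfl; omega)
      (PE.of_orderOf Nat.prime_two ha2) (PE.of_orderOf Nat.prime_three hb3) (PE.of_orderOf hp hc1).inv ?_
    rw [mul_inv_cancel]
  rcases primes hp hd with rfl | rfl | rfl | rfl | rfl | rfl | h
  · exact absurd rfl hp2
  · exact Or.inl (small (by norm_num))
  · exact Or.inl (small (by norm_num))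
  · exact Or.inl (small (by norm_num))
  · exact Or.inl (small (by norm_num))
  · exact Or.inl (small (by norm_num))
  · exact Or.inr (big h)

end Cfsg.Agent.H796.PQR.RowJFour
end

-- part: H536/PQR/Tools
section
/-!
# S3988: tools for the sporadic rows (helper536)

`trip_mul` : a triple from `x`, `y`, `x * y`. `pe_of_order`, `pe_of_pow` : elements of prime power order.
`row_of` : the odd primes dividing `|S|` from a factorization.
-/

set_option autoImplicit false

namespace Cfsg.Agent.H536.PQR

open Cfsg Cfsg.Agent.H562.PQR Cfsg.Agent.H80.Fpf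

universe u

/-- a triple from `x`, `y` and `x * y` -/
theorem trip_mul {S : Type u} [Group S] {a b c m : ℕ} (hm : MultDvd S m)
    (hm' : ∀ s : ℕ, s.Prime → s ∣ m → s = 2 ∨ s = a ∨ s = b ∨ s = c)
    (ha : a.Prime) (hb : b.Prime) (hc : c.Prime) (hab : a ≠ b) (hac : a ≠ c) (hbc : b ≠ c) {x y : S} (hx : PE a x)
    (hy : PE b y) (hz : PE c (x * y)) : TripABC a b c S :=
  TripABC.of_mult hm hm' ha hb hc hab hac hbc hx hy hz.inv (mul_inv_cancel _)

theorem pe_of_order {S : Type u} [Group S] {a : ℕ} (ha : a.Prime) {x : S} (k : ℕ) (h : orderOf x = a ^ (k + 1)) :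
    PE a x := by
  refine ⟨?_, k + 1, h⟩
  rintro rfl
  rw [orderOf_one] at h
  exact (Nat.one_lt_pow (Nat.succ_ne_zero k) ha.one_lt).ne h

/-- order dividing a prime power -/
theorem pe_of_pow {S : Type u} [Group S] {a : ℕ} (ha : a.Prime) {x : S} (k : ℕ) (h : x ^ a ^ k = 1) (h1 : x ≠ 1) :
    PE a x := by
  refine ⟨h1, ?_⟩
  obtain ⟨j, -, hj⟩ := (Nat.dvd_prime_pow ha).1 (orderOf_dvd_of_pow_eq_one h)
  exact ⟨j, hj⟩

/-- prime divisors from a factorization -/
theorem prime_mem {p n : ℕ} (hp : p.Prime) (l : List ℕ) (hl : ∀ q ∈ l, q.Prime) (k : ℕ) (h : p ∣ n)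
    (hn : n ∣ l.prod ^ k) : p ∈ l := by
  have h1 : p ∣ l.prod := hp.dvd_of_dvd_pow (h.trans hn)
  rw [Prime.dvd_prod_iff hp.prime] at h1
  obtain ⟨q, hq, hpq⟩ := h1
  rwa [(Nat.prime_dvd_prime_iff_eq hp (hl q hq)).1 hpq]

end Cfsg.Agent.H536.PQR
end

-- part: H517/PQR/Fi23
section
set_option autoImplicit false
set_option maxRecDepth 100000

/-!
# S3988 (helper517): the row of `Fi23`

`2.Fi22` (S1688) for `3, 5, 7, 11, 13`; `2^11.M23` (helper286) for `23`; for `17` the triple
`x = c e j`, `y = f h d g b a`, `x y` of order 17 (the Coxeter element of `Y_341`).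
-/

namespace Cfsg.Agent.H517.PQR.Fi23Row

open Cfsg.Agent.H562.PQR
open Cfsg Subgroup Cfsg.Agent.Lib.PermNetPt
open Cfsg.Agent.Fischer.Fi23Nets Cfsg.Agent.Fischer.Fi23Rel Cfsg.Agent.Fischer.Fi23Hom Cfsg.Agent.Fischer.Fi23Orb
open Cfsg.Agent.Fischer.Fi23Z
open Cfsg.Agent.Fischer.Fi23Final (gen_sq gen_rel conj_of_edge gens_top)
open Cfsg.Agent.Fischer.Fi23Class (gen_comm)
open Cfsg.Agent.Fischer.Fi23Simple (card_Fi23 isFi23 rho_injective)
open Cfsg.Agent.KFacts.FiTTh.BasChk Cfsg.Agent.KFacts.FiTTh.BasFi
open Cfsg.Agent.KFacts.FiTTh.Cent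
open Cfsg.Spor Cfsg.Spor.Fi23

theorem eq_one_of_fix (w : List Gen) (h : ∀ x : Gen, chkPt (w.map net) (pn x) (pn x) = true) : word w = 1 := by
  have hc : ∀ x : Gen, word w * gen x = gen x * word w := by
    intro x
    obtain ⟨g, h1, h2⟩ := ptgen x
    have h3 := rho_of_chkPt (h x)
    rw [← h2, fixes_iff, h1] at h3
    exact h3
  have central : ∀ y : Fi23, word w * y = y * word w := by
    intro y
    have h : y ∈ centralizer ({word w} : Set Fi23) := by
      have h1 : (⊤ : Subgroup Fi23) ≤ centralizer ({word w} : Set Fi23) := by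
        rw [← gens_top, closure_le]
        rintro _ ⟨x, rfl⟩
        rw [SetLike.mem_coe, mem_centralizer_singleton_iff]
        exact (hc x).symm
      exact h1 trivial
    exact (mem_centralizer_singleton_iff.1 h).symm
  have h1 : word w ∈ center Fi23 := mem_center_iff.2 fun y => (central y).symm
  have h2 := Cfsg.Agent.Fischer.Fi23Cover.center_eq_bot_of_simple isFi23.1 not_prime
  rw [h2] at h1
  exact mem_bot.1 h1

theorem word_rep (l : List Gen) (n : ℕ) : word (List.replicate n l).flatten = (word l) ^ n := by
  induction n with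
  | zero => rw [List.replicate_zero, List.flatten_nil, word_nil, pow_zero]
  | succ n ih => rw [List.replicate_succ, List.flatten_cons, word_append, ih, pow_succ']

def wx : List Gen := [.c, .e, .j]
def wy : List Gen := [.f, .h, .d, .g, .b, .a]

theorem x_sq : word wx ^ 2 = 1 := by
  rw [← word_rep]
  refine eq_one_of_fix _ fun x => ?_
  cases x <;> decide +kernel

theorem y_cube : word wy ^ 3 = 1 := by
  rw [← word_rep]
  refine eq_one_of_fix _ fun x => ?_
  cases x <;> decide +kernel

theorem z_pow : word (wx ++ wy) ^ 17 = 1 := by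
  rw [← word_rep]
  refine eq_one_of_fix _ fun x => ?_
  cases x <;> decide +kernel

theorem ne_one {w : List Gen} {a b : ℕ} (h : chkPt (w.map net) a b = true) (hab : a ≠ b) : word w ≠ 1 := by
  intro h1
  have h2 := rho_of_chkPt h
  rw [h1, map_one, Equiv.Perm.one_apply] at h2
  exact hab h2

/-! ### `p = 17` -/

theorem x_ne : word wx ≠ 1 :=
  ne_one (a := 8004) (b := 6526) (by decide +kernel) (by decide)

theorem y_ne : word wy ≠ 1 :=
  ne_one (a := 11589) (b := 9592) (by decide +kernel) (by decide)

theorem z_ne : word (wx ++ wy) ≠ 1 :=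
  ne_one (a := 11589) (b := 7834) (by decide +kernel) (by decide)

theorem pe_of_pow {G : Type*} [Group G] {a : ℕ} (ha : a.Prime) {x : G} (h1 : x ≠ 1) (h : x ^ a = 1) : PE a x := by
  have : Fact a.Prime := ⟨ha⟩
  exact PE.of_orderOf ha ((orderOf_eq_prime_iff).2 ⟨h, h1⟩)

theorem trip17 : TripABC 2 3 17 Fi23 := by
  have hz : PE 17 (word (wx ++ wy))⁻¹ := (pe_of_pow (by norm_num) z_ne z_pow).inv
  refine TripABC.of_mult (m := 1) (Cfsg.Agent.H80.Fpf.multDvd_of_cyclic one_ne_zero Cfsg.Agent.S2054.result) ?_
    (by norm_num) (by norm_num) (by norm_num) (by norm_num) (by norm_num) (by norm_num)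
    (pe_of_pow (by norm_num) x_ne x_sq) (pe_of_pow (by norm_num) y_ne y_cube) hz ?_
  · intro s hs h1
    exact absurd (Nat.dvd_one.1 h1) hs.one_lt.ne'
  · rw [word_append, mul_inv_cancel]

/-! ### `p = 23` -/

/-- the subgroup `2^11.M23` -/
def L : Subgroup Fi23 where
  carrier := {n | ∃ m ∈ Spor.M23, ∀ p, n * e p * n⁻¹ = e (m p)}
  mul_mem' := by
    rintro a b ⟨m, hm, h⟩ ⟨m', hm', h'⟩
    refine ⟨m * m', mul_mem hm hm', fun p => ?_⟩
    rw [Equiv.Perm.mul_apply, ← h, ← h']
    group
  one_mem' := ⟨1, one_mem _, fun p => by rw [one_mul, inv_one, mul_one]; rfl⟩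
  inv_mem' := by
    rintro a ⟨m, hm, h⟩
    refine ⟨m⁻¹, inv_mem hm, fun p => ?_⟩
    have h1 := h (m⁻¹ p)
    have h2 : m (m⁻¹ p) = p := m.apply_symm_apply p
    rw [h2] at h1
    rw [← h1]
    group

theorem L_unique {n : Fi23} {m m' : Equiv.Perm GolayPt} (h : ∀ p, n * e p * n⁻¹ = e (m p))
    (h' : ∀ p, n * e p * n⁻¹ = e (m' p)) : m = m' := Equiv.ext fun p => e_inj ((h p).symm.trans (h' p))

/-- the map to `M23` -/
noncomputable def gm : L →* Spor.M23 where
  toFun n := ⟨n.2.choose, n.2.choose_spec.1⟩
  map_one' := Subtype.ext (L_unique (1 : L).2.choose_spec.2 fun p => by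
    rw [Subgroup.coe_one, one_mul, inv_one, mul_one]; rfl)
  map_mul' a b := Subtype.ext (L_unique (a * b).2.choose_spec.2 fun p => by
    have ha := a.2.choose_spec.2
    have hb := b.2.choose_spec.2
    rw [Subgroup.coe_mul]
    show _ = e ((a.2.choose * b.2.choose) p)
    rw [Equiv.Perm.mul_apply, ← ha, ← hb]
    group)

theorem gm_surj : Function.Surjective gm := by
  rintro ⟨m, hm⟩
  obtain ⟨n, hn⟩ := full m hm
  refine ⟨⟨n, m, hm, hn⟩, Subtype.ext (L_unique (Subtype.property (⟨n, m, hm, hn⟩ : L)).choose_spec.2 hn)⟩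

/-- `M23` is the point stabiliser in `M24`. -/
def mulEquiv23 : Spor.M23 ≃* ↥(MulAction.stabilizer M24 (none : GolayPt)) where
  toFun g := ⟨⟨g.1, g.2.1⟩, g.2.2⟩
  invFun g := ⟨(g.1 : Equiv.Perm GolayPt), g.1.2, g.2⟩
  left_inv _ := rfl
  right_inv _ := rfl
  map_mul' _ _ := rfl

theorem simple_M23 : IsSimpleGroup Spor.M23 := by
  have := Cfsg.Agent.S0377.result (none : GolayPt)
  exact (MulEquiv.isSimpleGroup_congr mulEquiv23).2 this

theorem notMin23 : NotMin 23 Fi23 := by
  have hc := Cfsg.Agent.SporadicA.MathieuRecog.card_M23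
  have : IsSimpleGroup Spor.M23 := simple_M23
  have : Finite Spor.M23 := Nat.finite_of_card_ne_zero (by rw [hc]; norm_num)
  obtain ⟨h1, hcard⟩ : IsFi23 Fi23 := Cfsg.Agent.S1697.result
  have : Finite Fi23 := Nat.finite_of_card_ne_zero (by rw [hcard]; norm_num)
  refine NotMin.of_hom (T := Spor.M23) (exists_ncomm (by rw [hc]; norm_num)) (by norm_num) (by rw [hc]; norm_num) L.subtype gm gm_surj
    ?_ ?_
  · intro x hx
    have h2 : x = 1 := Subtype.ext hx
    rw [h2]
    exact one_mem _
  · intro hs
    -- the kernel of `L → M23` is normal in `Fi23`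
    have htop : L = ⊤ := by
      rw [eq_top_iff]
      intro y _
      obtain ⟨n, hn⟩ := hs y
      rw [← hn]
      exact n.2
    let E : Fi23 ≃* L := (Subgroup.topEquiv.symm).trans (MulEquiv.subgroupCongr htop.symm)
    have := h1
    have hsL : IsSimpleGroup L := (MulEquiv.isSimpleGroup_congr E).1 h1
    have hcL : Nat.card L = 4089470473293004800 := by rw [← Nat.card_congr E.toEquiv, hcard]
    rcases (inferInstance : gm.ker.Normal).eq_bot_or_eq_top with h | h
    · have h2 : Function.Injective gm := (MonoidHom.ker_eq_bot_iff gm).1 h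
      have h3 := Nat.card_le_card_of_injective gm h2
      rw [hcL, hc] at h3
      norm_num at h3
    · have h2 : ∀ m : Spor.M23, m = 1 := by
        intro m
        obtain ⟨n, rfl⟩ := gm_surj m
        exact (MonoidHom.mem_ker (f := gm)).1 (h ▸ Subgroup.mem_top n)
      have h3 : Nat.card Spor.M23 = 1 := Nat.card_eq_one_iff_unique.2 ⟨⟨fun a b => by rw [h2 a, h2 b]⟩, ⟨1⟩⟩
      rw [hc] at h3
      norm_num at h3

theorem fi23_primes {p : ℕ} (hp : p.Prime) (h : p ∣ 4089470473293004800) :
    p = 2 ∨ p = 3 ∨ p = 5 ∨ p = 7 ∨ p = 11 ∨ p = 13 ∨ p = 17 ∨ p = 23 := by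
  rw [show 4089470473293004800 = 2 ^ 18 * 3 ^ 13 * 5 ^ 2 * 7 * 11 * 13 * 17 * 23 by norm_num, hp.dvd_mul, hp.dvd_mul,
    hp.dvd_mul, hp.dvd_mul, hp.dvd_mul, hp.dvd_mul, hp.dvd_mul] at h
  have key : ∀ {q : ℕ}, q.Prime → p ∣ q → p = q := fun hq h1 => (Nat.prime_dvd_prime_iff_eq hp hq).1 h1
  rcases h with ((((((h | h) | h) | h) | h) | h) | h) | h
  · exact Or.inl (key (by norm_num) (hp.dvd_of_dvd_pow h))
  · exact Or.inr (Or.inl (key (by norm_num) (hp.dvd_of_dvd_pow h)))
  · exact Or.inr (Or.inr (Or.inl (key (by norm_num) (hp.dvd_of_dvd_pow h))))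
  · exact Or.inr (Or.inr (Or.inr (Or.inl (key (by norm_num) h))))
  · exact Or.inr (Or.inr (Or.inr (Or.inr (Or.inl (key (by norm_num) h)))))
  · exact Or.inr (Or.inr (Or.inr (Or.inr (Or.inr (Or.inl (key (by norm_num) h))))))
  · exact Or.inr (Or.inr (Or.inr (Or.inr (Or.inr (Or.inr (Or.inl (key (by norm_num) h)))))))
  · exact Or.inr (Or.inr (Or.inr (Or.inr (Or.inr (Or.inr (Or.inr (key (by norm_num) h)))))))

end Cfsg.Agent.H517.PQR.Fi23Row

namespace Cfsg.Agent.H517.PQR

open Cfsg.Agent.H562.PQR Fi23Row

/-- **the row of `Fi23`** -/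
theorem row_Fi23 : RowOdd Cfsg.Spor.Fi23 := by
  have hcard := Cfsg.Agent.S1697.result.2
  have : Finite Cfsg.Spor.Fi23 := Nat.finite_of_card_ne_zero (by rw [hcard]; norm_num)
  intro p hp hp2 hd
  rw [hcard] at hd
  have h1 : (p = 3 ∨ p = 5 ∨ p = 7 ∨ p = 11 ∨ p = 13) → NotMin p Cfsg.Spor.Fi23 := by
    intro h
    have hc2 := Cfsg.Agent.S1696.result.2
    have : IsSimpleGroup Cfsg.Spor.Fi22 := Cfsg.Agent.S1696.result.1
    have : Finite Cfsg.Spor.Fi22 := Nat.finite_of_card_ne_zero (by rw [hc2]; norm_num)
    refine notMin_of_cover (by rw [hc2]; norm_num) Cfsg.Agent.S1688.result hp ?_ (by rw [hc2, hcard]; norm_num)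
    rw [hc2]
    rcases h with rfl | rfl | rfl | rfl | rfl <;> norm_num
  rcases fi23_primes hp hd with h | h | h | h | h | h | h | h
  · exact absurd h hp2
  · exact Or.inl (h1 (Or.inl h))
  · exact Or.inl (h1 (Or.inr (Or.inl h)))
  · exact Or.inl (h1 (Or.inr (Or.inr (Or.inl h))))
  · exact Or.inl (h1 (Or.inr (Or.inr (Or.inr (Or.inl h)))))
  · exact Or.inl (h1 (Or.inr (Or.inr (Or.inr (Or.inr h)))))
  · rw [h]
    exact Or.inr ⟨2, 3, 17, Or.inr (Or.inr rfl), Or.inl rfl, trip17⟩
  · rw [h]
    exact Or.inl notMin23

end Cfsg.Agent.H517.PQR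
end

private theorem dce_6900c377ee55 : _root_.True := by
  try have : _root_.True := by simp only [_root_.Cfsg.Agent.H796.PQR.JFourWords.es.eq_1]
  try have : _root_.True := by simp only [_root_.Cfsg.Agent.H796.PQR.JFourWords.ns.eq_1]
  exact _root_.True.intro
end

-- part: H606/PQR/Avg
section
set_option linter.all false
open scoped Cfsg.Agent.FastGrp

/-!
# Averages of characters over sets, double cosets (helper606, for S3988)

* `Avg X r` : `‖∑_{x ∈ X} χ(x)‖ ≤ r |X| ‖χ(1)‖` for all nontrivial irreducible characters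
* `Avg.base` : from a bound of the degrees
* `Avg.lift` : lifting along `G ≥ N → K`
* `sq_le_of_cover` : `⟨χ_H, 1⟩² ≤` number of the double cosets of `H`
* `Avg.exists_mul_mem` : the criterion for products of conjugates
-/

set_option autoImplicit false
set_option linter.dupNamespace false
set_option linter.unusedSectionVars false

open scoped ComplexConjugate
open Cfsg

namespace Cfsg.Agent.H606.Avg

open Cfsg.Agent.Characters.Core Cfsg.Agent.Characters.ClassMul
open Cfsg.Agent.H588.Ratio (sum_norm_sq sum_ne_one_norm_sq one sum_norm_sq_set)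

universe u v

/-- the average of the nontrivial irreducible characters over `X` is at most `r` times the degree -/
def Avg {G : Type u} [Group G] (X : Finset G) (r : ℝ) : Prop :=
  ∀ χ : G → ℂ, IsIrrCharacter G χ → χ ≠ 1 → ‖∑ x ∈ X, χ x‖ ≤ r * X.card * ‖χ 1‖

section base

variable {G : Type u} [Group G] [Finite G]

/-- `∑_g |χ(g)|² = |G|` -/
theorem sum_sq [Fintype G] {χ : G → ℂ} (hχ : IsIrrCharacter G χ) : ∑ g : G, ‖χ g‖ ^ 2 = (Nat.card G : ℝ) := by
  have h1 := classInner_irr_self hχ
  rw [classInner_def] at h1
  have h0 : (Nat.card G : ℂ) ≠ 0 := by exact_mod_cast Nat.card_pos.ne'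
  have h2 : ∑ g : G, χ g * conj (χ g) = (Nat.card G : ℂ) := by
    field_simp at h1
    exact h1
  have h3 : ((∑ g : G, ‖χ g‖ ^ 2 : ℝ) : ℂ) = ((Nat.card G : ℝ) : ℂ) := by
    rw [Complex.ofReal_natCast, ← h2, Complex.ofReal_sum]
    refine Finset.sum_congr rfl fun g _ => ?_
    rw [Complex.mul_conj, Complex.normSq_eq_norm_sq]
  exact_mod_cast h3

theorem Avg.base {X : Finset G} {r D : ℝ} (hr : 0 ≤ r) (hD0 : 0 ≤ D)
    (hD : ∀ χ : G → ℂ, IsIrrCharacter G χ → χ ≠ 1 → D ≤ ‖χ 1‖)
    (hnum : (Nat.card G : ℝ) ≤ r ^ 2 * X.card * D ^ 2) : Avg X r := by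
  intro χ hχ h1
  have := Fintype.ofFinite G
  have h2 := hD χ hχ h1
  have h3 : ‖∑ x ∈ X, χ x‖ ^ 2 ≤ X.card * ∑ x ∈ X, ‖χ x‖ ^ 2 := by
    have h4 : ‖∑ x ∈ X, χ x‖ ≤ ∑ x ∈ X, ‖χ x‖ := norm_sum_le _ _
    have h5 := Finset.sum_mul_sq_le_sq_mul_sq X (fun _ => (1 : ℝ)) (fun x => ‖χ x‖)
    simp only [one_mul, one_pow, Finset.sum_const, nsmul_eq_mul, mul_one] at h5
    exact (pow_le_pow_left₀ (norm_nonneg _) h4 2).trans h5
  have h4 : ∑ x ∈ X, ‖χ x‖ ^ 2 ≤ (Nat.card G : ℝ) := by
    rw [← sum_sq hχ]
    exact Finset.sum_le_univ_sum_of_nonneg fun _ => by positivity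
  have h5 : ‖∑ x ∈ X, χ x‖ ^ 2 ≤ (r * X.card * ‖χ 1‖) ^ 2 := by
    calc ‖∑ x ∈ X, χ x‖ ^ 2 ≤ X.card * (Nat.card G : ℝ) := h3.trans (mul_le_mul_of_nonneg_left h4 (by positivity))
      _ ≤ X.card * (r ^ 2 * X.card * D ^ 2) := mul_le_mul_of_nonneg_left hnum (by positivity)
      _ = (r * X.card) ^ 2 * D ^ 2 := by ring
      _ ≤ (r * X.card) ^ 2 * ‖χ 1‖ ^ 2 := mul_le_mul_of_nonneg_left (pow_le_pow_left₀ hD0 h2 2) (by positivity)
      _ = (r * X.card * ‖χ 1‖) ^ 2 := by ring
  exact abs_le_of_sq_le_sq' h5 (by positivity) |>.2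

end base

section lift

variable {G : Type u} [Group G] [Finite G] {K : Type v} [Group K] [Finite K] {N : Subgroup G}

/-- the preimage of a subset of the quotient -/
noncomputable def pre [Fintype N] (φ : ↥N →* K) (R : Finset K) : Finset G :=
  open scoped Classical in (Finset.univ.filter fun n : N => φ n ∈ R).map ⟨Subtype.val, Subtype.val_injective⟩

theorem card_fiber [Fintype N] (φ : ↥N →* K) (hφ : Function.Surjective φ) (k : K) :
    open scoped Classical in (Finset.univ.filter fun n : N => φ n = k).card = Nat.card φ.ker := by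
  classical
  obtain ⟨m, rfl⟩ := hφ k
  rw [← Fintype.card_subtype, ← Nat.card_eq_fintype_card]
  refine Nat.card_congr ⟨fun n => ⟨m⁻¹ * n.1, ?_⟩, fun a => ⟨m * a.1, ?_⟩, fun n => ?_, fun a => ?_⟩
  · rw [MonoidHom.mem_ker, map_mul, map_inv, n.2, inv_mul_cancel]
  · rw [map_mul, MonoidHom.mem_ker.1 a.2, mul_one]
  · exact Subtype.ext (mul_inv_cancel_left _ _)
  · exact Subtype.ext (inv_mul_cancel_left _ _)

theorem mem_pre [Fintype N] {φ : ↥N →* K} {R : Finset K} {g : G} :
    g ∈ pre φ R ↔ ∃ h : g ∈ N, φ ⟨g, h⟩ ∈ R := by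
  classical
  unfold pre
  simp only [Finset.mem_map, Finset.mem_filter, Finset.mem_univ, true_and, Function.Embedding.coeFn_mk]
  constructor
  · rintro ⟨n, hn, rfl⟩
    exact ⟨n.2, hn⟩
  · rintro ⟨h, hg⟩
    exact ⟨⟨g, h⟩, hg, rfl⟩

theorem sum_pre [Fintype N] (φ : ↥N →* K) (R : Finset K) {M : Type*} [AddCommMonoid M] (f : G → M) :
    open scoped Classical in ∑ g ∈ pre φ R, f g = ∑ k ∈ R, ∑ n ∈ Finset.univ.filter (fun n : N => φ n = k), f n := by
  classical
  unfold pre
  rw [Finset.sum_map]
  have h1 := Finset.sum_fiberwise_of_maps_to (s := Finset.univ.filter fun n : N => φ n ∈ R) (t := R) (g := fun n => φ n)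
    (fun n hn => (Finset.mem_filter.1 hn).2) (fun n => f (n : G))
  show ∑ n ∈ Finset.univ.filter (fun n : N => φ n ∈ R), f (n : G) = _
  rw [← h1]
  refine Finset.sum_congr rfl fun k hk => Finset.sum_congr ?_ fun _ _ => rfl
  ext n
  simp only [Finset.mem_filter, Finset.mem_univ, true_and]
  exact ⟨fun h => h.2, fun h => ⟨h ▸ hk, h⟩⟩

theorem card_pre [Fintype N] {φ : ↥N →* K} (hφ : Function.Surjective φ) (R : Finset K) :
    (pre φ R).card = Nat.card φ.ker * R.card := by
  classical
  rw [Finset.card_eq_sum_ones, sum_pre φ R (fun _ => 1)]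
  simp only [← Finset.card_eq_sum_ones]
  rw [Finset.sum_congr rfl fun k _ => card_fiber φ hφ k, Finset.sum_const, smul_eq_mul, mul_comm]

/-- **Lifting.** -/
theorem Avg.lift [Fintype N] {φ : ↥N →* K} (hφ : Function.Surjective φ) {R : Finset K} {r τ : ℝ} (hr : 0 ≤ r)
    (h : Avg R r) (hτ : ∀ χ : G → ℂ, IsIrrCharacter G χ → χ ≠ 1 → ∀ m : ℕ,
      classInner (fun n : N => χ n) 1 = m → (m : ℝ) ≤ τ * ‖χ 1‖) : Avg (pre φ R) (τ + r) := by
  classical
  intro χ hχ h1
  have := Fintype.ofFinite G
  have := Fintype.ofFinite K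
  have := finite_irr (G := K)
  have := Fintype.ofFinite (IrrCharacter K)
  have hθ : IsCharacter N (fun n : N => χ n) := isCharacter_comp N.subtype (isIrr_isCharacter hχ)
  have hK0 : (Nat.card K : ℂ) ≠ 0 := by exact_mod_cast Nat.card_pos.ne'
  have hN0 : (Nat.card N : ℂ) ≠ 0 := by exact_mod_cast Nat.card_pos.ne'
  have hcard : Nat.card N = Nat.card K * Nat.card φ.ker := by
    have h2 := φ.ker.card_mul_index
    rw [Subgroup.index_ker, Nat.card_congr (Equiv.ofBijective (fun x : φ.range => (x : K))
      ⟨Subtype.val_injective, fun k => by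
        obtain ⟨n, hn⟩ := hφ k
        exact ⟨⟨k, n, hn⟩, rfl⟩⟩)] at h2
    rw [← h2, mul_comm]
  set a : ℕ := Nat.card φ.ker with ha
  have ha0 : 0 < a := Nat.card_pos
  -- the pushed function
  let f : K → ℂ := fun k => ∑ n ∈ Finset.univ.filter (fun n : N => φ n = k), χ n
  have hf : IsClassFunction K f := by
    intro k x
    obtain ⟨m, rfl⟩ := hφ x
    show ∑ n ∈ Finset.univ.filter (fun n : N => φ n = _), χ n = ∑ n ∈ Finset.univ.filter (fun n : N => φ n = _), χ n
    symm
    refine Finset.sum_bij (fun n _ => m * n * m⁻¹) ?_ ?_ ?_ ?_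
    · intro n hn
      rw [Finset.mem_filter] at hn ⊢
      refine ⟨Finset.mem_univ _, ?_⟩
      rw [map_mul, map_mul, map_inv, hn.2]
    · intro n _ n' _ e
      exact mul_left_cancel (mul_right_cancel e)
    · intro n hn
      rw [Finset.mem_filter] at hn
      refine ⟨m⁻¹ * n * m, ?_, by group⟩
      rw [Finset.mem_filter]
      refine ⟨Finset.mem_univ _, ?_⟩
      rw [map_mul, map_mul, map_inv, hn.2]
      group
    · intro n _
      exact (isIrr_isClassFunction hχ (n : G) (m : G)).symm
  -- the coefficients
  have hmul : ∀ ψ : IrrCharacter K, ∃ m : ℕ, classInner f (ψ : K → ℂ) = a * m ∧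
      classInner (fun n : N => χ n) (fun n : N => (ψ : K → ℂ) (φ n)) = m := by
    intro ψ
    obtain ⟨m, hm⟩ := classInner_isNat hθ (isCharacter_comp φ (isIrr_isCharacter ψ.2))
    refine ⟨m, ?_, hm⟩
    have hm' : classInner (fun n : N => χ n) (fun n : N => (ψ : K → ℂ) (φ n)) = m := hm
    rw [classInner_def] at hm' ⊢
    have e : ∑ k : K, f k * conj ((ψ : K → ℂ) k) = ∑ n : N, χ n * conj ((ψ : K → ℂ) (φ n)) := by
      have e1 : ∀ k : K, f k * conj ((ψ : K → ℂ) k) =
          ∑ n ∈ Finset.univ.filter (fun n : N => φ n = k), χ n * conj ((ψ : K → ℂ) (φ n)) := by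
        intro k
        show (∑ n ∈ Finset.univ.filter (fun n : N => φ n = k), χ n) * _ = _
        rw [Finset.sum_mul]
        refine Finset.sum_congr rfl fun n hn => ?_
        rw [(Finset.mem_filter.1 hn).2]
      rw [Finset.sum_congr rfl fun k _ => e1 k]
      exact Finset.sum_fiberwise Finset.univ (fun n : N => φ n) (fun n : N => χ n * conj ((ψ : K → ℂ) (φ n)))
    have ha0C : (a : ℂ) ≠ 0 := by exact_mod_cast ha0.ne'
    rw [e, ← hm', hcard]
    push_cast
    rw [mul_inv, mul_comm (Nat.card K : ℂ)⁻¹ (a : ℂ)⁻¹, ← mul_assoc, ← mul_assoc, mul_inv_cancel₀ ha0C, one_mul]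
  choose m hm hm' using hmul
  have hfsum : ∀ k, f k = ∑ ψ : IrrCharacter K, (a * m ψ : ℂ) * (ψ : K → ℂ) k := by
    intro k
    conv_lhs => rw [classFunction_eq_sum hf]
    rw [Finset.sum_apply]
    refine Finset.sum_congr rfl fun ψ _ => ?_
    rw [Pi.smul_apply, hm, smul_eq_mul]
  -- degrees
  have hdeg : ∀ ψ : IrrCharacter K, ((ψ : K → ℂ) 1 : ℂ) = (‖(ψ : K → ℂ) 1‖ : ℂ) := by
    intro ψ
    obtain ⟨n, -, hn⟩ := isIrr_apply_one ψ.2
    rw [hn, Complex.norm_natCast]
    simp
  have hsum : ∑ ψ : IrrCharacter K, (m ψ : ℝ) * ‖(ψ : K → ℂ) 1‖ ≤ ‖χ 1‖ := by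
    have h2 := hfsum 1
    have h3 : ‖f 1‖ ≤ a * ‖χ 1‖ := by
      show ‖∑ n ∈ Finset.univ.filter (fun n : N => φ n = 1), χ n‖ ≤ _
      refine (norm_sum_le _ _).trans ?_
      refine (Finset.sum_le_card_nsmul _ _ ‖χ 1‖ fun n _ => ?_).trans ?_
      · obtain ⟨d, ρ, rfl⟩ := isIrr_isCharacter hχ
        have e := Cfsg.Agent.Characters.Values.norm_character_le ρ (n : G)
        rw [Representation.char_one, Complex.norm_natCast]
        exact e
      · rw [card_fiber φ hφ 1, nsmul_eq_mul]
    have h4 : f 1 = ((a * ∑ ψ : IrrCharacter K, (m ψ : ℝ) * ‖(ψ : K → ℂ) 1‖ : ℝ) : ℂ) := by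
      rw [h2]
      push_cast
      rw [Finset.mul_sum]
      refine Finset.sum_congr rfl fun ψ _ => ?_
      rw [mul_assoc]
      conv_lhs => rw [hdeg ψ]
    rw [h4, Complex.norm_real, Real.norm_eq_abs, abs_of_nonneg (by positivity)] at h3
    have ha' : (0 : ℝ) < a := by exact_mod_cast ha0
    exact le_of_mul_le_mul_left h3 ha'
  -- the sum
  rw [sum_pre φ R χ, card_pre hφ R]
  have h2 : ∑ k ∈ R, ∑ n ∈ Finset.univ.filter (fun n : N => φ n = k), χ n =
      a * ∑ ψ : IrrCharacter K, (m ψ : ℂ) * ∑ k ∈ R, (ψ : K → ℂ) k := by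
    have e : ∀ k ∈ R, ∑ n ∈ Finset.univ.filter (fun n : N => φ n = k), χ n =
        ∑ ψ : IrrCharacter K, (a * m ψ : ℂ) * (ψ : K → ℂ) k := fun k _ => hfsum k
    rw [Finset.sum_congr rfl e, Finset.sum_comm, Finset.mul_sum]
    refine Finset.sum_congr rfl fun ψ _ => ?_
    rw [← Finset.mul_sum]
    ring
  rw [h2, norm_mul, Complex.norm_natCast]
  have h3 : ‖∑ ψ : IrrCharacter K, (m ψ : ℂ) * ∑ k ∈ R, (ψ : K → ℂ) k‖ ≤ R.card * ((τ + r) * ‖χ 1‖) := by
    refine (norm_sum_le _ _).trans ?_
    rw [← Finset.add_sum_erase _ _ (Finset.mem_univ (one : IrrCharacter K))]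
    have e1 : ‖(m (one : IrrCharacter K) : ℂ) * ∑ k ∈ R, ((one : IrrCharacter K) : K → ℂ) k‖ ≤ R.card * (τ * ‖χ 1‖) := by
      have e2 := hτ χ hχ h1 (m one) (by
        rw [← hm' one]
        rfl)
      rw [norm_mul, Complex.norm_natCast]
      have e3 : ‖∑ k ∈ R, ((one : IrrCharacter K) : K → ℂ) k‖ = R.card := by
        show ‖∑ k ∈ R, (1 : ℂ)‖ = _
        rw [Finset.sum_const, nsmul_eq_mul, mul_one, Complex.norm_natCast]
      rw [e3, mul_comm]
      exact mul_le_mul_of_nonneg_left e2 (Nat.cast_nonneg _)
    have e2 : ∑ ψ ∈ Finset.univ.erase (one : IrrCharacter K), ‖(m ψ : ℂ) * ∑ k ∈ R, (ψ : K → ℂ) k‖ ≤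
        R.card * (r * ‖χ 1‖) := by
      have e3 : ∀ ψ ∈ Finset.univ.erase (one : IrrCharacter K), ‖(m ψ : ℂ) * ∑ k ∈ R, (ψ : K → ℂ) k‖ ≤
          r * R.card * (m ψ * ‖(ψ : K → ℂ) 1‖) := by
        intro ψ hψ
        have e4 := h ψ ψ.2 (fun e => (Finset.mem_erase.1 hψ).1 (Subtype.ext e))
        rw [norm_mul, Complex.norm_natCast]
        calc (m ψ : ℝ) * ‖∑ k ∈ R, (ψ : K → ℂ) k‖ ≤ m ψ * (r * R.card * ‖(ψ : K → ℂ) 1‖) :=
              mul_le_mul_of_nonneg_left e4 (by positivity)
          _ = _ := by ring
      refine (Finset.sum_le_sum e3).trans ?_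
      rw [← Finset.mul_sum]
      have e5 : ∑ ψ ∈ Finset.univ.erase (one : IrrCharacter K), (m ψ : ℝ) * ‖(ψ : K → ℂ) 1‖ ≤ ‖χ 1‖ :=
        (Finset.sum_le_sum_of_subset_of_nonneg (Finset.erase_subset _ _) fun _ _ _ => by positivity).trans hsum
      calc r * R.card * _ ≤ r * R.card * ‖χ 1‖ := mul_le_mul_of_nonneg_left e5 (mul_nonneg hr (Nat.cast_nonneg _))
        _ = _ := by ring
    linarith
  calc (a : ℝ) * _ ≤ a * (R.card * ((τ + r) * ‖χ 1‖)) := mul_le_mul_of_nonneg_left h3 (by positivity)
    _ = _ := by push_cast; ring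

end lift

end Cfsg.Agent.H606.Avg
end
end
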